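import Cfsg.Agent.Fus.Small2
import Cfsg.Agent.Coprime.PGroup
import Cfsg.Agent.FusB.RkP1

/-! Toolkit for sections of `p`-groups inside a finite ambient group: trivial action on a section,
weights of an element on a section of order `p`, sectional rank at most three. -/

set_option autoImplicit false
set_option linter.style.haveILetI false
set_option linter.unusedSectionVars false
set_option linter.unusedVariables false

namespace CF.FusC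

open Cfsg Subgroup CF.Fus
open scoped commutatorElement

universe u

abbrev Nm {G : Type*} [Group G] (X : Subgroup G) : Subgroup G := normalizer (X : Set G)
abbrev Cn {G : Type*} [Group G] (X : Subgroup G) : Subgroup G := centralizer (X : Set G)
abbrev Fr {G : Type*} [Group G] (X : Subgroup G) : Subgroup G := CF.Coprime.frattiniOf X

variable {G : Type u} [Group G] {p : ℕ} {A B C D E K M N P R S T U W X Y : Subgroup G}
  {a b c d e g h s t u v w x y z : G} {i j k : ℤ}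

theorem exists_quot [Finite G] (W : Subgroup G) : ∃ (Q : Type u) (_ : Group Q) (_ : Finite Q) (π : G → Q),
    MulOn π (Nm W) ∧ ∀ x ∈ Nm W, π x = 1 ↔ x ∈ W := by
  haveI : (W.subgroupOf (Nm W)).Normal := normal_in_normalizer
  refine ⟨_, inferInstance, inferInstance, Fus.ext (QuotientGroup.mk' (W.subgroupOf (Nm W))), mulOn_ext _, fun x hx => ?_⟩
  rw [ext_of_mem _ hx, QuotientGroup.mk'_apply, QuotientGroup.eq_one_iff, mem_subgroupOf]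

theorem mem_Cn : g ∈ Cn X ↔ ∀ x ∈ X, g * x * g⁻¹ = x := by
  rw [mem_centralizer_iff]
  exact forall₂_congr fun x _ => by rw [mul_inv_eq_iff_eq_mul, eq_comm]

theorem mem_of_inv_mul (h1 : a ∈ K) (h2 : a⁻¹ * b ∈ K) : b ∈ K := by
  have := mul_mem h1 h2; rwa [mul_inv_cancel_left] at this

theorem mem_of_inv_mul' (h1 : b ∈ K) (h2 : a⁻¹ * b ∈ K) : a ∈ K :=
  (K.inv_mem_iff).1 ((K.mul_mem_cancel_right h1).1 h2)

theorem Cn_le_Nm : Cn X ≤ Nm X := centralizer_le_normalizer _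

theorem comm_mem_left (hg : g ∈ Nm X) (hx : x ∈ X) : ⁅x, g⁆ ∈ X := by
  have := mul_mem hx (conj_mem_of_norm hg (X.inv_mem hx))
  rwa [commutatorElement_def, show x * g * x⁻¹ * g⁻¹ = x * (g * x⁻¹ * g⁻¹) by group]

theorem comm_mem_right (hg : g ∈ Nm X) (hx : x ∈ X) : ⁅g, x⁆ ∈ X := by
  rw [← commutatorElement_inv]; exact X.inv_mem (comm_mem_left hg hx)

theorem comm_symm (h : ⁅a, b⁆ ∈ X) : ⁅b, a⁆ ∈ X := by
  rw [← commutatorElement_inv]; exact X.inv_mem h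

theorem norm_of_comm (hBA : B ≤ A) (h : ∀ x ∈ B, ∀ y ∈ A, ⁅x, y⁆ ∈ B) : A ≤ Nm B := fun y hy =>
  mem_normalizer_of (fun x hx => by
    have := mul_mem (comm_symm (h x hx y hy)) hx
    rwa [commutatorElement_def, show y * x * y⁻¹ * x⁻¹ * x = y * x * y⁻¹ by group] at this)
    fun x hx => by
      have := mul_mem (comm_symm (h x hx y⁻¹ (A.inv_mem hy))) hx
      rwa [commutatorElement_def, show y⁻¹ * x * y⁻¹⁻¹ * x⁻¹ * x = y⁻¹ * x * y by group] at this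

theorem norm_inf (h1 : g ∈ Nm A) (h2 : g ∈ Nm B) : g ∈ Nm (A ⊓ B) :=
  mem_normalizer_of (fun _ hx => ⟨conj_mem_of_norm h1 hx.1, conj_mem_of_norm h2 hx.2⟩)
    fun _ hx => ⟨conj_mem_of_norm' h1 hx.1, conj_mem_of_norm' h2 hx.2⟩

theorem norm_sup' (h1 : g ∈ Nm A) (h2 : g ∈ Nm B) : g ∈ Nm (A ⊔ B) :=
  normalizer_inf_normalizer_le_normalizer_sup _ _ ⟨h1, h2⟩

theorem norm_Cn (h1 : g ∈ Nm A) : g ∈ Nm (Cn A) :=
  mem_normalizer_of (fun _ hx => cent_conj h1 hx) fun _ hx => by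
    simpa using cent_conj (Subgroup.inv_mem _ h1) hx

theorem norm_Nm (h1 : g ∈ Nm A) : g ∈ Nm (Nm A) := le_normalizer h1

theorem norm_Fr (h1 : g ∈ Nm A) : g ∈ Nm (Fr A) := CF.Coprime.normalizer_le_normalizer_frattiniOf A h1

theorem Fr_le : Fr A ≤ A := CF.Coprime.frattiniOf_le A

theorem norm_zpowers (h : g * x * g⁻¹ = x) : g ∈ Nm (zpowers x) :=
  Cn_le_Nm (mem_Cn.2 fun y ⟨n, hn⟩ => by
    rw [← hn]; exact ((conj_zpow (a := g) (b := x) (i := n)).symm).trans (by rw [h]))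

/-- elements acting trivially on the section `C / D` -/
def Tr (C D : Subgroup G) : Subgroup G where
  carrier := {g | g ∈ Nm C ∧ g ∈ Nm D ∧ ∀ x ∈ C, x⁻¹ * (g * x * g⁻¹) ∈ D}
  one_mem' := ⟨one_mem _, one_mem _, fun x _ => by simp⟩
  mul_mem' := fun {g h} hg hh => ⟨mul_mem hg.1 hh.1, mul_mem hg.2.1 hh.2.1, fun x hx => by
    have := mul_mem (hg.2.2 x hx) (conj_mem_of_norm hg.2.1 (hh.2.2 x hx))
    rwa [show x⁻¹ * (g * x * g⁻¹) * (g * (x⁻¹ * (h * x * h⁻¹)) * g⁻¹) =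
      x⁻¹ * (g * h * x * (g * h)⁻¹) by group] at this⟩
  inv_mem' := fun {g} hg => ⟨Subgroup.inv_mem _ hg.1, Subgroup.inv_mem _ hg.2.1, fun x hx => by
    have := D.inv_mem (hg.2.2 _ (conj_mem_of_norm' hg.1 hx))
    rwa [show ((g⁻¹ * x * g)⁻¹ * (g * (g⁻¹ * x * g) * g⁻¹))⁻¹ = x⁻¹ * (g⁻¹ * x * g⁻¹⁻¹) by group] at this⟩

theorem Tr.n1 (h : g ∈ Tr C D) : g ∈ Nm C := h.1
theorem Tr.n2 (h : g ∈ Tr C D) : g ∈ Nm D := h.2.1
theorem Tr.act (h : g ∈ Tr C D) (hx : x ∈ C) : x⁻¹ * (g * x * g⁻¹) ∈ D := h.2.2 x hx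
theorem Tr.comm (h : g ∈ Tr C D) (hx : x ∈ C) : ⁅x, g⁆ ∈ D := by
  have := h.2.2 _ (C.inv_mem hx)
  rwa [inv_mul_conj_eq, inv_inv] at this
theorem Tr.comm' (h : g ∈ Tr C D) (hx : x ∈ C) : ⁅g, x⁆ ∈ D := comm_symm (Tr.comm h hx)

theorem mem_Tr_of_comm (h1 : g ∈ Nm C) (h2 : g ∈ Nm D) (h : ∀ x ∈ C, ⁅x, g⁆ ∈ D) : g ∈ Tr C D :=
  ⟨h1, h2, fun x hx => by rw [inv_mul_conj_eq]; exact h _ (C.inv_mem hx)⟩

theorem mem_Tr_of_le [Finite G] (hDC : D ≤ C) (h : ∀ x ∈ C, ⁅x, g⁆ ∈ D) : g ∈ Tr C D := by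
  have k : ∀ x ∈ C, g * x * g⁻¹ = ⁅g, x⁆ * x := fun x _ => by rw [commutatorElement_def]; group
  refine mem_Tr_of_comm (mem_normalizer_of_le (S := ⊤) le_top fun x hx => ?_)
    (mem_normalizer_of_le (S := ⊤) le_top fun x hx => ?_) h
  · rw [k x hx]; exact mul_mem (hDC (comm_symm (h x hx))) hx
  · rw [k x (hDC hx)]; exact mul_mem (comm_symm (h x (hDC hx))) hx

theorem Tr.mono [Finite G] (h : g ∈ Tr C D) (h1 : A ≤ C) (h2 : D ≤ B) (h3 : B ≤ A) : g ∈ Tr A B :=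
  mem_Tr_of_le h3 fun _ hx => h2 (Tr.comm h (h1 hx))

theorem Tr.norm_mid [Finite G] (h : g ∈ Tr C D) (h1 : D ≤ A) (h2 : A ≤ C) : g ∈ Nm A :=
  (Tr.mono h h2 h1 le_rfl).1

theorem mem_Nm_bot : g ∈ Nm (⊥ : Subgroup G) :=
  mem_normalizer_of (fun x hx => by rw [mem_bot.1 hx]; simp) fun x hx => by rw [mem_bot.1 hx]; simp

theorem mem_Tr_bot : g ∈ Tr C ⊥ ↔ g ∈ Cn C := by
  refine ⟨fun h => mem_Cn.2 fun x hx => ?_, fun h => ⟨Cn_le_Nm h, mem_Nm_bot, fun x hx => ?_⟩⟩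
  · have := h.2.2 x hx
    rw [mem_bot, inv_mul_eq_one] at this
    exact this.symm
  · rw [mem_Cn.1 h x hx]; simp

theorem Cn_le_Tr (h : D ≤ C) : Cn C ≤ Tr C D := fun g hg =>
  ⟨Cn_le_Nm hg, Cn_le_Nm (centralizer_le h hg), fun x hx => by rw [mem_Cn.1 hg x hx]; simp⟩

theorem Tr.conj (h1 : g ∈ Nm C) (h2 : g ∈ Nm D) (hh : h ∈ Tr C D) : g * h * g⁻¹ ∈ Tr C D :=
  ⟨conj_mem_of_norm (norm_Nm h1) hh.1, conj_mem_of_norm (norm_Nm h2) hh.2.1, fun x hx => by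
    have := conj_mem_of_norm h2 (hh.2.2 _ (conj_mem_of_norm' h1 hx))
    rwa [show g * ((g⁻¹ * x * g)⁻¹ * (h * (g⁻¹ * x * g) * h⁻¹)) * g⁻¹ =
      x⁻¹ * (g * h * g⁻¹ * x * (g * h * g⁻¹)⁻¹) by group] at this⟩

theorem norm_Tr (h1 : g ∈ Nm C) (h2 : g ∈ Nm D) : g ∈ Nm (Tr C D) :=
  mem_normalizer_of (fun _ => Tr.conj h1 h2) fun _ hx => by
    simpa using Tr.conj (Subgroup.inv_mem _ h1) (Subgroup.inv_mem _ h2) hx

theorem mem_Tr_self (h : g ∈ D) (h1 : D ≤ C) (h2 : C ≤ Nm D) : g ∈ Tr C D :=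
  mem_Tr_of_comm (le_normalizer (h1 h)) (le_normalizer h) fun _ hx => comm_mem_right (h2 hx) h

theorem mem_Tr_same (h : g ∈ Nm C) : g ∈ Tr C C := ⟨h, h, fun _ hx => mul_mem (C.inv_mem hx) (conj_mem_of_norm h hx)⟩

theorem le_Tr_self (h1 : A ≤ Nm B) (h2 : A ≤ Nm C) (h : ∀ x ∈ B, ∀ y ∈ A, ⁅x, y⁆ ∈ C) : A ≤ Tr B C :=
  fun _ hy => mem_Tr_of_comm (h1 hy) (h2 hy) fun x hx => h x hx _ hy

theorem mem_Cn_comm : g ∈ Cn X ↔ ∀ x ∈ X, ⁅x, g⁆ = 1 := by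
  rw [mem_centralizer_iff]
  exact forall₂_congr fun x _ => commutatorElement_eq_one_iff_mul_comm.symm

theorem Cn_symm (h : A ≤ Cn B) : B ≤ Cn A := le_centralizer_iff.1 h

/-- elements commuting with `s` modulo `B` -/
def Cm1 (s : G) (B : Subgroup G) : Subgroup G where
  carrier := {a | a ∈ Nm B ∧ ⁅a, s⁆ ∈ B}
  one_mem' := ⟨one_mem _, by simp⟩
  mul_mem' := fun {a b} ha hb => ⟨mul_mem ha.1 hb.1, by
    have := mul_mem (conj_mem_of_norm ha.1 hb.2) ha.2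
    rwa [show a * ⁅b, s⁆ * a⁻¹ * ⁅a, s⁆ = ⁅a * b, s⁆ by simp only [commutatorElement_def]; group] at this⟩
  inv_mem' := fun {a} ha => ⟨Subgroup.inv_mem _ ha.1, by
    have := conj_mem_of_norm' ha.1 (B.inv_mem ha.2)
    rwa [show a⁻¹ * ⁅a, s⁆⁻¹ * a = ⁅a⁻¹, s⁆ by simp only [commutatorElement_def]; group] at this⟩

theorem mem_Cm1 : a ∈ Cm1 s B ↔ a ∈ Nm B ∧ ⁅a, s⁆ ∈ B := Iff.rfl

theorem comm_of_sup (hn : X ≤ Nm B) (h : Y ⊔ zpowers x = X) (h1 : ∀ y ∈ Y, ⁅y, a⁆ ∈ B) (h2 : ⁅x, a⁆ ∈ B)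
    (hv : v ∈ X) : ⁅v, a⁆ ∈ B := by
  subst h
  exact ((sup_le (fun y hy => ⟨hn (mem_sup_left hy), h1 y hy⟩) (zpowers_le.2
    ⟨hn (mem_sup_right (mem_zpowers x)), h2⟩) : _ ≤ Cm1 a B) hv).2

theorem comm_of_sup2 (hn : X ⊔ Y ≤ Nm B) (h1 : ∀ y ∈ X, ⁅y, a⁆ ∈ B) (h2 : ∀ y ∈ Y, ⁅y, a⁆ ∈ B)
    (hv : v ∈ X ⊔ Y) : ⁅v, a⁆ ∈ B :=
  ((sup_le (fun y hy => ⟨hn (mem_sup_left hy), h1 y hy⟩) fun y hy => ⟨hn (mem_sup_right hy), h2 y hy⟩ :
    _ ≤ Cm1 a B) hv).2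

/-- a cyclic extension of a central section is abelian -/
theorem comm_of_cyc (hn : X ≤ Nm B) (h : Y ⊔ zpowers x = X) (h1 : ∀ y ∈ Y, ∀ a ∈ X, ⁅y, a⁆ ∈ B) (hv : v ∈ X)
    (hw : w ∈ X) : ⁅v, w⁆ ∈ B :=
  have hx : x ∈ X := h ▸ mem_sup_right (mem_zpowers x)
  comm_of_sup hn h (fun y hy => h1 y hy w hw)
    (comm_symm (comm_of_sup hn h (fun y hy => h1 y hy x hx) (by simp) hw)) hv

theorem mem_Tr_of_sup (hn : X ≤ Nm B) (h : Y ⊔ zpowers x = X) (h0 : g ∈ Nm X) (h1 : g ∈ Tr Y B) (h2 : ⁅x, g⁆ ∈ B) :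
    g ∈ Tr X B := mem_Tr_of_comm h0 h1.2.1 fun _ => comm_of_sup hn h (fun _ => Tr.comm h1) h2

/-- elements of `A` commuting with `X` modulo `B` -/
def Cm (A X B : Subgroup G) : Subgroup G := A ⊓ Nm B ⊓ ⨅ x ∈ X, Cm1 x B

theorem mem_Cm (hA : A ≤ Nm B) : a ∈ Cm A X B ↔ a ∈ A ∧ ∀ x ∈ X, ⁅a, x⁆ ∈ B := by
  simp only [Cm, mem_inf, mem_iInf, mem_Cm1]
  exact ⟨fun h => ⟨h.1.1, fun x hx => (h.2 x hx).2⟩, fun h => ⟨⟨h.1, hA h.1⟩, fun x hx => ⟨hA h.1, h.2 x hx⟩⟩⟩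

theorem Cm_le : Cm A X B ≤ A := inf_le_left.trans inf_le_left

theorem conj_comm (g a b : G) : g * ⁅a, b⁆ * g⁻¹ = ⁅g * a * g⁻¹, g * b * g⁻¹⁆ := by
  simp only [commutatorElement_def]; group

theorem norm_Cm [Finite G] (hA : A ≤ Nm B) (h1 : g ∈ Nm A) (h2 : g ∈ Nm X) (h3 : g ∈ Nm B) : g ∈ Nm (Cm A X B) :=
  mem_normalizer_of_le (S := ⊤) le_top fun a ha => by
    rw [mem_Cm hA] at ha ⊢
    refine ⟨conj_mem_of_norm h1 ha.1, fun x hx => ?_⟩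
    have := conj_mem_of_norm h3 (ha.2 _ (conj_mem_of_norm' h2 hx))
    rwa [conj_comm, show g * (g⁻¹ * x * g) * g⁻¹ = x by group] at this

theorem le_Cm (hA : A ≤ Nm B) (h1 : B ≤ A) (h2 : X ≤ Nm B) : B ≤ Cm A X B := fun _ hb =>
  (mem_Cm hA).2 ⟨h1 hb, fun _ hx => comm_mem_left (h2 hx) hb⟩

theorem le_Tr_Cm [Finite G] (hA : A ≤ Nm B) (h1 : B ≤ A) (h2 : X ≤ Nm B) : X ≤ Tr (Cm A X B) B := fun x hx =>
  mem_Tr_of_le (le_Cm hA h1 h2) fun _ ha => ((mem_Cm hA).1 ha).2 x hx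

theorem le_Tr_of_le_Cm [Finite G] (hA : A ≤ Nm B) (h1 : B ≤ A) (h : A ≤ Cm A X B) : X ≤ Tr A B := fun x hx =>
  mem_Tr_of_le h1 fun _ ha => ((mem_Cm hA).1 (h ha)).2 x hx

/-! ### counting -/

theorem idx_aux (f : G → G) (hf : ∀ x ∈ P, f x ∈ A) (h : ∀ x ∈ P, ∀ y ∈ P, (f x)⁻¹ * f y ∈ B → x⁻¹ * y ∈ K) :
    ∃ φ : P ⧸ K.subgroupOf P → A ⧸ B.subgroupOf A, Function.Injective φ ∧
      ∀ q a, φ q = QuotientGroup.mk a → ∃ x ∈ P, (f x)⁻¹ * a ∈ B := by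
  refine ⟨fun q => QuotientGroup.mk ⟨f q.out, hf _ q.out.2⟩, fun q r e => ?_, fun q a e => ?_⟩
  · rw [QuotientGroup.eq, mem_subgroupOf] at e
    rw [← q.out_eq', ← r.out_eq', QuotientGroup.eq, mem_subgroupOf]
    exact h _ q.out.2 _ r.out.2 e
  · rw [QuotientGroup.eq, mem_subgroupOf] at e
    exact ⟨_, q.out.2, e⟩

theorem relIndex_le_of_inj [Finite G] (f : G → G) (hf : ∀ x ∈ P, f x ∈ A)
    (h : ∀ x ∈ P, ∀ y ∈ P, (f x)⁻¹ * f y ∈ B → x⁻¹ * y ∈ K) : K.relIndex P ≤ B.relIndex A :=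
  let ⟨φ, h1, _⟩ := idx_aux f hf h
  Nat.card_le_card_of_injective φ h1

theorem surj_of_inj [Finite G] (f : G → G) (hf : ∀ x ∈ P, f x ∈ A)
    (h : ∀ x ∈ P, ∀ y ∈ P, (f x)⁻¹ * f y ∈ B → x⁻¹ * y ∈ K) (hle : B.relIndex A ≤ K.relIndex P) (ha : a ∈ A) :
    ∃ x ∈ P, (f x)⁻¹ * a ∈ B := by
  obtain ⟨φ, h1, h2⟩ := idx_aux f hf h
  obtain ⟨q, e⟩ := (h1.bijective_of_nat_card_le hle).2 (QuotientGroup.mk ⟨a, ha⟩)
  exact h2 q _ e

theorem Cm1_aux (hP : P ≤ Nm B) (hx : x ∈ P) (hy : y ∈ P) (e : ⁅v, x⁆⁻¹ * ⁅v, y⁆ ∈ B) : x⁻¹ * y ∈ Cm1 v B :=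
  ⟨hP (mul_mem (P.inv_mem hx) hy), comm_symm (by
    have := conj_mem_of_norm' (hP hx) e
    rwa [show x⁻¹ * (⁅v, x⁆⁻¹ * ⁅v, y⁆) * x = ⁅v, x⁻¹ * y⁆ by simp only [commutatorElement_def]; group] at this)⟩

/-- the elements of `P` commuting with `v` modulo `B`, when the commutators lie in `A` -/
theorem idx_Cm1_le [Finite G] (hP : P ≤ Nm B) (h : ∀ x ∈ P, ⁅x, v⁆ ∈ A) : (Cm1 v B).relIndex P ≤ B.relIndex A :=
  relIndex_le_of_inj (⁅v, ·⁆) (fun x hx => comm_symm (h x hx)) fun _ hx _ hy => Cm1_aux hP hx hy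

theorem surj_Cm1 [Finite G] (hP : P ≤ Nm B) (h : ∀ x ∈ P, ⁅x, v⁆ ∈ A) (hK : ∀ x ∈ P, ⁅x, v⁆ ∈ B → x ∈ K)
    (hle : B.relIndex A ≤ K.relIndex P) (ha : a ∈ A) : ∃ x ∈ P, ⁅v, x⁆⁻¹ * a ∈ B :=
  surj_of_inj (⁅v, ·⁆) (fun x hx => comm_symm (h x hx))
    (fun _ hx _ hy e => hK _ (mul_mem (P.inv_mem hx) hy) (Cm1_aux hP hx hy e).2) hle ha

theorem card_eq_mul' (h : A ≤ B) : Nat.card B = Nat.card A * A.relIndex B := by
  rw [← relIndex_bot_left, ← relIndex_bot_left, relIndex_mul_relIndex _ _ _ bot_le h]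

/-- `A / B` is elementary abelian -/
def El (p : ℕ) (B A : Subgroup G) : Prop := (∀ x ∈ A, ∀ y ∈ A, ⁅x, y⁆ ∈ B) ∧ ∀ x ∈ A, x ^ p ∈ B

theorem El.mono (h : El p B A) (h1 : B ≤ D) (h2 : C ≤ A) : El p D C :=
  ⟨fun x hx y hy => h1 (h.1 x (h2 hx) y (h2 hy)), fun x hx => h1 (h.2 x (h2 hx))⟩

theorem El.inf (h : El p B A) (h' : El p C A) : El p (B ⊓ C) A :=
  ⟨fun x hx y hy => ⟨h.1 x hx y hy, h'.1 x hx y hy⟩, fun x hx => ⟨h.2 x hx, h'.2 x hx⟩⟩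

theorem El.norm (h : El p B A) (h1 : B ≤ A) : A ≤ Nm B := norm_of_comm h1 fun x hx y hy => h.1 x (h1 hx) y hy

theorem El.norm_mid (h : El p B A) (h1 : B ≤ C) (h2 : C ≤ A) : A ≤ Nm C := (h.mono h1 le_rfl).norm h2

theorem El.tr (h : El p B A) (h1 : B ≤ A) : A ≤ Tr A B := le_Tr_self le_normalizer (h.norm h1) h.1

/-- sectional rank at most three -/
def Rk (p : ℕ) (S : Subgroup G) : Prop := ∀ A B : Subgroup G, A ≤ S → B ≤ A → El p B A → B.relIndex A ≤ p ^ 3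

theorem Rk.mono (h : Rk p S) (h1 : T ≤ S) : Rk p T := fun A B h2 => h A B (h2.trans h1)

theorem idx_le_of_srk {n : ℕ} (h : SectionalPRankLE p n S) (h1 : A ≤ S) (h2 : B ≤ A) (h3 : El p B A) :
    B.relIndex A ≤ p ^ n := by
  have hn := h3.norm h2
  haveI : ((B.subgroupOf S).subgroupOf (A.subgroupOf S)).Normal := ⟨fun x hx y => by
    simp only [mem_subgroupOf] at hx ⊢
    exact conj_mem_of_norm (hn y.2) hx⟩
  have := h (A.subgroupOf S) ((B.subgroupOf S).subgroupOf (A.subgroupOf S)) ⊤ ⟨⟨fun x y => Subtype.ext ?_⟩⟩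
    fun x _ => ?_
  · rwa [card_top, ← Subgroup.index, ← relIndex, relIndex_subgroupOf h1] at this
  · obtain ⟨a, ha⟩ := QuotientGroup.mk_surjective x.1
    obtain ⟨b, hb⟩ := QuotientGroup.mk_surjective y.1
    rw [Subgroup.coe_mul, Subgroup.coe_mul, ← ha, ← hb, ← QuotientGroup.mk_mul, ← QuotientGroup.mk_mul,
      QuotientGroup.eq, mem_subgroupOf, mem_subgroupOf]
    have := h3.1 _ (A.inv_mem b.2) _ (A.inv_mem a.2)
    rw [commutatorElement_def] at this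
    simpa [mul_assoc] using this
  · obtain ⟨a, rfl⟩ := QuotientGroup.mk_surjective x
    rw [← QuotientGroup.mk_pow, QuotientGroup.eq_one_iff, mem_subgroupOf, mem_subgroupOf]
    simpa using h3.2 _ a.2

theorem rk_of_srk (h : SectionalPRankLE p 3 S) : Rk p S := fun _ _ => idx_le_of_srk h

section
variable [Fact p.Prime] [Finite G]

theorem el_Fr (h : IsPGroup p A) : El p (Fr A) A :=
  ⟨fun _ hx _ hy => CF.Coprime.commutator_le_frattiniOf h (commutator_mem_commutator hx hy),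
    fun _ => CF.Coprime.pow_mem_frattiniOf h⟩

theorem El.Fr_le (h : El p B A) (h1 : C ≤ A) : Fr C ≤ B :=
  CF.Coprime.frattiniOf_le_of (commutator_le.2 fun x hx y hy => h.1 x (h1 hx) y (h1 hy)) fun x hx => h.2 x (h1 hx)

theorem Fr_mono (h : IsPGroup p A) (h1 : C ≤ A) : Fr C ≤ Fr A := (el_Fr h).Fr_le h1

theorem Rk.fr (h : Rk p S) (hS : IsPGroup p S) (h1 : A ≤ S) : (Fr A).relIndex A ≤ p ^ 3 :=
  h _ _ h1 Fr_le (el_Fr (hS.to_le h1))

theorem le_idx (hB : IsPGroup p B) (h : A < B) : p ≤ A.relIndex B := le_relIndex hB h.not_ge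

theorem idx_mul (h1 : A ≤ B) (h2 : B ≤ C) : A.relIndex C = A.relIndex B * B.relIndex C :=
  (relIndex_mul_relIndex _ _ _ h1 h2).symm

theorem idx3 (hD : IsPGroup p D) (h1 : A < B) (h2 : B < C) (h3 : C < D) (h : A.relIndex D ≤ p ^ 3) :
    A.relIndex B = p ∧ B.relIndex C = p ∧ C.relIndex D = p := by
  have a1 := le_idx (hD.to_le (h2.trans h3).le) h1
  have a2 := le_idx (hD.to_le h3.le) h2
  have a3 := le_idx hD h3
  have := (Fact.out : p.Prime).pos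
  rw [idx_mul h1.le (h2.trans h3).le, idx_mul h2.le h3.le] at h
  generalize A.relIndex B = a at *; generalize B.relIndex C = b at *; generalize C.relIndex D = c at *
  have b1 : p * p ≤ b * c := Nat.mul_le_mul a2 a3
  have b2 : p * p ≤ a * c := Nat.mul_le_mul a1 a3
  have b3 : p * p ≤ a * b := Nat.mul_le_mul a1 a2
  refine ⟨le_antisymm (Nat.le_of_mul_le_mul_right (c := p * p) ?_ (by positivity)) a1,
    le_antisymm (Nat.le_of_mul_le_mul_right (c := p * p) ?_ (by positivity)) a2,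
    le_antisymm (Nat.le_of_mul_le_mul_right (c := p * p) ?_ (by positivity)) a3⟩
  · calc a * (p * p) ≤ a * (b * c) := Nat.mul_le_mul_left _ b1
      _ ≤ p * (p * p) := by rw [show p * (p * p) = p ^ 3 by ring]; exact h
  · calc b * (p * p) ≤ b * (a * c) := Nat.mul_le_mul_left _ b2
      _ ≤ p * (p * p) := by rw [show p * (p * p) = p ^ 3 by ring, show b * (a * c) = a * (b * c) by ring]; exact h
  · calc c * (p * p) ≤ c * (a * b) := Nat.mul_le_mul_left _ b3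
      _ ≤ p * (p * p) := by rw [show p * (p * p) = p ^ 3 by ring, show c * (a * b) = a * (b * c) by ring]; exact h

theorem false4 (hE : IsPGroup p E) (h1 : A < B) (h2 : B < C) (h3 : C < D) (h4 : D < E) (h : A.relIndex E ≤ p ^ 3) :
    False := by
  obtain ⟨-, -, e⟩ := idx3 hE h1 h2 (h3.trans h4) h
  rcases eq_or_eq_of_prime e h3.le h4.le with e | e
  exacts [h3.ne' e, h4.ne e]

theorem Rk.false4 (h : Rk p S) (hS : IsPGroup p S) (hE : E ≤ S) (h1 : A < B) (h2 : B < C) (h3 : C < D) (h4 : D < E)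
    (he : El p A E) : False :=
  FusC.false4 (hS.to_le hE) h1 h2 h3 h4 (h _ _ hE (h1.trans (h2.trans (h3.trans h4))).le he)

theorem eq_or_eq_of_le (hB : IsPGroup p B) (hi : A.relIndex B ≤ p) (h1 : A ≤ C) (h2 : C ≤ B) : C = A ∨ C = B := by
  by_cases h : B ≤ A
  · exact Or.inl (le_antisymm (h2.trans h) h1)
  · exact eq_or_eq_of_prime (relIndex_eq_prime hB h hi) h1 h2

omit [Finite G] in
theorem lt_of_prime (h : A ≤ B) (hi : A.relIndex B = p) : A < B := lt_of_le_not_ge h (not_le_of_prime hi)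

omit [Finite G] in
theorem le_of_prime (hi : A.relIndex B = p) (h : A ≤ B) (hA : A ≤ K) (hx : x ∈ B) (hx' : x ∉ A) (hK : x ∈ K) :
    B ≤ K := sup_zpowers_eq hi h hx hx' ▸ sup_le hA (zpowers_le.2 hK)

/-- two steps of index at most `p` -/
theorem idx_le_of_sq (hC : IsPGroup p C) (h1 : A ≤ B) (h2 : B < C) (h : A.relIndex C ≤ p ^ 2) : A.relIndex B ≤ p := by
  have := le_idx hC h2
  rw [idx_mul h1 h2.le, sq] at h
  exact Nat.le_of_mul_le_mul_right ((Nat.mul_le_mul_left _ this).trans h) (Fact.out : p.Prime).pos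

theorem idx_le_of_cube (hC : IsPGroup p C) (h1 : A ≤ B) (h2 : B < C) (h : A.relIndex C ≤ p ^ 3) :
    A.relIndex B ≤ p ^ 2 := by
  have := le_idx hC h2
  rw [idx_mul h1 h2.le, pow_succ] at h
  exact Nat.le_of_mul_le_mul_right ((Nat.mul_le_mul_left _ this).trans h) (Fact.out : p.Prime).pos

theorem idx_le_of_cube' (hC : IsPGroup p C) (h1 : A < B) (h2 : B ≤ C) (h : A.relIndex C ≤ p ^ 3) :
    B.relIndex C ≤ p ^ 2 := by
  have := le_idx (hC.to_le h2) h1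
  rw [idx_mul h1.le h2, pow_succ'] at h
  exact Nat.le_of_mul_le_mul_left ((Nat.mul_le_mul_right _ this).trans h) (Fact.out : p.Prime).pos

theorem idx_le_of_sq' (hC : IsPGroup p C) (h1 : A < B) (h2 : B ≤ C) (h : A.relIndex C ≤ p ^ 2) :
    B.relIndex C ≤ p := by
  have := le_idx (hC.to_le h2) h1
  rw [idx_mul h1.le h2, sq] at h
  exact Nat.le_of_mul_le_mul_left ((Nat.mul_le_mul_right _ this).trans h) (Fact.out : p.Prime).pos

omit [Fact p.Prime] in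
theorem idx_inf_le (h : A ≤ C) : (A ⊓ B).relIndex A ≤ B.relIndex C := by
  rw [inf_relIndex_left]; exact relIndex_le_of_le_right h relIndex_ne_zero'

/-- two subgroups of index `p` -/
theorem idx_inf (hN : IsPGroup p N) (h1 : A ≤ N) (hi : B.relIndex N = p) (h : ¬ A ≤ B) : (A ⊓ B).relIndex A = p :=
  relIndex_eq_prime (hN.to_le h1) (fun e => h (e.trans inf_le_right)) (hi ▸ idx_inf_le h1)

omit [Finite G] in
theorem not_le_of_ne (hi : A.relIndex N = p) (hi' : B.relIndex N = p) (h2 : B ≤ N) (h : A ≠ B) : ¬ A ≤ B := fun e => by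
  rcases eq_or_eq_of_prime hi e h2 with e | e
  exacts [h e.symm, not_le_of_prime hi' e.ge]

theorem exists_fix_mod (hR : IsPGroup p R) (h1 : A ≤ R) (h2 : R ≤ Nm A) (h3 : R ≤ Nm B) (h : ¬ A ≤ B) :
    ∃ x ∈ A, x ∉ B ∧ x ^ p ∈ B ∧ ∀ r ∈ R, ⁅x, r⁆ ∈ B := by
  obtain ⟨Q, _, _, π, hπ, hk⟩ := exists_quot B
  have m := hπ.mono h3
  obtain ⟨z, a1, a2, a3, a4⟩ := exists_fix (p := p) (R := img π R) (W := img π A)
    (by rw [m.img_eq_range]; exact (hR.of_surjective _ m.hom.rangeRestrict_surjective)) (img_mono h1)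
    (img_le_iff.2 fun r hr => mem_normalizer_of_le (S := ⊤) le_top fun y hy => by
      obtain ⟨a, ha, rfl⟩ := (m.mono h1).mem_img.1 hy
      rw [← m.map_conj hr (h1 ha)]; exact mem_img_of_mem (conj_mem_of_norm (h2 hr) ha))
    fun e => h fun a ha => (hk a (h3 (h1 ha))).1 (by have := mem_img_of_mem (f := π) ha; rwa [e, mem_bot] at this)
  obtain ⟨x, hx, rfl⟩ := (m.mono h1).mem_img.1 a1
  refine ⟨x, hx, fun e => a4 ((hk x (h3 (h1 hx))).2 e), (hk _ (h3 (pow_mem (h1 hx) p))).1 ?_, fun r hr =>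
    (hk _ (h3 (comm_mem_left (le_normalizer hr) (h1 hx)))).1 ?_⟩
  · rw [m.map_pow (h1 hx), a3]
  · rw [m.map_comm (h1 hx) hr, commutatorElement_eq_one_iff_mul_comm]
    exact (mem_centralizer_iff.1 a2 _ (mem_img_of_mem hr)).symm

theorem lt_Cm (hX : IsPGroup p X) (hA : IsPGroup p A) (h1 : X ≤ Nm A) (h2 : X ≤ Nm B) (h3 : A ≤ Nm B) (h : B < A) :
    B < Cm A X B := by
  obtain ⟨x, a1, a2, -, a4⟩ := exists_fix_mod (R := X ⊔ A) (isPGroup_sup_of_norm hX hA h1) le_sup_right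
    (sup_le h1 le_normalizer) (sup_le h2 h3) h.not_ge
  exact lt_of_le_not_ge (le_Cm h3 h.le h2) fun e => a2 (e ((mem_Cm h3).2 ⟨a1, fun r hr => a4 r (mem_sup_left hr)⟩))

/-- a `p`-group acts trivially on a section of order at most `p` -/
theorem le_Tr_of_idx (hX : IsPGroup p X) (hA : IsPGroup p A) (h : B ≤ A) (hi : B.relIndex A ≤ p) (h1 : X ≤ Nm A)
    (h2 : X ≤ Nm B) : X ≤ Tr A B := fun x hx => by
  by_cases e : A ≤ B
  · exact mem_Tr_of_le h fun a ha => comm_mem_left (h2 hx) (e ha)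
  · have hi := relIndex_eq_prime hA e hi
    obtain ⟨k, hk⟩ := isPGroup_iff_mem.1 hX x hx
    exact ⟨h1 hx, h2 hx, fun _ => conj_triv_of_prime h (norm_of_prime hA h hi) hi (h2 hx) (h1 hx) hk⟩

theorem el_of_idx (hA : IsPGroup p A) (h : B ≤ A) (hi : B.relIndex A ≤ p) : El p B A := by
  by_cases e : A ≤ B
  · exact ⟨fun x hx y hy => e (comm_mem_left (le_normalizer hy) hx), fun x hx => e (pow_mem hx p)⟩
  · have hi := relIndex_eq_prime hA e hi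
    have hn := norm_of_prime hA h hi
    exact ⟨fun x hx y hy => Tr.comm (le_Tr_of_idx hA hA h hi.le le_normalizer hn hy) hx,
      fun _ => pow_mem_of_prime hn hi⟩

end

end CF.FusC
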