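import Cfsg.Agent.FusC.A

/-! Weights of an element on sections, commutator and power maps, coprime action on chains. -/

set_option autoImplicit false
set_option linter.style.haveILetI false
set_option linter.unusedSectionVars false
set_option linter.unusedVariables false

namespace CF.FusC

open Cfsg Subgroup CF.Fus
open scoped commutatorElement

universe u

variable {G : Type u} [Group G] {p : ℕ} {A B C D E K M N P R S T U W X Y Z A₀ B₀ : Subgroup G}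
  {a b c d e g h s t u v w x y z : G} {i j k : ℤ}

/-- `h` has weight `k` on `a` modulo `B` -/
def Wt (h : G) (B : Subgroup G) (a : G) (k : ℤ) : Prop := (a ^ k)⁻¹ * (h * a * h⁻¹) ∈ B

/-- `h` has weight `k` on the section `A / B` -/
def WtOn (h : G) (A B : Subgroup G) (k : ℤ) : Prop := ∀ a ∈ A, Wt h B a k

theorem quot_eq {Q : Type*} [Group Q] {π : G → Q} (hπ : MulOn π (Nm W)) (hk : ∀ x ∈ Nm W, π x = 1 ↔ x ∈ W)
    (ha : a ∈ Nm W) (hb : b ∈ Nm W) : a⁻¹ * b ∈ W ↔ π b = π a := by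
  rw [← hk _ (mul_mem (Subgroup.inv_mem _ ha) hb), hπ.map_inv_mul ha hb, inv_mul_eq_one, eq_comm]

theorem quot_wt {Q : Type*} [Group Q] {π : G → Q} (hπ : MulOn π (Nm W)) (hk : ∀ x ∈ Nm W, π x = 1 ↔ x ∈ W)
    (ha : a ∈ Nm W) (hh : h ∈ Nm W) : Wt h W a k ↔ π h * π a * (π h)⁻¹ = π a ^ k := by
  rw [Wt, quot_eq hπ hk (zpow_mem ha k) (conj_mem_of_norm (le_normalizer hh) ha), hπ.map_conj hh ha,
    hπ.map_zpow ha]

theorem quot_comm {Q : Type*} [Group Q] {π : G → Q} (hπ : MulOn π (Nm W)) (hk : ∀ x ∈ Nm W, π x = 1 ↔ x ∈ W)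
    (ha : a ∈ Nm W) (hb : b ∈ Nm W) : ⁅a, b⁆ ∈ W ↔ Commute (π a) (π b) := by
  rw [← hk _ (comm_mem_left (le_normalizer hb) ha), hπ.map_comm ha hb, commutatorElement_eq_one_iff_commute]

theorem Wt.unique (h1 : Wt h B a i) (h2 : Wt h B a j) : a ^ (j - i) ∈ B := by
  have := mul_mem h1 (B.inv_mem h2)
  rwa [show (a ^ i)⁻¹ * (h * a * h⁻¹) * ((a ^ j)⁻¹ * (h * a * h⁻¹))⁻¹ = a ^ (j - i) by group] at this

theorem Wt.mono (h1 : Wt h B a i) (h2 : B ≤ C) : Wt h C a i := h2 h1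

theorem WtOn.mono (h1 : WtOn h A B k) (h2 : C ≤ A) (h3 : B ≤ D) : WtOn h C D k := fun a ha => h3 (h1 a (h2 ha))

theorem WtOn.inf (h1 : WtOn h A B k) (h2 : C ≤ A) (h3 : h ∈ Nm C) : WtOn h C (C ⊓ B) k := fun a ha =>
  ⟨mul_mem (C.inv_mem (zpow_mem ha k)) (conj_mem_of_norm h3 ha), h1 a (h2 ha)⟩

theorem Tr.wt (h1 : h ∈ Tr A B) : WtOn h A B 1 := fun a ha => by rw [Wt, zpow_one]; exact h1.2.2 a ha

theorem Cn.wt (h1 : h ∈ Cn A) : WtOn h A B 1 := fun a ha => by rw [Wt, zpow_one, mem_Cn.1 h1 a ha]; simp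

theorem WtOn.tr (h1 : WtOn h A B 1) (h2 : h ∈ Nm A) (h3 : h ∈ Nm B) : h ∈ Tr A B :=
  ⟨h2, h3, fun a ha => by have := h1 a ha; rwa [Wt, zpow_one] at this⟩

theorem Wt.congr (h1 : Wt h B a i) (ha : a ^ p ∈ B) (hd : (p : ℤ) ∣ i - j) : Wt h B a j := by
  obtain ⟨c, hc⟩ := hd
  have := mul_mem (zpow_mem ha c) h1
  rwa [← zpow_natCast, ← zpow_mul, ← hc,
    show a ^ (i - j) * ((a ^ i)⁻¹ * (h * a * h⁻¹)) = (a ^ j)⁻¹ * (h * a * h⁻¹) by group] at this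

theorem WtOn.congr (h1 : WtOn h A B i) (ha : ∀ a ∈ A, a ^ p ∈ B) (hd : (p : ℤ) ∣ i - j) : WtOn h A B j :=
  fun a h => (h1 a h).congr (ha a h) hd

theorem WtOn.of_eq (h1 : WtOn h A B i) (e : ∀ a ∈ A, g * a * g⁻¹ = h * a * h⁻¹) : WtOn g A B i :=
  fun a ha => by rw [Wt, e a ha]; exact h1 a ha

theorem Wt.conj_mem (h1 : Wt h B a i) (h2 : B ≤ A) (ha : a ∈ A) : h * a * h⁻¹ ∈ A := by
  simpa using mul_mem (zpow_mem ha i) (h2 h1)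

theorem WtOn.norm [Finite G] (h1 : WtOn h A B i) (h2 : B ≤ A) : h ∈ Nm A :=
  mem_normalizer_of_le (S := ⊤) le_top fun a ha => (h1 a ha).conj_mem h2 ha

theorem comm_zpow_left (hy : Commute ⁅y, x⁆ y) (n : ℤ) : ⁅y ^ n, x⁆ = ⁅y, x⁆ ^ n := by
  have e : x * y⁻¹ * x⁻¹ = y⁻¹ * ⁅y, x⁆ := by rw [commutatorElement_def]; group
  have e' : ⁅y ^ n, x⁆ = y ^ n * (x * y⁻¹ * x⁻¹) ^ n := by rw [conj_zpow, commutatorElement_def]; group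
  rw [e', e, hy.symm.inv_left.mul_zpow]; group

theorem comm_zpow_right (hy : Commute ⁅y, x⁆ x) (n : ℤ) : ⁅y, x ^ n⁆ = ⁅y, x⁆ ^ n := by
  rw [← commutatorElement_inv, comm_zpow_left (by rw [← commutatorElement_inv]; exact hy.inv_left), ← inv_zpow,
    commutatorElement_inv]

theorem comm_mul_cancel (h1 : Commute u w) : ⁅a * u, w⁆ = ⁅a, w⁆ := by
  rw [commutatorElement_def, commutatorElement_def, mul_assoc a u, h1.eq]; group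

theorem comm_mul_cancel' (h1 : Commute u w) : ⁅w, a * u⁆ = ⁅w, a⁆ := by
  rw [← commutatorElement_inv, comm_mul_cancel h1, commutatorElement_inv]

section
variable [Finite G]

theorem wtOn_of_gen (e : B ⊔ zpowers a = A) (hn : A ≤ Nm B) (hh : h ∈ Nm B) (h1 : Wt h B a k) : WtOn h A B k := by
  obtain ⟨Q, _, _, π, hπ, hk⟩ := exists_quot B
  have ha : a ∈ A := e ▸ mem_sup_right (mem_zpowers a)
  intro x hx
  obtain ⟨b, hb, n, rfl⟩ := (mem_sup_zpowers (hn ha)).1 (e ▸ hx :)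
  rw [quot_wt hπ hk (hn hx) hh, hπ.map_mul (le_normalizer hb) (zpow_mem (hn ha) n), (hk b (le_normalizer hb)).2 hb,
    one_mul, hπ.map_zpow (hn ha), ← conj_zpow, (quot_wt hπ hk (hn ha) hh).1 h1, ← zpow_mul, ← zpow_mul, mul_comm]

theorem Wt.pow (h1 : Wt h B a k) (ha : a ∈ Nm B) (hh : h ∈ Nm B) (n : ℕ) : Wt (h ^ n) B a (k ^ n) := by
  obtain ⟨Q, _, _, π, hπ, hk⟩ := exists_quot B
  rw [quot_wt hπ hk ha (pow_mem hh n), hπ.map_pow hh]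
  exact FusB.conj_pow_act ((quot_wt hπ hk ha hh).1 h1) n

theorem wt_comm (hA : A ≤ Nm W) (hB : B ≤ Nm W) (hh : h ∈ Nm W) (h1 : A₀ ≤ A) (h2 : B₀ ≤ B)
    (h3 : ∀ u ∈ A₀, ∀ y ∈ B, ⁅u, y⁆ ∈ W) (h4 : ∀ x ∈ A, ∀ v ∈ B₀, ⁅x, v⁆ ∈ W) (ha : a ∈ A) (hb : b ∈ B)
    (h5 : ⁅⁅a, b⁆, a⁆ ∈ W) (h6 : ⁅⁅a, b⁆, b⁆ ∈ W) (wa : Wt h A₀ a i) (wb : Wt h B₀ b j) :
    Wt h W ⁅a, b⁆ (i * j) := by
  obtain ⟨Q, _, _, π, hπ, hk⟩ := exists_quot W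
  have hc : ⁅a, b⁆ ∈ Nm W := comm_mem_left (le_normalizer (hB hb)) (hA ha)
  have ea : h * a * h⁻¹ = a ^ i * ((a ^ i)⁻¹ * (h * a * h⁻¹)) := by group
  have eb : h * b * h⁻¹ = b ^ j * ((b ^ j)⁻¹ * (h * b * h⁻¹)) := by group
  have m1 := wb.conj_mem h2 hb
  unfold Wt at wa wb
  generalize (a ^ i)⁻¹ * (h * a * h⁻¹) = u at wa ea
  generalize (b ^ j)⁻¹ * (h * b * h⁻¹) = v at wb eb
  have c1 := (quot_comm hπ hk (hA (h1 wa)) (hB m1)).1 (h3 u wa _ m1)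
  have c2 := (quot_comm hπ hk (hA (zpow_mem ha i)) (hB (h2 wb))).1 (h4 _ (zpow_mem ha i) v wb)
  have c3 := (quot_comm hπ hk hc (hA ha)).1 h5
  have c4 := (quot_comm hπ hk hc (hB hb)).1 h6
  rw [hπ.map_comm (hA ha) (hB hb)] at c3 c4
  rw [quot_wt hπ hk hc hh, ← hπ.map_conj hh hc, conj_comm, hπ.map_comm (hA (ea ▸ mul_mem (zpow_mem ha i) (h1 wa)))
    (hB m1), ea, hπ.map_mul (hA (zpow_mem ha i)) (hA (h1 wa)), comm_mul_cancel c1, eb,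
    hπ.map_mul (hB (zpow_mem hb j)) (hB (h2 wb)), comm_mul_cancel' c2.symm, hπ.map_zpow (hA ha), hπ.map_zpow (hB hb),
    comm_zpow_right (by rw [comm_zpow_left c3]; exact c4.zpow_left i), comm_zpow_left c3, ← zpow_mul,
    hπ.map_comm (hA ha) (hB hb)]

end

section
variable [Fact p.Prime]

theorem mem_of_zpow_mem {n : ℕ} (h1 : a ^ p ^ n = 1) (h2 : a ^ k ∈ B) (hk : ¬ (p : ℤ) ∣ k) : a ∈ B := by
  have hp : Prime (p : ℤ) := Nat.prime_iff_prime_int.1 Fact.out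
  obtain ⟨u, v, e⟩ : IsCoprime ((p : ℤ) ^ n) k := (hp.coprime_iff_not_dvd.2 hk).pow_left
  have : a = (a ^ p ^ n) ^ u * (a ^ k) ^ v := by
    rw [← zpow_natCast, ← zpow_mul, ← zpow_mul, ← zpow_add]; push_cast
    rw [mul_comm, mul_comm k, e, zpow_one]
  rw [this, h1, one_zpow, one_mul]; exact zpow_mem h2 v

theorem mem_of_zpow_mem' (hA : IsPGroup p A) (ha : a ∈ A) (h2 : a ^ k ∈ B) (hk : ¬ (p : ℤ) ∣ k) : a ∈ B :=
  let ⟨_, h⟩ := isPGroup_iff_mem.1 hA a ha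
  mem_of_zpow_mem h h2 hk

theorem Wt.mem (hA : IsPGroup p A) (ha : a ∈ A) (h1 : Wt h B a i) (h2 : Wt h B a j) (hk : ¬ (p : ℤ) ∣ j - i) :
    a ∈ B := mem_of_zpow_mem' hA ha (h1.unique h2) hk

theorem dvd_pow_sub (k : ℤ) (n : ℕ) : (p : ℤ) ∣ k ^ p ^ n - k := by
  rw [← ZMod.intCast_zmod_eq_zero_iff_dvd]
  push_cast
  rw [ZMod.pow_card_pow, sub_self]

theorem not_dvd_two (hp : p ≠ 2) : ¬ (p : ℤ) ∣ 2 := fun h =>
  hp ((Nat.prime_dvd_prime_iff_eq Fact.out Nat.prime_two).1 (Int.natCast_dvd_natCast.1 h))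

variable [Finite G]

theorem WtOn.ppow (h1 : WtOn h A B k) (hA : A ≤ Nm B) (hh : h ∈ Nm B) (hp : ∀ a ∈ A, a ^ p ∈ B) (n : ℕ) :
    WtOn (h ^ p ^ n) A B k := fun a ha => ((h1 a ha).pow (hA ha) hh _).congr (hp a ha) (dvd_pow_sub k n)

theorem exists_wt (hA : IsPGroup p A) (h1 : B ≤ A) (hi : B.relIndex A = p) (h2 : h ∈ Nm A) (h3 : h ∈ Nm B) :
    ∃ k, WtOn h A B k := by
  obtain ⟨a, ha, ha'⟩ := exists_of_prime hi
  have hn := norm_of_prime hA h1 hi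
  have e := sup_zpowers_eq hi h1 ha ha'
  obtain ⟨b, hb, k, e'⟩ := (mem_sup_zpowers (hn ha)).1 (e ▸ conj_mem_of_norm h2 ha :)
  refine ⟨k, wtOn_of_gen e hn h3 ?_⟩
  rw [Wt, ← e', ← mul_assoc]; exact conj_mem_of_norm' (zpow_mem (hn ha) k) hb

theorem wtOn_of_idx (hA : IsPGroup p A) (h1 : B ≤ A) (hi : B.relIndex A = p) (h3 : h ∈ Nm B) (ha : a ∈ A)
    (ha' : a ∉ B) (hw : Wt h B a k) : WtOn h A B k :=
  wtOn_of_gen (sup_zpowers_eq hi h1 ha ha') (norm_of_prime hA h1 hi) h3 hw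

/-- the weight on `A / B` is inherited from a supplement -/
theorem wtOn_of_sup (hA : IsPGroup p A) (h1 : B ≤ A) (hi : B.relIndex A = p) (h3 : h ∈ Nm B) (h4 : C ≤ A)
    (h5 : ¬ C ≤ B) (h6 : D ≤ B) (hw : WtOn h C D k) : WtOn h A B k :=
  let ⟨a, ha, ha'⟩ := SetLike.not_le_iff_exists.1 h5
  wtOn_of_idx hA h1 hi h3 (h4 ha) ha' (h6 (hw a ha))

theorem comm_of_wt (hZ : IsPGroup p Z) (hA : A ≤ Nm W) (hB : B ≤ Nm W) (hh : h ∈ Nm W) (h1 : A₀ ≤ A) (h2 : B₀ ≤ B)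
    (h3 : ∀ u ∈ A₀, ∀ y ∈ B, ⁅u, y⁆ ∈ W) (h4 : ∀ x ∈ A, ∀ v ∈ B₀, ⁅x, v⁆ ∈ W)
    (h5 : ∀ x ∈ A, ∀ y ∈ B, ⁅x, y⁆ ∈ Z) (h6 : ∀ z ∈ Z, ∀ x ∈ A, ⁅z, x⁆ ∈ W) (h7 : ∀ z ∈ Z, ∀ x ∈ B, ⁅z, x⁆ ∈ W)
    (wa : WtOn h A A₀ i) (wb : WtOn h B B₀ j) (wz : WtOn h Z W k) (hk : ¬ (p : ℤ) ∣ i * j - k) (ha : a ∈ A)
    (hb : b ∈ B) : ⁅a, b⁆ ∈ W :=
  have hz := h5 a ha b hb
  Wt.mem hZ hz (wz _ hz) (wt_comm hA hB hh h1 h2 h3 h4 ha hb (h6 _ hz a ha) (h7 _ hz b hb) (wa a ha) (wb b hb)) hk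

/-- lifting along a section of order `p` with nontrivial weight -/
theorem lift_le (hR : IsPGroup p R) (h1 : N ≤ R) (hi : N.relIndex R = p) (hh : h ∈ Nm R) (hw : WtOn h R N k)
    (hk : ¬ (p : ℤ) ∣ k - 1) (h2 : R ≤ Nm K) (h3 : h ∈ K) (h4 : N ≤ K) : R ≤ K := by
  obtain ⟨r, hr, hr'⟩ := exists_of_prime hi
  have a1 : r⁻¹ * (h * r * h⁻¹) ∈ K := by
    have := mul_mem (conj_mem_of_norm' (h2 hr) h3) (K.inv_mem h3)
    simpa only [mul_assoc] using this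
  refine le_of_prime hi h1 h4 (mul_mem (R.inv_mem hr) (conj_mem_of_norm hh hr)) (fun e => hr' ?_) a1
  exact Wt.mem hR hr (i := 1) (by rwa [Wt, zpow_one]) (hw r hr) hk

theorem mul_pow_mod (hp : p ≠ 2) (hx : x ∈ Nm W) (hy : y ∈ Nm W) (h1 : ⁅⁅y, x⁆, x⁆ ∈ W) (h2 : ⁅⁅y, x⁆, y⁆ ∈ W)
    (h3 : ⁅y, x⁆ ^ p ∈ W) : (x ^ p * y ^ p)⁻¹ * (x * y) ^ p ∈ W := by
  obtain ⟨Q, _, _, π, hπ, hk⟩ := exists_quot W
  have hc : ⁅y, x⁆ ∈ Nm W := comm_mem_left (le_normalizer hx) hy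
  have c1 := (quot_comm hπ hk hc hx).1 h1
  have c2 := (quot_comm hπ hk hc hy).1 h2
  have c3 := (hk _ (pow_mem hc p)).2 h3
  rw [hπ.map_pow hc] at c3
  rw [hπ.map_comm hy hx] at c1 c2 c3
  rw [quot_eq hπ hk (mul_mem (pow_mem hx p) (pow_mem hy p)) (pow_mem (mul_mem hx hy) p), hπ.map_pow (mul_mem hx hy),
    hπ.map_mul hx hy, hπ.map_mul (pow_mem hx p) (pow_mem hy p), hπ.map_pow hx, hπ.map_pow hy]
  exact mul_pow_odd hp c1.symm c2.symm c3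

/-- `A / W` has class at most two and its commutators have order dividing `p` -/
def Cl2 (p : ℕ) (W A : Subgroup G) : Prop :=
  A ≤ Nm W ∧ ∀ x ∈ A, ∀ y ∈ A, ⁅x, y⁆ ^ p ∈ W ∧ ∀ z ∈ A, ⁅⁅x, y⁆, z⁆ ∈ W

theorem Cl2.mul_pow (hp : p ≠ 2) (h : Cl2 p W A) (hx : x ∈ A) (hy : y ∈ A) :
    (x ^ p * y ^ p)⁻¹ * (x * y) ^ p ∈ W :=
  mul_pow_mod hp (h.1 hx) (h.1 hy) ((h.2 y hy x hx).2 x hx) ((h.2 y hy x hx).2 y hy) (h.2 y hy x hx).1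

omit [Fact p.Prime] [Finite G] in
theorem cl2_of_comm (hn : A ≤ Nm W) (h : ∀ x ∈ A, ∀ y ∈ A, ⁅x, y⁆ ∈ W) : Cl2 p W A :=
  ⟨hn, fun x hx y hy => ⟨pow_mem (h x hx y hy) p, fun _ hz => comm_mem_left (hn hz) (h x hx y hy)⟩⟩

omit [Fact p.Prime] [Finite G] in
theorem cl2_of_mid (hn : A ≤ Nm W) (h : ∀ x ∈ A, ∀ y ∈ A, ⁅x, y⁆ ∈ Z) (h1 : ∀ z ∈ Z, z ^ p ∈ W)
    (h2 : ∀ z ∈ Z, ∀ x ∈ A, ⁅z, x⁆ ∈ W) : Cl2 p W A :=
  ⟨hn, fun x hx y hy => ⟨h1 _ (h x hx y hy), h2 _ (h x hx y hy)⟩⟩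

/-- elements whose `p`-th power lies in `X` -/
def Cl2.Pw (hp : p ≠ 2) (h : Cl2 p W A) (hX : W ≤ X) : Subgroup G where
  carrier := {a | a ∈ A ∧ a ^ p ∈ X}
  one_mem' := ⟨one_mem _, by simp⟩
  mul_mem' := fun {a b} ha hb => ⟨mul_mem ha.1 hb.1, by
    have := mul_mem (mul_mem ha.2 hb.2) (hX (h.mul_pow hp ha.1 hb.1))
    rwa [mul_inv_cancel_left] at this⟩
  inv_mem' := fun {a} ha => ⟨A.inv_mem ha.1, by rw [inv_pow]; exact X.inv_mem ha.2⟩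

theorem Cl2.mem_Pw {hp : p ≠ 2} {h : Cl2 p W A} {hX : W ≤ X} : a ∈ h.Pw hp hX ↔ a ∈ A ∧ a ^ p ∈ X := Iff.rfl

theorem Cl2.pow_of_sup (hp : p ≠ 2) (h : Cl2 p W A) (e : Y ⊔ zpowers x = A) (h1 : ∀ y ∈ Y, y ^ p ∈ W)
    (h2 : x ^ p ∈ W) (ha : a ∈ A) : a ^ p ∈ W := by
  subst e
  exact ((sup_le (fun y hy => ⟨mem_sup_left hy, h1 y hy⟩) (zpowers_le.2 ⟨mem_sup_right (mem_zpowers x), h2⟩) :
    _ ≤ h.Pw hp le_rfl) ha).2

theorem wt_pow (hp : p ≠ 2) (hc : Cl2 p W A) (h1 : B ≤ A) (h2 : ∀ b ∈ B, b ^ p ∈ W) (ha : a ∈ A) (hw : Wt h B a k) :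
    Wt h W (a ^ p) k := by
  have := mul_mem (h2 _ hw) (hc.mul_pow hp (zpow_mem ha k) (h1 hw))
  rw [mul_inv_cancel_left, conj_pow] at this
  rw [Wt, ← zpow_natCast, ← zpow_mul, mul_comm (p : ℤ), zpow_mul, zpow_natCast, zpow_natCast]
  simpa [mul_assoc] using this

/-! ### coprime action -/

/-- order prime to `p` -/
def Cop (p : ℕ) (h : G) : Prop := (orderOf h).Coprime p

theorem exists_cop (p : ℕ) [Fact p.Prime] (h : G) : ∃ k : ℕ, Cop p (h ^ p ^ k) := by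
  have hp : p.Prime := Fact.out
  obtain ⟨k, m, hm, e⟩ := Nat.exists_eq_pow_mul_and_not_dvd (orderOf_pos h).ne' p hp.ne_one
  refine ⟨k, Nat.Coprime.coprime_dvd_left (orderOf_dvd_of_pow_eq_one ?_) ((hp.coprime_iff_not_dvd.2 hm).symm)⟩
  rw [← pow_mul, ← e, pow_orderOf_eq_one]

omit [Finite G] in
theorem Cop.not_dvd (hc : Cop p h) : ¬ (p : ℤ) ∣ orderOf h := fun e =>
  (Fact.out : p.Prime).coprime_iff_not_dvd.1 hc.symm (Int.natCast_dvd_natCast.1 e)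

omit [Fact p.Prime] [Finite G] in
theorem Cop.mem (hc : Cop p h) {n : ℕ} (h1 : h ^ p ^ n ∈ K) : h ∈ K :=
  (zpowers_le.2 h1) (mem_zpowers_pow_iff.2 (hc.pow_right n).symm)

omit [Finite G] in
theorem Cop.tr (hc : Cop p h) (hB : IsPGroup p B) (h1 : h ∈ Tr A B) (h2 : h ∈ Tr B C) : h ∈ Tr A C := by
  refine ⟨h1.1, h2.2.1, fun a ha => ?_⟩
  have hb := h1.2.2 a ha
  have key : ∀ n : ℕ, ((a⁻¹ * (h * a * h⁻¹)) ^ n)⁻¹ * (a⁻¹ * (h ^ n * a * (h ^ n)⁻¹)) ∈ C := fun n => by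
    induction n with
    | zero => simp
    | succ n ih =>
      have := mul_mem (h2.2.2 _ (pow_mem hb n)) (conj_mem_of_norm h2.2.1 ih)
      generalize hw : (a⁻¹ * (h * a * h⁻¹)) ^ n = w at this
      rw [pow_succ' (a⁻¹ * (h * a * h⁻¹)), hw, pow_succ']
      convert this using 1; group
  have := key (orderOf h)
  rw [pow_orderOf_eq_one, ← zpow_natCast] at this
  exact mem_of_zpow_mem' hB hb (by simpa using this) hc.not_dvd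

theorem Cop.cent (hc : Cop p h) (hA : IsPGroup p A) (h1 : h ∈ Tr A (Fr A)) : h ∈ Cn A :=
  CF.Coprime.le_centralizer_of_commutator_le_frattiniOf (zpowers h) A (zpowers_le.2 h1.1)
    (CF.Coprime.coprime_card_of_isPGroup hA (by rw [Nat.card_zpowers]; exact hc))
    (commutator_le.2 fun _ hx _ hy => Tr.comm (zpowers_le.2 h1 hy) hx) (mem_zpowers h)

theorem Cop.mem_of_sup (hc : Cop p h) (hP : IsPGroup p P) (hn : P ≤ Nm K) (h1 : h ∈ P ⊔ K) : h ∈ K := by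
  obtain ⟨Q, _, _, π, hπ, hk⟩ := exists_quot K
  obtain ⟨x, hx, y, hy, rfl⟩ := (mem_sup_of_norm hn).1 h1
  obtain ⟨n, e⟩ := isPGroup_iff_mem.1 hP x hx
  have hm := mul_mem (hn hx) (le_normalizer hy)
  refine hc.mem (n := n) ((hk _ (pow_mem hm _)).1 ?_)
  rw [hπ.map_pow hm, hπ.map_mul (hn hx) (le_normalizer hy), (hk y (le_normalizer hy)).2 hy, mul_one,
    ← hπ.map_pow (hn hx), e, hπ.map_one]

/-- the stabilizer of the chain `E ≥ Y ≥ X ≥ Φ(E)` -/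
def Ch (E Y X : Subgroup G) : Subgroup G := Tr E Y ⊓ Tr Y X ⊓ Tr X (Fr E)

theorem Cop.cent_ch (hc : Cop p h) (hE : IsPGroup p E) (h1 : X ≤ Y) (h2 : Y ≤ E) (h3 : h ∈ Ch E Y X) : h ∈ Cn E :=
  hc.cent hE (hc.tr (hE.to_le (h1.trans h2)) (hc.tr (hE.to_le h2) h3.1.1 h3.1.2) h3.2)

theorem ppow_cent_ch (hE : IsPGroup p E) (h1 : X ≤ Y) (h2 : Y ≤ E) (h3 : h ∈ Ch E Y X) : ∃ k, h ^ p ^ k ∈ Cn E :=
  let ⟨k, hk⟩ := exists_cop p h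
  ⟨k, hk.cent_ch hE h1 h2 (pow_mem h3 _)⟩

omit [Fact p.Prime] [Finite G] in
theorem norm_Ch (h1 : g ∈ Nm E) (h2 : g ∈ Nm Y) (h3 : g ∈ Nm X) : g ∈ Nm (Ch E Y X) :=
  norm_inf (norm_inf (norm_Tr h1 h2) (norm_Tr h2 h3)) (norm_Tr h3 (norm_Fr h1))

omit [Fact p.Prime] [Finite G] in
theorem Cn_le_Ch (h0 : Fr E ≤ X) (h1 : X ≤ Y) (h2 : Y ≤ E) : Cn E ≤ Ch E Y X :=
  le_inf (le_inf (Cn_le_Tr h2) ((centralizer_le h2).trans (Cn_le_Tr h1)))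
    ((centralizer_le (h1.trans h2)).trans (Cn_le_Tr h0))

theorem le_Ch_of_idx (hK : IsPGroup p K) (hE : IsPGroup p E) (h0 : Fr E ≤ X) (h1 : X ≤ Y) (h2 : Y ≤ E)
    (i0 : (Fr E).relIndex X ≤ p) (i1 : X.relIndex Y ≤ p) (i2 : Y.relIndex E ≤ p) (n0 : K ≤ Nm X) (n1 : K ≤ Nm Y)
    (n2 : K ≤ Nm E) : K ≤ Ch E Y X :=
  le_inf (le_inf (le_Tr_of_idx hK hE h2 i2 n2 n1) (le_Tr_of_idx hK (hE.to_le h2) h1 i1 n1 n0))
    (le_Tr_of_idx hK (hE.to_le (h1.trans h2)) h0 i0 n0 fun _ hx => norm_Fr (n2 hx))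

end

end CF.FusC
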