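import Cfsg.Agent.FusC.B
import Cfsg.Agent.Fus.Park

/-! A saturated fusion system realized inside a finite group: essential subgroups in group terms. -/

set_option autoImplicit false
set_option linter.style.haveILetI false
set_option linter.unusedSectionVars false
set_option linter.unusedVariables false

namespace CF.FusC

open Cfsg Subgroup CF.Fus
open scoped commutatorElement

universe u

theorem exists_real {Ω : Type u} [Group Ω] {S : Subgroup Ω} [Finite S] (F : FusionSystem S) :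
    ∃ (G : Type u) (_ : Group G) (_ : Finite G) (ι : Ω → G), FIso F ι (FG ⊤ (img ι S) le_top) := by
  obtain ⟨G, _, _, ι, H, π, h⟩ := exists_park F
  exact ⟨G, _, ‹_›, ι, (realized_iff h.mul.hom (fun _ => rfl) h.mul.img_eq_range.symm).1 h.realized⟩

theorem map_Gam {X Y : Type*} [Group X] [Group Y] (e : X ≃* Y) (A B I : Subgroup X) :
    (Gam A B I).map e.toMonoidHom ≤ Gam (A.map e.toMonoidHom) (B.map e.toMonoidHom) (I.map e.toMonoidHom) := by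
  rw [Gam, MonoidHom.map_closure, closure_le]
  rintro _ ⟨a, ⟨ha, Q, h1, h2, h3⟩, rfl⟩
  refine mem_Gam (mem_map_of_mem _ ha) (lt_of_le_of_ne (map_mono h1.le) fun e' => h1.ne ?_) (map_mono h2)
    (le_normalizer_map _ (mem_map_of_mem _ h3))
  exact map_injective (f := e.toMonoidHom) e.injective e'

theorem ess_conj {Ω : Type u} [Group Ω] {S E E' : Subgroup Ω} {F : FusionSystem S} {p : ℕ} [Fact p.Prime] {f : Ω → Ω}
    (hF : Sat F p) (hE : F.IsEssential p E) (hf : Iso F E E' f) (hn : F.IsFullyNormalized E') :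
    F.IsEssential p E' := by
  haveI := hF.fin
  haveI := hF.finite hf.le
  have hlt : E' < S := lt_of_le_of_ne hf.le' fun e => (card_lt_of_lt (hF.ess_lt hE)).ne (e ▸ hf.card_eq)
  refine hF.ess_of_HF_ne hn hlt fun e => (hF.ess_Gam hE).2 ?_
  have a := hF.HF_le_Gam hn (centric_iso (hF.ess_iff.1 hE).1 hf)
  rw [e] at a
  have g := hf.symm
  have b := (map_mono a).trans (map_Gam g.piso.autCongr _ _ _)
  have c := (hF.syl_of_fn hn).map_equiv g.piso.autCongr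
  rw [g.map_autGroup] at c
  rw [g.map_autGroup, g.piso.map_Inn] at b
  exact Gam_eq_of_syl c (hF.ess_syl hE) (Inn_norm _) (le_antisymm Gam_le b)

variable {G : Type u} [Group G] {p : ℕ} {A B C D E K M N O P Q R S T U W X Y Z : Subgroup G}
  {a b c d e g h s t u v w x y z : G} {i j k : ℤ}

/-- the fusion system of the whole group on `S` -/
abbrev FT (S : Subgroup G) : FusionSystem S := FG ⊤ S le_top

theorem aut_iff (hP : P ≤ S) {α : MulAut P} : α ∈ (FT S).autGroup P ↔ ∃ g ∈ Nm P, cA P g = α := by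
  rw [autGroup_ofSubgroup _ hP, mem_autInducedBy]
  exact ⟨fun ⟨g, _, h⟩ => ⟨g, h⟩, fun ⟨g, h⟩ => ⟨g, mem_top _, h⟩⟩

theorem cA_mem (hP : P ≤ S) (hg : g ∈ Nm P) : cA P g ∈ (FT S).autGroup P := (aut_iff hP).2 ⟨g, hg, rfl⟩

theorem pg_aut (hO : O ≤ Nm P) (h : ∀ g ∈ O, ∃ k, g ^ p ^ k ∈ Cn P) : IsPGroup p (autInducedBy O P) :=
  isPGroup_iff_mem.2 fun α hα => by
    obtain ⟨g, hg, h1, rfl⟩ := mem_autInducedBy.1 hα
    obtain ⟨k, hk⟩ := h g hg
    exact ⟨k, by rw [← cA_pow h1, (cA_eq_one_iff (pow_mem h1 _)).2 hk]⟩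

theorem cA_conj (hg : g ∈ Nm P) (hx : x ∈ Nm P) : cA P (g * x * g⁻¹) = cA P g * cA P x * (cA P g)⁻¹ := by
  rw [cA_mul (mul_mem hg hx) (Subgroup.inv_mem _ hg), cA_mul hg hx, cA_inv hg]

theorem cA_norm [Finite G] (hg : g ∈ Nm P) (hO : g ∈ Nm O) :
    cA P g ∈ normalizer (autInducedBy O P : Set (MulAut P)) :=
  mem_normalizer_of_le (S := ⊤) le_top fun α hα => by
    obtain ⟨x, hx, h1, rfl⟩ := mem_autInducedBy.1 hα
    rw [← cA_conj hg h1]; exact cA_mem_autInducedBy (conj_mem_of_norm hO hx)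

theorem aut_sup_Cn (hO : O ≤ Nm P) : autInducedBy (O ⊔ Cn P) P = autInducedBy O P :=
  le_antisymm (fun α hα => by
    obtain ⟨x, hx, h1, rfl⟩ := mem_autInducedBy.1 hα
    obtain ⟨a, ha, b, hb, rfl⟩ := (mem_sup_of_norm fun _ h => norm_Cn (hO h)).1 hx
    rw [cA_mul (hO ha) (Cn_le_Nm hb), (cA_eq_one_iff (Cn_le_Nm hb)).2 hb, mul_one]
    exact cA_mem_autInducedBy ha) (autInducedBy_mono le_sup_left)

theorem iso_cj' (hP : P ≤ S) (h : img (cj g) P ≤ S) : Iso (FT S) P (img (cj g) P) (cj g) :=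
  (morG_cj le_top hP (mem_top g) (img_le_iff.1 h)).iso

/-- data of an essential subgroup `E` with normalizer `N` in `S` -/
structure Es (p : ℕ) (E N Γ : Subgroup G) : Prop where
  pg : IsPGroup p N
  lt : E < N
  nm : N ≤ Nm E
  ex : ∃ ξ ∈ Nm E, ξ ∉ Γ
  g3 : ∀ x ∈ N, x ∉ E → ∀ g ∈ Nm E, g * x * g⁻¹ ∈ Γ → g ∈ Γ
  g5 : ∀ g ∈ Nm E, g ∉ Γ → ∀ x ∈ N, x ∉ E → ∀ y ∈ N, y ∉ E → ∀ X Y, X ≤ Y → Y ≤ E → x ∈ Ch E Y X →
    g * y * g⁻¹ ∈ Ch E Y X → False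
  syl : ∀ X Y, X ≤ Y → Y ≤ E → N ≤ Nm X → N ≤ Nm Y → Ch E Y X ≤ N ⊔ Cn E
  ext : E.relIndex N = p → ∀ g ∈ Nm E, g ∈ Γ → ∃ n ∈ Nm N, n⁻¹ * g ∈ Cn E

variable [Fact p.Prime] [Finite G]

theorem syl_le (hF : Sat (FT S) p) (hP : (FT S).IsFullyNormalized P) (hO : O ≤ Nm P) (hn : NS S P ≤ Nm O)
    (h : ∀ g ∈ O, ∃ k, g ^ p ^ k ∈ Cn P) : O ≤ NS S P ⊔ Cn P := fun g hg => by
  have a : P ≤ S := hP.1
  have := (hF.syl_of_fn hP).le_of_norm (C := autInducedBy O P)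
    (by rw [autGroup_ofSubgroup _ a]; exact autInducedBy_mono le_top) (pg_aut hO h) (fun α hα => by
      obtain ⟨x, hx, h1, rfl⟩ := mem_autInducedBy.1 hα
      exact cA_norm h1 (hn ⟨hx, h1⟩)) (cA_mem_autInducedBy hg)
  obtain ⟨k, hk, e⟩ := (cA_mem_autInducedBy_iff (hO hg)).1 this
  simpa using mul_mem (mem_sup_left hk : k ∈ NS S P ⊔ Cn P) (mem_sup_right e)

theorem syl_ch (hF : Sat (FT S) p) (hP : (FT S).IsFullyNormalized P) (h1 : X ≤ Y) (h2 : Y ≤ P) (h3 : NS S P ≤ Nm X)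
    (h4 : NS S P ≤ Nm Y) : Ch P Y X ≤ NS S P ⊔ Cn P :=
  syl_le hF hP (fun _ h => h.1.1.1) (fun _ h => norm_Ch h.2 (h4 h) (h3 h))
    fun _ => ppow_cent_ch (hF.pgroup hP.1) h1 h2

theorem ext_aux (hP : P ≤ S) (hg : g ∈ Nm P) {β : MulAut (NS S P)} (hβ : β ∈ (FT S).autGroup (NS S P))
    (e : ∀ x ∈ P, fn (cA P g) x = fn β x) : ∃ n ∈ Nm (NS S P), n⁻¹ * g ∈ Cn P := by
  obtain ⟨n, hn, rfl⟩ := (aut_iff NS_le).1 hβ
  refine ⟨n, hn, mem_Cn.2 fun x hx => ?_⟩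
  have := e x hx
  rw [fn_cA hg hx, fn_cA hn (le_NS hP hx)] at this
  rw [show n⁻¹ * g * x * (n⁻¹ * g)⁻¹ = n⁻¹ * (g * x * g⁻¹) * n by group, this]; group

theorem ext_norm (hF : Sat (FT S) p) (hP : (FT S).IsFullyNormalized P) (hg : g ∈ Nm P)
    (h : g ∈ Nm (NS S P ⊔ Cn P)) : ∃ n ∈ Nm (NS S P), n⁻¹ * g ∈ Cn P := by
  have := cA_norm hg h
  rw [aut_sup_Cn NS_le_norm, autInducedBy_NS] at this
  obtain ⟨β, h1, h2⟩ := rec_ext_norm (hF.rec_of_fn hP) (cA_mem hP.1 hg) this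
  exact ext_aux hP.1 hg h1 h2

theorem es_of_ess (hF : Sat (FT S) p) (hE : (FT S).IsEssential p E) : ∃ Γ, Es p E (NS S E) Γ := by
  have a := (hF.ess_lt hE).le
  have m : MulOn (cA E) (Nm E) := fun _ hx _ hy => cA_mul hx hy
  have hs := hF.ess_syl hE
  have k : ∀ g ∈ Nm E, g ∉ pre (cA E) (Nm E) (Gam ((FT S).autGroup E) (autInducedBy S E) (Inn E)) ↔
      Gen (FT S) E (cA E g) := fun g hg => by
    rw [m.mem_pre, Gen]; exact ⟨fun h => ⟨cA_mem a hg, fun c => h ⟨hg, c⟩⟩, fun h c => h.2 c.2⟩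
  refine ⟨pre (cA E) (Nm E) (Gam ((FT S).autGroup E) (autInducedBy S E) (Inn E)), hF.pgroup NS_le, hF.ess_NS hE,
    NS_le_norm, ?_, fun x hx hx' g hg h => ?_, fun g hg hg' x hx hx' y hy hy' X Y h1 h2 h3 h4 => hx' ?_,
    fun X Y => syl_ch hF (hF.ess_fn hE), fun hi g hg hg' => ?_⟩
  · obtain ⟨α, hα⟩ := hF.exists_gen hE
    obtain ⟨g, hg, rfl⟩ := (aut_iff a).1 hα.1
    exact ⟨g, hg, (k g hg).2 hα⟩
  · rw [m.mem_pre] at h ⊢
    rw [cA_conj hg hx.2] at h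
    obtain ⟨n, hn⟩ := isPGroup_iff_mem.1 hs.pg _ (cA_mem_autInducedBy (P := E) hx.1)
    obtain ⟨γ, h1, h2⟩ := (hs.mono (le_Gam hs.le (hF.ess_Gam hE).1) Gam_le).exists_conj_elt h.2 (k := n)
      (by rw [conj_pow, hn]; simp)
    refine ⟨hg, (mul_mem_cancel_left h1).1 (mem_Gam_of_elt hs (Inn_norm _) (Inn_le_autInducedBy a)
      (cA_mem_autInducedBy hx.1) (mt (mem_of_cA_mem_Inn a (hF.ess_centric hE) hx) hx')
      (mul_mem (Gam_le h1) (cA_mem a hg)) ?_)⟩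
    simpa only [mul_inv_rev, mul_assoc] using h2
  · have hO : Ch E Y X ≤ Nm E := fun _ h => h.1.1.1
    refine ((k g hg).1 hg').mem hF hE hx hx' hy hy' (H := autInducedBy (Ch E Y X) E)
      (by rw [autGroup_ofSubgroup _ a]; exact autInducedBy_mono le_top) (cA_mem_autInducedBy h3)
      (cA_conj hg hy.2 ▸ cA_mem_autInducedBy h4) hx
      (le_OpIn le_rfl le_normalizer (pg_aut hO fun _ => ppow_cent_ch (hF.pgroup a) h1 h2) (cA_mem_autInducedBy h3))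
  · obtain ⟨β, h1, h2⟩ := (hF.gen_or_ext hE hi (cA_mem a hg)).resolve_left fun c => (k g hg).2 c hg'
    exact ext_aux a hg h1 h2

theorem ess_cj (hF : Sat (FT S) p) (hE : (FT S).IsEssential p E) (hg : img (cj g) (NS S E) ≤ S) :
    (FT S).IsEssential p (img (cj g) E) ∧ NS S (img (cj g) E) = img (cj g) (NS S E) := by
  have a := (hF.ess_lt hE).le
  obtain ⟨h1, h2⟩ := (iso_cj' NS_le hg).1.fn_img (hF.ess_fn hE)
  exact ⟨ess_conj hF hE (iso_cj' a ((img_mono (le_NS a)).trans hg)) h1, h2.symm⟩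

theorem eq_bot_of_ess (hF : Sat (FT S) p) (hc : (FT S).core = ⊥)
    (h : ∀ P, P = S ∨ (FT S).IsEssential p P → Q ≤ P ∧ Nm P ≤ Nm Q) : Q = ⊥ :=
  le_bot_iff.1 (hc ▸ le_core (hF.normal_of_ess fun P hP => ⟨(h P hP).1, fun α hα => by
    obtain ⟨g, hg, rfl⟩ := (aut_iff (hP.elim Eq.le fun h => (hF.ess_lt h).le)).1 hα
    exact cA_mem_stab (h P hP).1 hg ((h P hP).2 hg)⟩))

/-- an essential subgroup may be moved so that its normalizer becomes fully normalized -/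
theorem exists_fn_cj (hF : Sat (FT S) p) (hQ : Q ≤ S) :
    ∃ g, img (cj g) (NS S Q) ≤ S ∧ (FT S).IsFullyNormalized (img (cj g) Q) := by
  obtain ⟨f, h1, h2⟩ := hF.exists_fn_map hQ
  obtain ⟨g, -, e⟩ := morG_elt h1
  exact ⟨g, img_le_iff.2 fun x hx => by rw [cj_apply, ← e x hx]; exact h1.maps hx,
    img_congr (f := f) (g := cj g) (fun x hx => e x (le_NS hQ hx)) ▸ h2⟩

end CF.FusC
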