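import Cfsg.Agent.FusC.C

/-! An essential subgroup of rank at most three has index `p` in its normalizer. -/

set_option autoImplicit false
set_option linter.style.haveILetI false
set_option linter.unusedSectionVars false
set_option linter.unusedVariables false

namespace CF.FusC

open Cfsg Subgroup CF.Fus
open scoped commutatorElement

universe u

variable {G : Type u} [Group G] {p : ℕ} {A B C D E H K M N O P Q R S T U V W X Y Z Γ : Subgroup G}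
  {a b c d e g h s t u v w x y z ξ : G} {i j k l m : ℤ}

abbrev Cj (g : G) (A : Subgroup G) : Subgroup G := img (cj g) A

theorem conj_mem_Cj (hx : x ∈ A) : g * x * g⁻¹ ∈ Cj g A := mem_img_of_mem (f := cj g) hx
theorem Cj_eq (h : g ∈ Nm A) : Cj g A = A := img_cj_eq_self.2 h
theorem Cj_le (h : g ∈ Nm B) (h1 : A ≤ B) : Cj g A ≤ B := img_le_iff.2 fun _ hx => conj_mem_of_norm h (h1 hx)
theorem le_Cj (h : g ∈ Nm B) (h1 : B ≤ A) : B ≤ Cj g A := fun _ hx => mem_img_cj.2 (h1 (conj_mem_of_norm' h hx))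
theorem mem_Cj_iff : g * x * g⁻¹ ∈ Cj g A ↔ x ∈ A := by rw [mem_img_cj]; simp [mul_assoc]
theorem exists_of_Cj (h : y ∈ Cj g A) : ∃ x ∈ A, g * x * g⁻¹ = y := (mulOn_cj g A).mem_img.1 h
theorem Cj_inf : Cj g (A ⊓ B) = Cj g A ⊓ Cj g B := (piso_cj_top g).img_inf le_top le_top
theorem Cj_sup : Cj g (A ⊔ B) = Cj g A ⊔ Cj g B := (piso_cj_top g).img_sup le_top le_top
theorem Cj_zpowers : Cj g (zpowers x) = zpowers (g * x * g⁻¹) := (mulOn_cj g (zpowers x)).img_zpowers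
theorem Cj_inj (h : Cj g A = Cj g B) : A = B := (piso_cj_top g).img_inj le_top le_top h
theorem pg_Cj (h : IsPGroup p A) : IsPGroup p (Cj g A) := (piso_cj g A).isPGroup h
theorem idx_Cj : (Cj g A).relIndex (Cj g B) = A.relIndex B := by
  rw [Cj, Cj, img_cj, img_cj]; exact relIndex_map_map_of_injective _ _ (MulAut.conj g).injective
theorem idx_Cj' (h : g ∈ Nm B) : (Cj g A).relIndex B = A.relIndex B := by rw [← idx_Cj (g := g) (A := A), Cj_eq h]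
theorem idx_Cj'' (h : g ∈ Nm A) : A.relIndex (Cj g B) = A.relIndex B := by rw [← idx_Cj (g := g) (B := B), Cj_eq h]

theorem Tr.cj (h1 : h ∈ Tr A B) : g * h * g⁻¹ ∈ Tr (Cj g A) (Cj g B) :=
  mem_Tr_of_comm (norm_cj g h1.1) (norm_cj g h1.2.1) fun y hy => by
    obtain ⟨x, hx, rfl⟩ := exists_of_Cj hy
    rw [← conj_comm]; exact conj_mem_Cj (Tr.comm h1 hx)

theorem norm_of_Cj_le [Finite G] (h : Cj g A ≤ A) : g ∈ Nm A :=
  mem_normalizer_of_le (S := ⊤) le_top (img_le_iff.1 h)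

theorem idx_le_of_Cm1 [Finite G] (hP : P ≤ Nm B) (h : ∀ x ∈ P, ⁅x, v⁆ ∈ A) (hK : ∀ x ∈ P, ⁅x, v⁆ ∈ B → x ∈ K) :
    K.relIndex P ≤ B.relIndex A :=
  relIndex_le_of_inj (⁅v, ·⁆) (fun x hx => comm_symm (h x hx))
    fun _ hx _ hy e => hK _ (mul_mem (P.inv_mem hx) hy) (Cm1_aux hP hx hy e).2

theorem WtOn.comm_tr [Finite G] (h1 : WtOn t A B k) (hA : A ≤ Nm B) (h2 : t ∈ Nm A) (h3 : t ∈ Nm B) (h4 : s ∈ Nm A)
    (h5 : s ∈ Nm B) : Wt t (Tr A B) s 1 := by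
  obtain ⟨Q, _, _, π, hπ, hk⟩ := exists_quot B
  have m : ∀ {X : Subgroup G}, t ∈ Nm X → s ∈ Nm X → s⁻¹ * (t * s * t⁻¹) ∈ Nm X := fun a b =>
    mul_mem (Subgroup.inv_mem _ b) (conj_mem_of_norm (le_normalizer a) b)
  rw [Wt, zpow_one]
  refine ⟨m h2 h4, m h3 h5, fun a ha => ?_⟩
  have a1 := conj_mem_of_norm' h2 ha
  have a2 := conj_mem_of_norm h4 a1
  have e1 := (quot_wt hπ hk (hA a1) h3).1 (h1 _ a1)
  have e2 := (quot_wt hπ hk (hA a2) h3).1 (h1 _ a2)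
  rw [hπ.map_conj h5 (hA a1), conj_zpow, ← e1, hπ.map_conj' h3 (hA ha)] at e2
  rw [quot_eq hπ hk (hA ha) (conj_mem_of_norm (le_normalizer (m h3 h5)) (hA ha)), hπ.map_conj (m h3 h5) (hA ha),
    hπ.map_inv_mul h5 (conj_mem_of_norm (le_normalizer h3) h5), hπ.map_conj h3 h5]
  calc _ = (π s)⁻¹ * (π t * (π s * ((π t)⁻¹ * π a * π t) * (π s)⁻¹) * (π t)⁻¹) * π s := by group
    _ = π a := by rw [e2]; group

variable [Fact p.Prime] [Finite G]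

theorem sq_le_idx (hB : IsPGroup p B) (h : ¬ A.relIndex B ≤ p) : p ^ 2 ≤ A.relIndex B := by
  obtain ⟨n, hn⟩ := IsPGroup.index hB (A.subgroupOf B)
  rw [relIndex, hn] at h ⊢
  refine Nat.pow_le_pow_right (Fact.out : p.Prime).pos (by_contra fun c => h ?_)
  simpa using Nat.pow_le_pow_right (Fact.out : p.Prime).pos (show n ≤ 1 by omega)

theorem exists_line (hK : IsPGroup p K) (hA : IsPGroup p A) (h1 : K ≤ Nm A) (h2 : K ≤ Nm B) (h3 : A ≤ Nm B)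
    (h : B < A) : ∃ X, B ≤ X ∧ X ≤ A ∧ B.relIndex X = p ∧ K ⊔ A ≤ Tr X B := by
  obtain ⟨x, a1, a2, a3, a4⟩ := exists_fix_mod (R := K ⊔ A) (isPGroup_sup_of_norm hK hA h1) le_sup_right
    (sup_le h1 le_normalizer) (sup_le h2 h3) h.not_ge
  have b : B ⊔ zpowers x ≤ A := sup_le h.le (zpowers_le.2 a1)
  exact ⟨B ⊔ zpowers x, le_sup_left, b, relIndex_sup_zpowers (h3 a1) a3 a2, fun r hr => mem_Tr_of_le le_sup_left
    fun y => comm_of_sup (b.trans h3) rfl (fun _ => comm_mem_left (sup_le h2 h3 hr)) (a4 r hr)⟩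

theorem exists_mid (hK : IsPGroup p K) (hA : IsPGroup p A) (h1 : K ≤ Nm A) (h2 : K ≤ Nm B) (h3 : A ≤ Nm B)
    (h : B ≤ A) (hi : B.relIndex A ≤ p ^ 2) :
    ∃ X, B ≤ X ∧ X ≤ A ∧ B.relIndex X ≤ p ∧ X.relIndex A ≤ p ∧ K ≤ Nm X := by
  rcases h.eq_or_lt with rfl | h'
  · exact ⟨B, le_rfl, le_rfl, by simpa using (Fact.out : p.Prime).one_le, by simpa using (Fact.out : p.Prime).one_le,
      h1⟩
  · obtain ⟨X, a1, a2, a3, a4⟩ := exists_line hK hA h1 h2 h3 h'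
    exact ⟨X, a1, a2, a3.le, idx_le_of_sq' hA (lt_of_prime a1 a3) a2 hi, fun _ hx => (a4 (mem_sup_left hx)).1⟩

theorem idx_Tr_le (hA : IsPGroup p A) (h3 : A ≤ Nm B) (h1 : B ≤ X) (h2 : X ≤ A) (hi : X.relIndex A ≤ p)
    (t1 : K ≤ Tr A X) (t2 : K ≤ Tr X B) : (Tr A B).relIndex K ≤ B.relIndex X := by
  by_cases e : A ≤ X
  · rw [relIndex_eq_one.2 (le_antisymm h2 e ▸ t2)]; exact Nat.one_le_iff_ne_zero.2 relIndex_ne_zero'
  · have hi := relIndex_eq_prime hA e hi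
    obtain ⟨v, hv, hv'⟩ := exists_of_prime hi
    exact idx_le_of_Cm1 (v := v) (fun _ hx => (t2 hx).2.1) (fun x hx => Tr.comm' (t1 hx) hv) fun x hx c =>
      mem_Tr_of_sup h3 (sup_zpowers_eq hi h2 hv hv') (t1 hx).1 (t2 hx) (comm_symm c)

omit [Fact p.Prime] in
theorem idx_le_of_inf (h : ∀ x ∈ K, x ∈ A → x ∈ B) : B.relIndex K ≤ A.relIndex K := by
  rw [← inf_relIndex_right A]
  exact relIndex_le_of_le_left (fun x hx => h x hx.2 hx.1) relIndex_ne_zero'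

theorem exists_torus (hA : El p B A) (h0 : B ≤ A) (hz : z ∈ A) (hw : w ∈ A) (hH : H ≤ Nm B) (hs : s ∈ H) (ht : t ∈ H)
    (a1 : ⁅z, s⁆ ∈ B) (a2 : ⁅w, s⁆ ∈ B ⊔ zpowers z) (a3 : ⁅w, s⁆ ∉ B)
    (b1 : ⁅w, t⁆ ∈ B) (b2 : ⁅z, t⁆ ∈ B ⊔ zpowers w) (b3 : ⁅z, t⁆ ∉ B) (hl : (p : ℤ) ∣ l * m - 1) :
    ∃ h ∈ H, Wt h B z l ∧ Wt h B w m := by
  obtain ⟨Q, _, _, π, hπ, hk⟩ := exists_quot B
  have hn := hA.norm h0
  have key : ∀ {z w s : G}, z ∈ A → w ∈ A → s ∈ H → ⁅z, s⁆ ∈ B → ⁅w, s⁆ ∈ B ⊔ zpowers z → ⁅w, s⁆ ∉ B → ∀ x : ℤ,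
      ∃ U ∈ img π H, U * π z * U⁻¹ = π z ∧ U * π w * U⁻¹ = π z ^ x * π w := fun {z w s} hz hw hs a1 a2 a3 x => by
    obtain ⟨b, hb, n, e⟩ := (mem_sup_zpowers (hn hz)).1 (comm_symm a2)
    have e1 : π ⁅s, w⁆ = π z ^ n := by
      rw [← e, hπ.map_mul (le_normalizer hb) (zpow_mem (hn hz) n), (hk b (le_normalizer hb)).2 hb, one_mul,
        hπ.map_zpow (hn hz)]
    have e2 : π z ^ p = 1 := by rw [← hπ.map_pow (hn hz), hk _ (pow_mem (hn hz) p)]; exact hA.2 z hz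
    obtain ⟨j, hj⟩ := FusB.exists_unip Fact.out (u := π s) (a := n)
      ((quot_comm hπ hk (hn hz) (hn hw)).1 (hA.1 z hz w hw)) e2
      (by rw [← ((quot_comm hπ hk (hn hz) (hH hs)).1 a1).eq]; group)
      (by rw [← e1, hπ.map_comm (hH hs) (hn hw), commutatorElement_def]; group)
      (fun c => a3 (comm_symm ((hk _ (comm_mem_left (le_normalizer (hn hw)) (hH hs))).1
        (by rw [e1, FusB.zpow_eq_of_dvd e2 (b := 0) (by simpa using c), zpow_zero])))) x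
    exact ⟨_, pow_mem (mem_img_of_mem hs) j, hj⟩
  have e2 : ∀ z ∈ A, π z ^ p = 1 := fun z hz => by
    rw [← hπ.map_pow (hn hz), hk _ (pow_mem (hn hz) p)]; exact hA.2 z hz
  obtain ⟨U, hU, c1, c2⟩ := FusB.torus ((quot_comm hπ hk (hn hz) (hn hw)).1 (hA.1 z hz w hw)) (e2 z hz) (e2 w hw)
    (img π H) (key hz hw hs a1 a2 a3) (key hw hz ht b1 b2 b3) hl
  obtain ⟨h, hh, rfl⟩ := (hπ.mono hH).mem_img.1 hU
  exact ⟨h, hh, (quot_wt hπ hk (hn hz) (hH hh)).2 c1, (quot_wt hπ hk (hn hw) (hH hh)).2 c2⟩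

namespace Es

theorem pgE (h : Es p E N Γ) : IsPGroup p E := h.pg.to_le h.lt.le

theorem nmF (h : Es p E N Γ) : N ≤ Nm (Fr E) := fun _ hx => norm_Fr (h.nm hx)

theorem mem_ch (h : Es p E N Γ) (h1 : X ≤ Y) (h2 : Y ≤ E) (h3 : Nm E ≤ Nm X) (h4 : Nm E ≤ Nm Y) (hx : x ∈ N)
    (hc : x ∈ Ch E Y X) : x ∈ E := by
  obtain ⟨ξ, a1, a2⟩ := h.ex
  exact by_contra fun c => h.g5 ξ a1 a2 x hx c x hx c X Y h1 h2 hc
    (conj_mem_of_norm (norm_Ch a1 (h4 a1) (h3 a1)) hc)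

theorem mem_tr (h : Es p E N Γ) (hx : x ∈ N) (hc : x ∈ Tr E (Fr E)) : x ∈ E :=
  h.mem_ch le_rfl Fr_le (fun _ => norm_Fr) (fun _ => norm_Fr) hx ⟨⟨hc, mem_Tr_same hc.2.1⟩, mem_Tr_same hc.2.1⟩

theorem not_le (h : Es p E N Γ) : ¬ N ≤ Tr E (Fr E) := fun c => h.lt.not_ge fun _ hx => h.mem_tr hx (c hx)

theorem fr_lt (h : Es p E N Γ) : Fr E < E := lt_of_le_not_ge Fr_le fun c => h.not_le fun _ hx =>
  mem_Tr_of_le Fr_le fun _ hy => c (comm_mem_left (h.nm hx) hy)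

/-- the unipotent radical of an invariant chain acts trivially on the Frattini quotient -/
theorem ch_le (h : Es p E N Γ) (h0 : Fr E ≤ X) (h1 : X ≤ Y) (h2 : Y ≤ E) (h3 : Nm E ≤ Nm X) (h4 : Nm E ≤ Nm Y) :
    Ch E Y X ≤ Tr E (Fr E) := fun g hg => by
  obtain ⟨n, hn, c, hc, rfl⟩ := (mem_sup_of_norm fun _ a => norm_Cn (h.nm a)).1
    (h.syl X Y h1 h2 (h.nm.trans h3) (h.nm.trans h4) hg)
  exact mul_mem ((el_Fr h.pgE).tr Fr_le (h.mem_ch h1 h2 h3 h4 hn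
    ((mul_mem_cancel_right (Cn_le_Ch h0 h1 h2 hc)).1 hg))) (Cn_le_Tr Fr_le hc)

theorem idx (h : Es p E N Γ) (hr : (Fr E).relIndex E ≤ p ^ 3) : E.relIndex N = p := by
  refine relIndex_eq_prime h.pg h.lt.not_ge (by_contra fun hn => ?_)
  have pE := h.pgE
  have eF := el_Fr pE
  obtain ⟨V, a1, a2, a3, a4⟩ := exists_line h.pg pE h.nm h.nmF (eF.norm Fr_le) h.fr_lt
  have a5 : N ≤ Tr V (Fr E) := le_sup_left.trans a4
  have a6 := idx_le_of_cube' pE (lt_of_prime a1 a3) a2 hr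
  have a7 := eF.norm_mid a1 a2
  obtain ⟨W, b1, b2, b3, b4, b5⟩ := exists_mid h.pg pE h.nm (fun _ hx => (a5 hx).1) a7 a2 a6
  have c := le_Ch_of_idx h.pg pE a1 b1 b2 a3.le b3 b4 (fun _ hx => (a5 hx).1) b5 h.nm
  obtain ⟨u, hu, hu', hu''⟩ : ∃ u ∈ N, u ∈ Tr E V ∧ u ∉ E := by
    by_contra! c'
    exact hn ((idx_le_of_inf c').trans ((idx_Tr_le pE a7 b1 b2 b4 (fun _ hx => (c hx).1.1)
      fun _ hx => (c hx).1.2).trans b3))
  obtain ⟨z, hz, hz'⟩ := exists_of_prime a3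
  have kA : ∀ g ∈ Nm E, g ∉ Γ → ∀ x ∈ N, ⁅x, g * z * g⁻¹⁆ ∈ Fr E → x ∈ E := fun g hg hg' x hx hc => by
    by_contra hx'
    have hy : g⁻¹ * x * g⁻¹⁻¹ ∈ Nm E := conj_mem_of_norm (norm_Nm (Subgroup.inv_mem _ hg)) (h.nm hx)
    have d0 : ⁅z, g⁻¹ * x * g⁻¹⁻¹⁆ ∈ Fr E := by
      have := conj_mem_of_norm (norm_Fr (Subgroup.inv_mem _ hg)) (comm_symm hc)
      rwa [conj_comm, show g⁻¹ * (g * z * g⁻¹) * g⁻¹⁻¹ = z by group] at this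
    have d1 : g⁻¹ * x * g⁻¹⁻¹ ∈ Tr V (Fr E) := mem_Tr_of_le a1 fun y =>
      comm_of_sup (a2.trans (eF.norm Fr_le)) (sup_zpowers_eq a3 a1 hz hz') (fun _ => comm_mem_left (norm_Fr hy)) d0
    obtain ⟨k, hk⟩ := isPGroup_iff_mem.1 h.pg x hx
    have pK : IsPGroup p (zpowers (g⁻¹ * x * g⁻¹⁻¹)) := isPGroup_zpowers (k := k) (by rw [conj_pow, hk]; simp)
    obtain ⟨X, e1, e2, e3, e4, e5⟩ := exists_mid pK pE (zpowers_le.2 hy) (zpowers_le.2 d1.1) a7 a2 a6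
    exact h.g5 g⁻¹ (Subgroup.inv_mem _ hg) (fun c => hg' ((Subgroup.inv_mem_iff _).1 c)) u hu hu'' x hx hx' V X e1 e2
      ⟨⟨Tr.mono hu' le_rfl e1 e2, Tr.mono hu' e2 le_rfl e1⟩, a5 hu⟩
      (le_Ch_of_idx pK pE a1 e1 e2 a3.le e3 e4 (zpowers_le.2 d1.1) e5 (zpowers_le.2 hy) (mem_zpowers _))
  have kB : ∀ g ∈ Nm E, g ∉ Γ → g * z * g⁻¹ ∉ W := fun g hg hg' hc =>
    hn (a3 ▸ idx_le_of_Cm1 h.nmF (fun x hx => Tr.comm' (c hx).1.2 hc) (kA g hg hg'))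
  obtain ⟨α, hα, hα'⟩ := h.ex
  have hz1 : α * z * α⁻¹ ∈ E := conj_mem_of_norm hα (a2 hz)
  have f1 : ∀ x ∈ N, ⁅x, α * z * α⁻¹⁆ ∈ W := fun x hx => Tr.comm' (c hx).1.1 hz1
  have f2 := idx_le_of_Cm1 h.nmF f1 (kA α hα hα')
  obtain ⟨a, ha, ha'⟩ : ∃ a ∈ W ⊓ Cj α W, a ∉ Fr E := by
    by_contra! c'
    refine hn (f2.trans ((relIndex_le_of_le_left c' relIndex_ne_zero').trans ((idx_inf_le b2).trans ?_)))
    rwa [idx_Cj' hα]
  have f3 : (Fr E).relIndex W ≤ p ^ 2 := by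
    rw [idx_mul a1 b1, a3, sq]; exact Nat.mul_le_mul_left _ b3
  obtain ⟨x, hx, f4⟩ := surj_Cm1 h.nmF f1 (kA α hα hα') (f3.trans (sq_le_idx h.pg hn)) ha.1
  have f5 : x ∉ E := fun c' => ha' (mem_of_inv_mul (eF.1 _ hz1 _ c') f4)
  have f6 : ⁅α * z * α⁻¹, x⁆ ∈ Cj α W := mem_of_inv_mul' ha.2 (le_Cj (norm_Fr hα) (a1.trans b1) f4)
  refine kB (α⁻¹ * x * α⁻¹⁻¹) (conj_mem_of_norm (norm_Nm (Subgroup.inv_mem _ hα)) (h.nm hx))
    (fun c' => hα' ((Subgroup.inv_mem_iff _).1 (h.g3 x hx f5 _ (Subgroup.inv_mem _ hα) c'))) ?_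
  have := mem_img_cj.1 (mul_mem ((Cj α W).inv_mem f6) (conj_mem_Cj (b1 hz)))
  convert this using 1
  rw [commutatorElement_def]; group

end Es

end CF.FusC
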