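import Cfsg.Agent.FusC.D

/-! Essential subgroups of rank at most three: the cubic type `JT` and the quadratic type `QT`. -/

set_option autoImplicit false
set_option linter.style.haveILetI false
set_option linter.unusedSectionVars false
set_option linter.unusedVariables false

namespace CF.FusC

open Cfsg Subgroup CF.Fus
open scoped commutatorElement

universe u

variable {G : Type u} [Group G] {p : ℕ} {A B C D E H K M N O P Q R S T U V W X Y Z Γ : Subgroup G}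
  {a b c d e g h s t u v w x y z ξ : G} {i j k l m : ℤ}

/-- the normal closure of `N` and `C(E)` in the normalizer of `E` -/
def LL (E N : Subgroup G) : Subgroup G := sInf {K | N ≤ K ∧ Cn E ≤ K ∧ Nm E ≤ Nm K}

theorem le_LL : N ≤ LL E N := le_sInf fun _ h => h.1
theorem Cn_le_LL : Cn E ≤ LL E N := le_sInf fun _ h => h.2.1
theorem LL_le (h1 : N ≤ K) (h2 : Cn E ≤ K) (h3 : Nm E ≤ Nm K) : LL E N ≤ K := sInf_le ⟨h1, h2, h3⟩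
theorem LL_le_Nm (h : N ≤ Nm E) : LL E N ≤ Nm E := LL_le h Cn_le_Nm le_normalizer
theorem conj_LL (hg : g ∈ Nm E) (hx : x ∈ LL E N) : g * x * g⁻¹ ∈ LL E N :=
  mem_sInf.2 fun K hK => conj_mem_of_norm (hK.2.2 hg) (mem_sInf.1 hx K hK)
theorem LL_le_Tr (h0 : Y ≤ X) (h1 : X ≤ E) (h2 : N ≤ Tr X Y) (h3 : Nm E ≤ Nm X) (h4 : Nm E ≤ Nm Y) :
    LL E N ≤ Tr X Y := LL_le h2 ((centralizer_le h1).trans (Cn_le_Tr h0)) fun _ h => norm_Tr (h3 h) (h4 h)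

/-- cubic type -/
structure JT (p : ℕ) (E N : Subgroup G) : Prop where
  pg : IsPGroup p N
  le : E ≤ N
  nm : N ≤ Nm E
  idx : E.relIndex N = p
  rk : (Fr E).relIndex E ≤ p ^ 3
  j3 : ∀ s ∈ N, s ∉ E → ∃ e ∈ E, ⁅⁅e, s⁆, s⁆ ∉ Fr E
  irr : ∀ X, Fr E ≤ X → X ≤ E → Nm E ≤ Nm X → X = Fr E ∨ X = E

/-- quadratic type -/
structure QT (p : ℕ) (E N C D : Subgroup G) : Prop where
  pg : IsPGroup p N
  le : E ≤ N
  nm : N ≤ Nm E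
  idx : E.relIndex N = p
  fc : Fr E ≤ C
  cd : C ≤ D
  de : D ≤ E
  i1 : D.relIndex E = p
  i2 : C.relIndex D = p
  i3 : (Fr E).relIndex C ≤ p
  nc : Nm E ≤ Nm C
  t1 : N ≤ Tr E D
  t2 : N ≤ Tr D (Fr E)
  nd : ∀ e ∈ E, e ∉ D → ∀ s ∈ N, s ∉ E → ⁅e, s⁆ ∉ C
  xi : ∃ ξ ∈ Nm E, ∀ x ∈ D, x ∉ C → ξ * x * ξ⁻¹ ∉ D
  gen : ∀ g ∈ Nm E, ∃ l ∈ LL E N, l⁻¹ * g ∈ Nm N
  tor : ∀ l m : ℤ, (p : ℤ) ∣ l * m - 1 → ∃ h ∈ LL E N, h ∈ Nm N ∧ Cop p h ∧ WtOn h D C l ∧ WtOn h E D m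
  ww : ∃ W, Fr E ≤ W ∧ W ≤ E ∧ Nm E ≤ Nm W ∧ N ≤ Tr E W ∧ W ⊓ C ≤ Fr E

/-- the flag of a cubic element -/
structure Fl (p : ℕ) (s : G) (A B V W : Subgroup G) : Prop where
  l1 : B ≤ V
  l2 : V ≤ W
  l3 : W ≤ A
  i1 : B.relIndex V = p
  i2 : V.relIndex W = p
  i3 : W.relIndex A = p
  m1 : ∀ v ∈ A, v ∈ V ↔ ⁅v, s⁆ ∈ B
  m2 : ∀ v ∈ A, v ∈ W ↔ ⁅v, s⁆ ∈ V
  m3 : ∀ v ∈ A, ⁅v, s⁆ ∈ W

variable [Fact p.Prime] [Finite G]

theorem mem_Cm_zpowers (hA : A ≤ Nm B) (hs : s ∈ Nm B) : a ∈ Cm A (zpowers s) B ↔ a ∈ A ∧ ⁅a, s⁆ ∈ B := by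
  rw [mem_Cm hA]
  exact and_congr_right fun ha => ⟨fun h => h s (mem_zpowers s), fun h x hx =>
    comm_symm ((zpowers_le.2 ⟨hs, comm_symm h⟩ : _ ≤ Cm1 a B) hx).2⟩

theorem exists_fl (hA : IsPGroup p A) (h0 : B ≤ A) (hE : El p B A) (hi : B.relIndex A ≤ p ^ 3) {n : ℕ}
    (hs : s ^ p ^ n = 1) (h1 : s ∈ Nm A) (h2 : s ∈ Nm B) (he : e ∈ A) (h : ⁅⁅e, s⁆, s⁆ ∉ B) :
    ∃ V W, Fl p s A B V W := by
  have pK := isPGroup_zpowers hs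
  have n0 := hE.norm h0
  have k1 := zpowers_le.2 h1
  have a0 : B ≤ Cm A (zpowers s) B := le_Cm n0 h0 (zpowers_le.2 h2)
  have n1 : A ≤ Nm (Cm A (zpowers s) B) := hE.norm_mid a0 Cm_le
  have n2 : s ∈ Nm (Cm A (zpowers s) B) := (le_Tr_Cm n0 h0 (zpowers_le.2 h2) (mem_zpowers s)).1
  have c1 : ⁅e, s⁆ ∉ Cm A (zpowers s) B := fun c => h ((mem_Cm_zpowers n0 h2).1 c).2
  have c2 : e ∉ Cm A (zpowers s) (Cm A (zpowers s) B) := fun c => c1 ((mem_Cm_zpowers n1 n2).1 c).2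
  have b1 := lt_Cm pK hA k1 (zpowers_le.2 h2) n0
    (lt_of_le_not_ge h0 fun c => h (c (comm_mem_left h1 (comm_mem_left h1 he))))
  have b2 := lt_Cm pK hA k1 (zpowers_le.2 n2) n1 (lt_of_le_not_ge Cm_le fun c => c1 (c (comm_mem_left h1 he)))
  have b3 : Cm A (zpowers s) (Cm A (zpowers s) B) < A := lt_of_le_not_ge Cm_le fun c => c2 (c he)
  obtain ⟨i1, i2, i3⟩ := idx3 hA b1 b2 b3 hi
  exact ⟨_, _, b1.le, b2.le, b3.le, i1, i2, i3, fun v hv => by simp only [mem_Cm_zpowers n0 h2, hv, true_and],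
    fun v hv => by rw [mem_Cm_zpowers n1 n2]; simp only [hv, true_and], fun v hv =>
    Tr.comm (le_Tr_of_idx pK hA b3.le i3.le k1 (fun x hx =>
      (le_Tr_Cm n1 Cm_le (zpowers_le.2 n2) hx).1) (mem_zpowers s)) hv⟩

namespace Fl

theorem t1 (h : Fl p s A B V W) : s ∈ Tr V B := mem_Tr_of_le h.l1 fun v hv => (h.m1 v (h.l3 (h.l2 hv))).1 hv
theorem t2 (h : Fl p s A B V W) : s ∈ Tr W V := mem_Tr_of_le h.l2 fun v hv => (h.m2 v (h.l3 hv)).1 hv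
theorem t3 (h : Fl p s A B V W) : s ∈ Tr A W := mem_Tr_of_le h.l3 h.m3

/-- the invariant subgroups -/
theorem inv (h : Fl p s A B V W) (h1 : B < X) (h2 : X < A) (h3 : s ∈ Nm X) : X = V ∨ X = W := by
  have k1 : ∀ x ∈ X, x ∈ V → x ∉ B → V ≤ X := fun x a b c => le_of_prime h.i1 h.l1 h1.le b c a
  have k2 : ∀ x ∈ X, x ∈ W → x ∉ V → W ≤ X := fun x a b c => le_of_prime h.i2 h.l2
    (k1 _ (comm_mem_left h3 a) ((h.m2 x (h.l3 b)).1 b) fun d => c ((h.m1 x (h.l3 b)).2 d)) b c a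
  have k3 : X ≤ W := fun x a => by_contra fun c => h2.not_ge (le_of_prime h.i3 h.l3
    (k2 _ (comm_mem_left h3 a) (h.m3 x (h2.le a)) fun d => c ((h.m2 x (h2.le a)).2 d)) (h2.le a) c a)
  by_cases c : X ≤ V
  · obtain ⟨x, a, b⟩ := SetLike.exists_of_lt h1
    exact Or.inl (le_antisymm c (k1 x a (c a) b))
  · obtain ⟨x, a, b⟩ := SetLike.not_le_iff_exists.1 c
    exact Or.inr (le_antisymm k3 (k2 x a (k3 a) b))

end Fl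

theorem wtOn_of_two (hA : IsPGroup p A) (h0 : B ≤ A) (hE : El p B A) (h1 : B ≤ X) (h2 : X ≤ A)
    (i1 : B.relIndex X = p) (i2 : X.relIndex A = p) (hz : z ∈ X) (hz' : z ∉ B) (hw : w ∈ A) (hw' : w ∉ X)
    (ht : t ∈ Nm B) (a1 : Wt t B z k) (a2 : Wt t B w k) : WtOn t A B k := by
  obtain ⟨Q, _, _, π, hπ, hk⟩ := exists_quot B
  have hn := hE.norm h0
  have b1 := wtOn_of_idx (hA.to_le h2) h1 i1 ht hz hz' a1
  intro y hy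
  obtain ⟨x, hx, n, rfl⟩ := (mem_sup_zpowers (hE.norm_mid h1 h2 hw)).1 (sup_zpowers_eq i2 h2 hw hw' ▸ hy :)
  have c := (quot_comm hπ hk (hn (h2 hx)) (hn (zpow_mem hw n))).1 (hE.1 _ (h2 hx) _ (zpow_mem hw n))
  have e1 := (quot_wt hπ hk (hn (h2 hx)) ht).1 (b1 x hx)
  have e2 := (quot_wt hπ hk (hn hw) ht).1 a2
  rw [quot_wt hπ hk (hn hy) ht, hπ.map_mul (hn (h2 hx)) (hn (zpow_mem hw n)), c.mul_zpow, ← e1, hπ.map_zpow (hn hw),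
    ← zpow_mul, mul_comm n, zpow_mul, ← e2, conj_zpow]
  group

namespace Es

theorem gen_inv (hg : g ∉ Γ) : g⁻¹ ∉ Γ := fun c => hg ((Subgroup.inv_mem_iff _).1 c)

theorem irr (h : Es p E N Γ) (hp : p ≠ 2) (hs : s ∈ N) (hs' : s ∉ E) (f : Fl p s E (Fr E) V W) (h1 : Fr E ≤ X)
    (h2 : X ≤ E) (h3 : Nm E ≤ Nm X) : X = Fr E ∨ X = E := by
  by_contra! c
  have pE := h.pgE
  have eF := el_Fr pE
  obtain ⟨ξ, a1, a2⟩ := h.ex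
  have sE := h.nm hs
  have s' : ξ * s * ξ⁻¹ ∈ Nm E := conj_mem_of_norm (le_normalizer a1) sE
  have cs : s ∈ Ch E W V := ⟨⟨f.t3, f.t2⟩, f.t1⟩
  have ng : ¬ (ξ ∈ Nm V ∧ ξ ∈ Nm W) := fun c => h.g5 ξ a1 a2 s hs hs' s hs hs' V W f.l2 f.l3 cs
    (conj_mem_of_norm (norm_Ch a1 c.2 c.1) cs)
  have hl : (p : ℤ) ∣ (-1) * (-1) - 1 := by simp
  have h2' : ¬ (p : ℤ) ∣ 1 - -1 * 1 := by simpa using not_dvd_two hp
  rcases f.inv (lt_of_le_of_ne h1 c.1.symm) (lt_of_le_of_ne h2 c.2) (h3 sE) with rfl | rfl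
  · obtain ⟨z, hz, hz'⟩ := exists_of_prime f.i2
    have e1 := sup_zpowers_eq f.i2 f.l2 hz hz'
    have k : ∀ g ∈ Nm E, g * z * g⁻¹ ∈ W → g ∈ Nm W := fun g hg c => norm_of_Cj_le (by
      rw [← e1, Cj_sup, Cj_eq (h3 hg), Cj_zpowers, e1]; exact sup_le f.l2 (zpowers_le.2 c))
    have b1 : ξ * z * ξ⁻¹ ∉ W := fun c => ng ⟨h3 a1, k ξ a1 c⟩
    have b2 : ξ⁻¹ * z * ξ⁻¹⁻¹ ∉ W := fun c => ng ⟨h3 a1, (Subgroup.inv_mem_iff _).1 (k _ (Subgroup.inv_mem _ a1) c)⟩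
    have b3 := conj_mem_of_norm a1 (f.l3 hz)
    have b4 := conj_mem_of_norm (Subgroup.inv_mem _ a1) (f.l3 hz)
    have b5 : ⁅z, ξ * s * ξ⁻¹⁆ = ξ * ⁅ξ⁻¹ * z * ξ⁻¹⁻¹, s⁆ * ξ⁻¹ := by rw [conj_comm]; congr 1; group
    obtain ⟨τ, t0, t1, t2⟩ := exists_torus (H := Nm E ⊓ Tr X (Fr E)) (eF.mono h1 le_rfl) h2 (f.l3 hz) b3
      (inf_le_left.trans h3) ⟨sE, f.t1⟩ ⟨s', Tr.conj (h3 a1) (norm_Fr a1) f.t1⟩ (Tr.comm f.t2 hz)
      (e1 ▸ f.m3 _ b3) (fun c => b1 ((f.m2 _ b3).2 c))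
      (by rw [← conj_comm]; exact conj_mem_of_norm (h3 a1) (Tr.comm f.t2 hz))
      (by
        have := conj_mem_Cj (g := ξ) (e1 ▸ f.m3 _ b4 :)
        rwa [Cj_sup, Cj_eq (h3 a1), Cj_zpowers, ← b5] at this)
      (fun c => b2 ((f.m2 _ b4).2 (by
        have := conj_mem_of_norm' (h3 a1) c
        rwa [b5, show ∀ y, ξ⁻¹ * (ξ * y * ξ⁻¹) * ξ = y from fun y => by group] at this))) hl
    have w1 := wtOn_of_two pE h2 (eF.mono h1 le_rfl) f.l2 f.l3 f.i2 f.i3 hz hz' b3 b1 (h3 t0.1) t1 t2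
    have w2 : Wt τ (Tr E (Fr E)) s 1 := h.ch_le le_rfl h1 h2 (fun _ => norm_Fr) h3
      ⟨⟨w1.comm_tr (eF.norm_mid h1 h2) t0.1 (h3 t0.1) sE (h3 sE), (Tr.wt t0.2).comm_tr (h2.trans (eF.norm Fr_le))
        (h3 t0.1) (norm_Fr t0.1) (h3 sE) (norm_Fr sE)⟩, mem_Tr_same (norm_Fr (mul_mem (Subgroup.inv_mem _
          (zpow_mem sE 1)) (conj_mem_of_norm (le_normalizer t0.1) sE)))⟩
    have d1 := Tr.comm f.t2 hz
    refine hz' ((f.m1 z (f.l3 hz)).2 (Wt.mem pE (h2 d1) (wt_comm (A := E) (B := Tr X (Fr E)) (eF.norm Fr_le)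
      (fun _ a => a.2.1) (norm_Fr t0.1) h2 (fun _ a => Tr.mono a h2 le_rfl h1) (fun u hu y hy => Tr.comm hy hu)
      (fun x hx v hv => Tr.comm hv hx) (f.l3 hz) f.t1 (eF.1 _ (h2 d1) _ (f.l3 hz)) (Tr.comm f.t1 d1)
      (w1 z (f.l3 hz)) w2) (Tr.wt t0.2 _ d1) h2'))
  · obtain ⟨z, hz, hz'⟩ := exists_of_prime f.i1
    have e1 := sup_zpowers_eq f.i1 f.l1 hz hz'
    have k : ∀ g ∈ Nm E, g * z * g⁻¹ ∈ V → g ∈ Nm V := fun g hg c => norm_of_Cj_le (by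
      rw [← e1, Cj_sup, Cj_eq (norm_Fr hg), Cj_zpowers, e1]; exact sup_le f.l1 (zpowers_le.2 c))
    have b1 : ξ * z * ξ⁻¹ ∉ V := fun c => ng ⟨k ξ a1 c, h3 a1⟩
    have b2 : ξ⁻¹ * z * ξ⁻¹⁻¹ ∉ V := fun c => ng ⟨(Subgroup.inv_mem_iff _).1 (k _ (Subgroup.inv_mem _ a1) c), h3 a1⟩
    have b3 := conj_mem_of_norm (h3 a1) (f.l2 hz)
    have b4 := conj_mem_of_norm (Subgroup.inv_mem _ (h3 a1)) (f.l2 hz)
    have b5 : ⁅z, ξ * s * ξ⁻¹⁆ = ξ * ⁅ξ⁻¹ * z * ξ⁻¹⁻¹, s⁆ * ξ⁻¹ := by rw [conj_comm]; congr 1; group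
    obtain ⟨τ, t0, t1, t2⟩ := exists_torus (H := Tr E X) (eF.mono le_rfl h2) h1 (f.l2 hz) b3
      (fun _ a => norm_Fr a.1) f.t3 (Tr.conj a1 (h3 a1) f.t3) (Tr.comm f.t1 hz)
      (e1 ▸ Tr.comm f.t2 b3) (fun c => b1 ((f.m1 _ (h2 b3)).2 c))
      (by rw [← conj_comm]; exact conj_mem_of_norm (norm_Fr a1) (Tr.comm f.t1 hz))
      (by
        have := conj_mem_Cj (g := ξ) (e1 ▸ Tr.comm f.t2 b4 :)
        rwa [Cj_sup, Cj_eq (norm_Fr a1), Cj_zpowers, ← b5] at this)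
      (fun c => b2 ((f.m1 _ (h2 b4)).2 (by
        have := conj_mem_of_norm' (norm_Fr a1) c
        rwa [b5, show ∀ y, ξ⁻¹ * (ξ * y * ξ⁻¹) * ξ = y from fun y => by group] at this))) hl
    have w1 := wtOn_of_two (pE.to_le h2) h1 (eF.mono le_rfl h2) f.l1 f.l2 f.i1 f.i2 hz hz' b3 b1 (norm_Fr t0.1) t1 t2
    have w2 : Wt τ (Tr E (Fr E)) s 1 := h.ch_le le_rfl h1 h2 (fun _ => norm_Fr) h3
      ⟨⟨(Tr.wt t0).comm_tr (eF.norm_mid h1 h2) t0.1 (h3 t0.1) sE (h3 sE), w1.comm_tr (h2.trans (eF.norm Fr_le))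
        (h3 t0.1) (norm_Fr t0.1) (h3 sE) (norm_Fr sE)⟩, mem_Tr_same (norm_Fr (mul_mem (Subgroup.inv_mem _
          (zpow_mem sE 1)) (conj_mem_of_norm (le_normalizer t0.1) sE)))⟩
    obtain ⟨e, he, he'⟩ := exists_of_prime f.i3
    have d1 := f.m3 e he
    refine he' ((f.m2 e he).2 (Wt.mem pE (h2 d1) ((w1 _ d1).mono f.l1) (wt_comm (A := E) (B := Tr X V)
      (eF.norm_mid f.l1 (f.l2.trans h2)) (fun _ a => a.2.1) ((w1.mono f.l2 le_rfl).norm f.l1) h2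
      (fun _ a => Tr.mono a h2 f.l1 f.l2) (fun u hu y hy => Tr.comm hy hu) (fun x hx v hv => f.l1 (Tr.comm hv hx))
      he f.t2 (f.l1 (eF.1 _ (h2 d1) _ he)) (Tr.comm f.t2 d1) (Tr.wt t0 e he) w2) (by simpa using h2')))

theorem mem_D (h : Es p E N Γ) (hi : E.relIndex N = p) (hs : s ∈ N) (hs' : s ∉ E) (he : e ∈ E) :
    e ∈ Cm E N (Fr E) ↔ ⁅e, s⁆ ∈ Fr E := by
  have eF := el_Fr h.pgE
  rw [mem_Cm (eF.norm Fr_le)]
  exact ⟨fun a => a.2 s hs, fun a => ⟨he, fun x hx => comm_symm (comm_of_sup h.nmF (sup_zpowers_eq hi h.lt.le hs hs')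
    (fun y hy => eF.1 y hy e he) (comm_symm a) hx)⟩⟩

theorem D_lt (h : Es p E N Γ) : Cm E N (Fr E) < E :=
  lt_of_le_not_ge Cm_le fun c => h.not_le (le_Tr_of_le_Cm ((el_Fr h.pgE).norm Fr_le) Fr_le c)

theorem lt_D (h : Es p E N Γ) : Fr E < Cm E N (Fr E) :=
  lt_Cm h.pg h.pgE h.nm h.nmF ((el_Fr h.pgE).norm Fr_le) h.fr_lt

theorem jt (h : Es p E N Γ) (hp : p ≠ 2) (hr : (Fr E).relIndex E ≤ p ^ 3) (hD : (Cm E N (Fr E)).relIndex E ≠ p) :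
    JT p E N := by
  have hi := h.idx hr
  have eF := el_Fr h.pgE
  have j3 : ∀ s ∈ N, s ∉ E → ∃ e ∈ E, ⁅⁅e, s⁆, s⁆ ∉ Fr E := fun s hs hs' => by
    by_contra! c
    have a1 := idx_le_of_Cm1 (v := s) (K := Cm E N (Fr E)) (eF.norm Fr_le)
      (fun x hx => (h.mem_D hi hs hs' (comm_mem_left (h.nm hs) hx)).2 (c x hx)) fun x hx => (h.mem_D hi hs hs' hx).2
    have a2 := sq_le_idx h.pgE fun c => hD (relIndex_eq_prime h.pgE h.D_lt.not_ge c)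
    have a3 := Nat.mul_le_mul (a2.trans a1) a2
    rw [← idx_mul h.lt_D.le Cm_le, ← pow_add] at a3
    exact absurd ((Nat.pow_le_pow_iff_right (Fact.out : p.Prime).one_lt).1 (a3.trans hr)) (by omega)
  refine ⟨h.pg, h.lt.le, h.nm, hi, hr, j3, fun X => ?_⟩
  obtain ⟨s, hs, hs'⟩ := SetLike.exists_of_lt h.lt
  obtain ⟨e, he, he'⟩ := j3 s hs hs'
  obtain ⟨n, hn⟩ := isPGroup_iff_mem.1 h.pg s hs
  obtain ⟨V, W, f⟩ := exists_fl h.pgE Fr_le eF hr hn (h.nm hs) (h.nmF hs) he he'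
  exact h.irr hp hs hs' f

theorem qt (h : Es p E N Γ) (hr : (Fr E).relIndex E ≤ p ^ 3) (hD : (Cm E N (Fr E)).relIndex E = p) :
    ∃ C D, QT p E N C D := by
  have hi := h.idx hr
  have pE := h.pgE
  have eF := el_Fr pE
  have nF := eF.norm Fr_le
  have mD := fun {s e} => h.mem_D hi (s := s) (e := e)
  have fD := h.lt_D
  have t2 : N ≤ Tr (Cm E N (Fr E)) (Fr E) := le_Tr_Cm nF Fr_le h.nmF
  have nD : ∀ n ∈ Nm E, n ∈ Nm N → n ∈ Nm (Cm E N (Fr E)) := fun n a b => norm_Cm nF a b (norm_Fr a)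
  have dE : Cm E N (Fr E) ≤ E := Cm_le
  generalize Cm E N (Fr E) = D at *
  have t1 : N ≤ Tr E D := le_Tr_of_idx h.pg pE dE hD.le h.nm fun _ a => (t2 a).1
  obtain ⟨e, he, he'⟩ := exists_of_prime hD
  obtain ⟨s, hs, hs'⟩ := SetLike.exists_of_lt h.lt
  have zD := Tr.comm (t1 hs) he
  have zF : ⁅e, s⁆ ∉ Fr E := fun c => he' ((mD hs hs' he).2 c)
  have zZ : Fr E ⊔ zpowers ⁅e, s⁆ ≤ D := sup_le fD.le (zpowers_le.2 zD)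
  have iZ := relIndex_sup_zpowers (nF (dE zD)) (eF.2 _ (dE zD)) zF
  have tZ : N ≤ Tr E (Fr E ⊔ zpowers ⁅e, s⁆) := le_of_prime hi h.lt.le
    ((eF.mono le_sup_left le_rfl).tr (zZ.trans dE)) hs hs' (mem_Tr_of_le (zZ.trans dE) fun y =>
      comm_of_sup (eF.norm_mid le_sup_left (zZ.trans dE)) (sup_zpowers_eq hD dE he he')
        (fun y hy => mem_sup_left (Tr.comm (t2 hs) hy)) (mem_sup_right (mem_zpowers _)))
  have cZ : ∀ g ∈ Nm E, Cj g (Fr E ⊔ zpowers ⁅e, s⁆) = Fr E ⊔ zpowers (g * ⁅e, s⁆ * g⁻¹) := fun g hg => by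
    rw [Cj_sup, Cj_eq (norm_Fr hg), Cj_zpowers]
  have ge : ∀ g ∈ Nm E, g * ⁅e, s⁆ * g⁻¹ ∈ D → g ∈ Γ := fun g hg c => by
    by_contra hg'
    have a1 : Cj g (Fr E ⊔ zpowers ⁅e, s⁆) ≤ D := cZ g hg ▸ sup_le fD.le (zpowers_le.2 c)
    have a2 : Fr E ≤ Cj g (Fr E ⊔ zpowers ⁅e, s⁆) := cZ g hg ▸ le_sup_left
    have a3 := Tr.cj (g := g) (tZ hs)
    have a4 := Tr.cj (g := g) (Tr.mono (t2 hs) zZ le_rfl le_sup_left)
    rw [Cj_eq hg] at a3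
    rw [Cj_eq (norm_Fr hg)] at a4
    exact h.g5 g hg hg' s hs hs' s hs hs' _ D a1 dE ⟨⟨t1 hs, Tr.mono (t2 hs) le_rfl a2 a1⟩,
      Tr.mono (t2 hs) a1 le_rfl a2⟩ ⟨⟨Tr.mono a3 le_rfl a1 dE, Tr.mono a3 dE le_rfl a1⟩, a4⟩
  have ex : ∀ g ∈ Nm E, g ∈ Γ → ∃ n ∈ Nm N, n ∈ Nm E ∧ n⁻¹ * g ∈ Cn E := fun g hg hg' =>
    let ⟨n, a, b⟩ := h.ext hi g hg hg'
    ⟨n, a, mem_of_inv_mul' hg (Cn_le_Nm b), b⟩
  have ex' : ∀ g ∈ Nm E, g ∈ Γ → g ∈ Nm D ∧ g * ⁅e, s⁆ * g⁻¹ ∈ Fr E ⊔ zpowers ⁅e, s⁆ := fun g hg hg' => by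
    obtain ⟨n, a, b, c⟩ := ex g hg hg'
    refine ⟨mem_of_inv_mul (nD n b a) (Cn_le_Nm (centralizer_le dE c)), ?_⟩
    have := mem_Cn.1 c _ (dE zD)
    rw [show g * ⁅e, s⁆ * g⁻¹ = n * (n⁻¹ * g * ⁅e, s⁆ * (n⁻¹ * g)⁻¹) * n⁻¹ by group, this, conj_comm]
    exact Tr.comm (tZ (conj_mem_of_norm a hs)) (conj_mem_of_norm b he)
  obtain ⟨ξ₀, x1, x2⟩ := h.ex
  have ξL : ξ₀ * s * ξ₀⁻¹ ∈ LL E N := conj_LL x1 (le_LL hs)
  have ξΓ : ξ₀ * s * ξ₀⁻¹ ∉ Γ := fun c => x2 (h.g3 s hs hs' ξ₀ x1 c)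
  generalize ξ₀ * s * ξ₀⁻¹ = ξ at ξL ξΓ
  have ξE := LL_le_Nm h.nm ξL
  have z1 : ξ * ⁅e, s⁆ * ξ⁻¹ ∉ D := fun c => ξΓ (ge ξ ξE c)
  have z2 : ⁅e, s⁆ ∉ Cj ξ D := fun c => gen_inv ξΓ (ge _ (Subgroup.inv_mem _ ξE) (by simpa using mem_img_cj.1 c))
  have iD' : (Cj ξ D).relIndex E = p := by rw [idx_Cj' ξE, hD]
  have dE' : Cj ξ D ≤ E := Cj_le ξE dE
  have i2 : (D ⊓ Cj ξ D).relIndex D = p := idx_inf pE dE iD' fun c => z2 (c zD)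
  have fc : Fr E ≤ D ⊓ Cj ξ D := le_inf fD.le (le_Cj (norm_Fr ξE) fD.le)
  have nC : N ≤ Nm (D ⊓ Cj ξ D) := fun x hx => Tr.norm_mid (t2 hx) fc inf_le_left
  have nd : ∀ y ∈ E, y ∉ D → ∀ x ∈ N, x ∉ E → ⁅y, x⁆ ∉ D ⊓ Cj ξ D := fun y hy hy' x hx hx' c => by
    rcases eq_or_eq_of_prime iZ (C := (Fr E ⊔ zpowers ⁅e, s⁆) ⊓ Cj ξ D) (le_inf le_sup_left (fc.trans inf_le_right))
      inf_le_left with a | a
    · exact hy' ((mD hx hx' hy).2 (a.le ⟨Tr.comm (tZ hx) hy, c.2⟩))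
    · exact z2 (a.ge (mem_sup_right (mem_zpowers _))).2
  have dec : ∀ g ∈ Nm E, g ∈ Γ ∨ ∃ u ∈ N, (u * ξ)⁻¹ * g ∈ Γ := fun g hg => by
    have hy := conj_mem_of_norm hg (dE zD)
    refine (em _).imp (ge g hg) fun hy' => ?_
    obtain ⟨a, ha, ha'⟩ : ∃ a ∈ D, (g * ⁅e, s⁆ * g⁻¹)⁻¹ * a ∈ Cj ξ D := by
      have : D ⊔ Cj ξ D = E := (eq_or_eq_of_prime hD le_sup_left (sup_le dE dE')).resolve_left fun c =>
        z1 (c.le (mem_sup_right (conj_mem_Cj zD)))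
      obtain ⟨a, ha, b, hb, e'⟩ := (mem_sup_of_norm (dE.trans (eF.norm_mid (fc.trans inf_le_right) dE'))).1
        (this ▸ hy :)
      exact ⟨a, ha, by rw [← e']; simpa using hb⟩
    obtain ⟨x, hx, hx'⟩ := surj_Cm1 (K := E) nC (fun x hx => Tr.comm' (t1 hx) hy)
      (fun x hx c => by_contra fun c' => nd _ hy hy' x hx c' (comm_symm c)) (by rw [i2, hi]) ha
    refine ⟨x⁻¹, N.inv_mem hx, ge _ (mul_mem (Subgroup.inv_mem _ (mul_mem (Subgroup.inv_mem _ (h.nm hx)) ξE)) hg) ?_⟩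
    have := mem_img_cj.1 (mul_mem hx'.2 ((Cj ξ D).inv_mem ha'))
    convert this using 1
    generalize ⁅e, s⁆ = z
    rw [commutatorElement_def]; group
  have st : ∀ g ∈ Nm E, D ⊓ Cj ξ D ≤ Cj g D := fun g hg c hc => mem_img_cj.2 (by
    rcases dec g hg with a | ⟨u, hu, a⟩
    · exact conj_mem_of_norm' (ex' g hg a).1 hc.1
    · have := conj_mem_of_norm' (ex' _ (mul_mem (Subgroup.inv_mem _ (mul_mem (h.nm hu) ξE)) hg) a).1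
        (mem_img_cj.1 (conj_mem_of_norm' (nC hu) hc).2)
      convert this using 1; group)
  have nc : Nm E ≤ Nm (D ⊓ Cj ξ D) := fun g hg => mem_normalizer_of_le (S := ⊤) le_top fun c hc =>
    ⟨by simpa using mem_img_cj.1 (st _ (Subgroup.inv_mem _ hg) hc), mem_img_cj.2 (by
      have := mem_img_cj.1 (st _ (mul_mem (Subgroup.inv_mem _ hg) ξE) hc)
      convert this using 1; group)⟩
  have xi : ∀ g ∈ Nm E, g * ⁅e, s⁆ * g⁻¹ ∉ D → ∀ x ∈ D, x ∉ D ⊓ Cj ξ D → g * x * g⁻¹ ∉ D := fun g hg a x hx hx' c =>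
    a (by simpa using mem_img_cj.1 (le_of_prime i2 inf_le_left (st _ (Subgroup.inv_mem _ hg)) hx hx'
      (mem_img_cj.2 (by simpa using c)) zD))
  have gΓ : ∀ g ∈ Nm E, g ∈ Γ → ∃ l ∈ LL E N, l⁻¹ * g ∈ Nm N := fun g hg hg' =>
    let ⟨n, a, b, c⟩ := ex g hg hg'
    ⟨_, Cn_le_LL (conj_mem_of_norm (norm_Cn b) c), by
      rwa [show (n * (n⁻¹ * g) * n⁻¹)⁻¹ * g = n by group]⟩
  have zC : ⁅e, s⁆ ∉ D ⊓ Cj ξ D := fun c => z2 c.2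
  have z3 := conj_mem_of_norm ξE (dE zD)
  refine ⟨_, D, h.pg, h.lt.le, h.nm, hi, fc, inf_le_left, dE, hD, i2, idx_le_of_sq (pE.to_le dE) fc
    (lt_of_prime inf_le_left i2) (idx_le_of_cube pE fD.le (lt_of_prime dE hD) hr), nc, t1, t2, nd,
    ⟨ξ, ξE, xi ξ ξE z1⟩, fun g hg => ?_, fun l m hl => ?_, ?_⟩
  · rcases dec g hg with a | ⟨u, hu, a⟩
    · exact gΓ g hg a
    · obtain ⟨l, b, c⟩ := gΓ _ (mul_mem (Subgroup.inv_mem _ (mul_mem (h.nm hu) ξE)) hg) a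
      exact ⟨u * ξ * l, mul_mem (mul_mem (le_LL hu) ξL) b, by simpa only [mul_inv_rev, mul_assoc] using c⟩
  · have e1 := sup_zpowers_eq i2 inf_le_left zD zC
    have b4 := conj_mem_of_norm (Subgroup.inv_mem _ ξE) (dE zD)
    have b2 : ξ⁻¹ * ⁅e, s⁆ * ξ⁻¹⁻¹ ∉ D := fun c => z2 (mem_img_cj.2 (by simpa using c))
    have b5 : ⁅⁅e, s⁆, ξ * s * ξ⁻¹⁆ = ξ * ⁅ξ⁻¹ * ⁅e, s⁆ * ξ⁻¹⁻¹, s⁆ * ξ⁻¹ := by
      generalize ⁅e, s⁆ = z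
      rw [conj_comm]; congr 1; group
    obtain ⟨h₀, a0, a1, a2⟩ := exists_torus (H := LL E N) (eF.mono fc le_rfl) (inf_le_left.trans dE) (dE zD) z3
      ((LL_le_Nm h.nm).trans nc) (le_LL hs) (conj_LL ξE (le_LL hs)) (fc (Tr.comm (t2 hs) zD))
      (by rw [e1]; exact Tr.comm (t1 hs) z3) (nd _ z3 z1 s hs hs')
      (by rw [← conj_comm]; exact fc (conj_mem_of_norm (norm_Fr ξE) (Tr.comm (t2 hs) zD)))
      (by
        have := conj_mem_Cj (g := ξ) (e1.ge (Tr.comm (t1 hs) b4))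
        rwa [Cj_sup, Cj_eq (nc ξE), Cj_zpowers, ← b5] at this)
      (fun c => nd _ b4 b2 s hs hs' (by
        have := conj_mem_of_norm' (nc ξE) c
        rwa [b5, show ∀ y, ξ⁻¹ * (ξ * y * ξ⁻¹) * ξ = y from fun y => by group] at this)) hl
    have a3 := LL_le_Nm h.nm a0
    have a4 := ge _ a3 (a1.conj_mem inf_le_left zD)
    obtain ⟨n, c1, c2, c3⟩ := ex _ a3 a4
    have c4 : ∀ y ∈ E, n * y * n⁻¹ = h₀ * y * h₀⁻¹ := fun y hy => by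
      conv_lhs => rw [← mem_Cn.1 c3 y hy]
      group
    have w1 := (wtOn_of_idx (pE.to_le dE) inf_le_left i2 (nc a3) zD zC a1).of_eq fun y hy => c4 y (dE hy)
    have w2 := (wtOn_of_idx pE dE hD (ex' _ a3 a4).1 z3 z1 (a2.mono inf_le_left)).of_eq c4
    obtain ⟨k, hk⟩ := exists_cop p n
    exact ⟨n ^ p ^ k, pow_mem (mem_of_inv_mul' a0 (Cn_le_LL c3)) _, pow_mem c1 _, hk,
      w1.ppow (dE.trans (le_normalizer.trans nc)) (nc c2) (fun a ha => fc (eF.2 a (dE ha))) k,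
      w2.ppow (eF.norm_mid fD.le dE) (nD n c2 c1) (fun a ha => fD.le (eF.2 a ha)) k⟩
  · have a1 : Fr E ⊔ zpowers ⁅e, s⁆ ⊔ zpowers (ξ * ⁅e, s⁆ * ξ⁻¹) ≤ E := sup_le (zZ.trans dE) (zpowers_le.2 z3)
    have a2 : ∀ g ∈ Nm E, g * ⁅e, s⁆ * g⁻¹ ∈ Fr E ⊔ zpowers ⁅e, s⁆ ⊔ zpowers (ξ * ⁅e, s⁆ * ξ⁻¹) := fun g hg => by
      rcases dec g hg with a | ⟨u, hu, a⟩
      · exact mem_sup_left (ex' g hg a).2
      · have b1 := conj_mem_Cj (g := ξ) (ex' _ (mul_mem (Subgroup.inv_mem _ (mul_mem (h.nm hu) ξE)) hg) a).2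
        rw [cZ ξ ξE] at b1
        have := conj_mem_of_norm (Tr.norm_mid (tZ hu) le_sup_left a1)
          (sup_le_sup_right (le_sup_left (b := zpowers ⁅e, s⁆)) _ b1)
        convert this using 1
        generalize ⁅e, s⁆ = z
        group
    refine ⟨_, le_sup_left.trans le_sup_left, a1, fun g hg => norm_of_Cj_le ?_,
      fun x hx => Tr.mono (tZ hx) le_rfl le_sup_left a1, fun y hy => ?_⟩
    · rw [Cj_sup, cZ g hg, Cj_zpowers]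
      refine sup_le (sup_le (le_sup_left.trans le_sup_left) (zpowers_le.2 (a2 g hg))) (zpowers_le.2 ?_)
      convert a2 _ (mul_mem hg ξE) using 1
      generalize ⁅e, s⁆ = z
      group
    · have b1 := relIndex_sup_zpowers (eF.norm_mid le_sup_left (zZ.trans dE) z3)
        (mem_sup_left (eF.2 _ z3)) fun c => z1 (zZ c)
      have b2 := (eq_or_eq_of_prime b1 (le_inf le_sup_left zZ) inf_le_left).resolve_right fun c =>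
        z1 (c.ge (mem_sup_right (mem_zpowers _))).2
      exact ((eq_or_eq_of_prime iZ (le_inf le_sup_left fc) inf_le_left).resolve_right fun c =>
        zC (c.ge (mem_sup_right (mem_zpowers _))).2).le ⟨b2.le ⟨hy.1, hy.2.1⟩, hy.2⟩

theorem dich (h : Es p E N Γ) (hp : p ≠ 2) (hr : (Fr E).relIndex E ≤ p ^ 3) : JT p E N ∨ ∃ C D, QT p E N C D :=
  (em _).symm.imp (h.jt hp hr) (h.qt hr)

end Es

theorem ess_dich (hF : Sat (FT S) p) (hp : p ≠ 2) (hE : (FT S).IsEssential p E) (hr : (Fr E).relIndex E ≤ p ^ 3) :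
    JT p E (NS S E) ∨ ∃ C D, QT p E (NS S E) C D :=
  let ⟨_, h⟩ := es_of_ess hF hE
  h.dich hp hr

end CF.FusC
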