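import Cfsg.Agent.FusC.E

/-! Essential subgroups of quadratic type, and pairs of them with a common normalizer. -/

set_option autoImplicit false
set_option linter.style.haveILetI false
set_option linter.unusedSectionVars false
set_option linter.unusedVariables false

namespace CF.FusC

open Cfsg Subgroup CF.Fus
open scoped commutatorElement

universe u

variable {G : Type u} [Group G] {p : ℕ} {A B C D E H K M N O P Q R S T U V W X Y Z Γ E₁ E₂ C₁ C₂ D₁ D₂ : Subgroup G}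
  {a b c d e g h s t u v w x y z ξ : G} {i j k l m : ℤ} [Fact p.Prime] [Finite G]

theorem norm_commutator (h1 : g ∈ Nm A) (h2 : g ∈ Nm B) : g ∈ Nm ⁅A, B⁆ := norm_of_Cj_le (by
  rw [Cj, (mulOn_cj g ⊤).img_commutator le_top le_top, img_cj_eq_self.2 h1, img_cj_eq_self.2 h2])

theorem exists_mem_of_wt (hE : IsPGroup p E) (hD : ¬ E ≤ D) (hn : E ≤ Nm K) (hh : h ∈ Nm E) (h1 : h ∈ K)
    (hw : WtOn h E D m) (hm : ¬ (p : ℤ) ∣ m - 1) : ∃ e ∈ E, e ∈ K ∧ e ∉ D := by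
  obtain ⟨e, he, he'⟩ := SetLike.not_le_iff_exists.1 hD
  refine ⟨e⁻¹ * (h * e * h⁻¹), mul_mem (E.inv_mem he) (conj_mem_of_norm hh he), ?_, fun c =>
    he' (Wt.mem hE he (i := 1) (by rwa [Wt, zpow_one]) (hw e he) hm)⟩
  simpa only [mul_assoc] using mul_mem (conj_mem_of_norm' (hn he) h1) (K.inv_mem h1)

theorem neg_two (hp : p ≠ 2) : ¬ (p : ℤ) ∣ -1 - 1 := by simpa using not_dvd_two hp

namespace QT

theorem pgE (q : QT p E N C D) : IsPGroup p E := q.pg.to_le q.le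
theorem dn (q : QT p E N C D) : D ≤ N := q.de.trans q.le
theorem ce (q : QT p E N C D) : C ≤ E := q.cd.trans q.de
theorem cn (q : QT p E N C D) : C ≤ N := q.cd.trans q.dn
theorem pgD (q : QT p E N C D) : IsPGroup p D := q.pg.to_le q.dn
theorem pgC (q : QT p E N C D) : IsPGroup p C := q.pg.to_le q.cn
theorem eF (q : QT p E N C D) : El p (Fr E) E := el_Fr q.pgE
theorem eC (q : QT p E N C D) : El p C E := q.eF.mono q.fc le_rfl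
theorem nC (q : QT p E N C D) : N ≤ Nm C := q.nm.trans q.nc
theorem nD (q : QT p E N C D) : N ≤ Nm D := fun _ h => (q.t2 h).1
theorem dc (q : QT p E N C D) (hd : d ∈ D) (hy : y ∈ N) : ⁅d, y⁆ ∈ C := q.fc (Tr.comm (q.t2 hy) hd)
theorem ed (q : QT p E N C D) (he : e ∈ E) (hy : y ∈ N) : ⁅e, y⁆ ∈ D := Tr.comm (q.t1 hy) he

theorem cen (q : QT p E N C D) (hu : u ∈ N) (h : ∀ y ∈ N, ⁅u, y⁆ ∈ C) : u ∈ D := by
  by_contra c
  by_cases c' : u ∈ E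
  · obtain ⟨s, hs, hs'⟩ := exists_of_prime q.idx
    exact q.nd u c' c s hs hs' (h s hs)
  · obtain ⟨e, he, he'⟩ := exists_of_prime q.i1
    exact q.nd e he he' u hu c' (comm_symm (h e (q.le he)))

theorem norm_D (q : QT p E N C D) (h1 : g ∈ Nm C) (h2 : g ∈ Nm N) : g ∈ Nm D := by
  rw [show D = Cm N N C from le_antisymm (fun d hd => (mem_Cm q.nC).2 ⟨q.dn hd, fun _ => q.dc hd⟩)
    fun d hd => q.cen ((mem_Cm q.nC).1 hd).1 ((mem_Cm q.nC).1 hd).2]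
  exact norm_Cm q.nC h2 h2 h1

theorem comm (q : QT p E N C D) (hx : x ∈ N) (hy : y ∈ N) : ⁅x, y⁆ ∈ D :=
  let ⟨_, hs, hs'⟩ := exists_of_prime q.idx
  comm_of_cyc q.nD (sup_zpowers_eq q.idx q.le hs hs') (fun _ a _ => q.ed a) hx hy

theorem wt_rel (q : QT p E N C D) (hh : h ∈ Nm C) (w1 : WtOn h E D m) (w2 : WtOn h N E k) (w3 : WtOn h D C l) :
    (p : ℤ) ∣ m * k - l := by
  by_contra c
  obtain ⟨s, hs, hs'⟩ := exists_of_prime q.idx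
  obtain ⟨e, he, he'⟩ := exists_of_prime q.i1
  exact q.nd e he he' s hs hs' (comm_of_wt q.pgD (q.le.trans q.nC) q.nC hh q.de q.le (fun _ a _ => q.dc a) q.eC.1
    (fun _ a _ => q.ed a) (fun _ a _ b => q.dc a (q.le b)) (fun _ a _ => q.dc a) w1 w2 w3 c he hs)

theorem wtN (q : QT p E N C D) (h1 : h ∈ Nm E) (h2 : h ∈ Nm N) (w1 : WtOn h D C l) (w2 : WtOn h E D m)
    (hl : (p : ℤ) ∣ l * m - 1) : WtOn h N E (l ^ 2) := by
  obtain ⟨k, hk⟩ := exists_wt q.pg q.le q.idx h2 h1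
  refine hk.congr (fun _ => pow_mem_of_prime q.nm q.idx) ?_
  have := Dvd.dvd.sub ((q.wt_rel (q.nc h1) w2 hk w1).mul_left l) (hl.mul_left k)
  rwa [show l * (m * k - l) - k * (l * m - 1) = k - l ^ 2 by ring] at this

theorem tl (q : QT p E N C D) : LL E N ≤ Tr C (Fr E) :=
  LL_le_Tr q.fc q.ce (fun _ h => Tr.mono (q.t2 h) q.cd le_rfl q.fc) q.nc fun _ => norm_Fr

theorem neg (q : QT p E N C D) : ∃ t ∈ LL E N, t ∈ Nm E ∧ t ∈ Nm N ∧ Cop p t ∧ WtOn t D C (-1) ∧ WtOn t E D (-1) ∧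
    WtOn t N E 1 :=
  let ⟨t, a, b, c, d, e⟩ := q.tor (-1) (-1) (by simp)
  ⟨t, a, LL_le_Nm q.nm a, b, c, d, e, by simpa using q.wtN (LL_le_Nm q.nm a) b d e (by simp)⟩

theorem cl2 (q : QT p E N C D) : Cl2 p C N :=
  cl2_of_mid q.nC (fun _ a _ => q.comm a) (fun z a => q.eC.2 z (q.de a)) fun _ a _ => q.dc a

theorem pow (q : QT p E N C D) (hp : p ≠ 2) (hx : x ∈ N) : x ^ p ∈ C := by
  by_cases c : x ∈ E
  · exact q.eC.2 x c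
  have a : x ^ p ∈ D := by_contra fun c' => q.nd _ (pow_mem_of_prime q.nm q.idx hx) c' x hx c (by
    rw [commutatorElement_eq_one_iff_commute.2 (Commute.pow_self x p)]; exact one_mem _)
  obtain ⟨t, -, -, -, -, w1, -, w3⟩ := q.neg
  exact Wt.mem q.pgD a (wt_pow hp q.cl2 q.le q.eC.2 hx (w3 x hx)) (w1 _ a) (neg_two hp)

theorem eD (q : QT p E N C D) (hp : p ≠ 2) : El p D N := ⟨fun _ a _ => q.comm a, fun _ a => q.cd (q.pow hp a)⟩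

theorem irr (q : QT p E N C D) (h1 : C ≤ X) (h2 : X ≤ E) (h3 : Nm E ≤ Nm X) (h : ¬ X ≤ C) : X = E := by
  obtain ⟨u, hu, hu'⟩ : ∃ u ∈ X, u ∉ D := by
    obtain ⟨u, a, b⟩ := SetLike.not_le_iff_exists.1 h
    obtain ⟨ξ, c, d⟩ := q.xi
    by_cases e : u ∈ D
    exacts [⟨_, conj_mem_of_norm (h3 c) a, d u e b⟩, ⟨u, a, e⟩]
  obtain ⟨s, hs, hs'⟩ := exists_of_prime q.idx
  exact le_antisymm h2 (le_of_prime q.i1 q.de (le_of_prime q.i2 q.cd h1 (q.ed (h2 hu) hs)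
    (q.nd u (h2 hu) hu' s hs hs') (comm_mem_left (h3 (q.nm hs)) hu)) (h2 hu) hu' hu)

theorem inv_mid (q : QT p E N C D) (h1 : Fr E ≤ X) (h2 : X ≤ C) : Nm E ≤ Nm X := by
  rcases eq_or_eq_of_le q.pgC q.i3 h1 h2 with rfl | rfl
  exacts [fun _ => norm_Fr, q.nc]

theorem sup_eq (q : QT p E N C D) (h3 : Nm E ≤ Nm K) (h : ¬ E ⊓ K ≤ C) : E ⊓ K ⊔ C = E :=
  q.irr le_sup_right (sup_le inf_le_left q.ce) (fun _ a => norm_sup' (norm_inf a (h3 a)) (q.nc a))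
    fun c => h (le_sup_left.trans c)

theorem exists_mem (q : QT p E N C D) (hp : p ≠ 2) (h3 : Nm E ≤ Nm K) (h : ∀ t ∈ LL E N, Cop p t → t ∈ K) :
    ∃ e ∈ E, e ∈ K ∧ e ∉ D :=
  let ⟨t, a, b, _, c, _, w, _⟩ := q.neg
  exists_mem_of_wt q.pgE (not_le_of_prime q.i1) (le_normalizer.trans h3) b (h t a c) w (neg_two hp)

theorem idxD (q : QT p E N C D) : D.relIndex N = p ^ 2 := by rw [idx_mul q.de q.le, q.i1, q.idx, sq]

theorem cent_C (q : QT p E N C D) (hp : p ≠ 2) (h : ∀ t ∈ LL E N, Cop p t → t ∈ Cn C) : E ≤ Cn C := by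
  have nK : Nm E ≤ Nm (Cn C) := fun _ a => norm_Cn (q.nc a)
  obtain ⟨e, a1, a2, a3⟩ := q.exists_mem hp nK h
  have e1 := q.sup_eq nK fun c => a3 (q.cd (c ⟨a1, a2⟩))
  have nY : E ≤ Nm (C ⊓ Cn C ⊔ Fr C) := fun g hg =>
    have b := q.nc (le_normalizer hg)
    norm_sup' (norm_inf b (norm_Cn b)) (norm_Fr b)
  have eC := el_Fr q.pgC
  have b1 : ∀ x ∈ E ⊓ Cn C, ∀ y ∈ E, ⁅x, y⁆ ∈ C ⊓ Cn C ⊔ Fr C := fun x hx y hy =>
    mem_sup_left ⟨q.eC.1 x hx.1 y hy, comm_mem_left (nK (le_normalizer hy)) hx.2⟩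
  have b2 : ∀ x ∈ E, ∀ y ∈ E, ⁅x, y⁆ ∈ C ⊓ Cn C ⊔ Fr C := fun x hx y hy =>
    comm_of_sup2 (e1.symm ▸ nY) (fun x hx => b1 x hx y hy) (fun x hx => comm_symm (comm_of_sup2 (e1.symm ▸ nY)
      (fun y hy => b1 y hy x (q.ce hx)) (fun y hy => mem_sup_right (eC.1 y hy x hx)) (e1.symm ▸ hy))) (e1.symm ▸ hx)
  have b3 : Fr E ≤ C ⊓ Cn C ⊔ Fr C := El.Fr_le (p := p) ⟨b2, fun x hx => ((sup_le
    (fun y hy => ⟨hy.1, mem_sup_left ⟨q.eC.2 y hy.1, pow_mem hy.2 p⟩⟩)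
    fun y hy => ⟨q.ce hy, mem_sup_right (eC.2 y hy)⟩ : E ⊓ Cn C ⊔ C ≤ (cl2_of_comm nY b2).Pw hp le_rfl)
      (e1.ge hx)).2⟩ le_rfl
  have b4 : C ≤ Cn C := by
    rcases eq_or_eq_of_le q.pgC q.i3 b3 (sup_le inf_le_left Fr_le) with c | c
    · by_cases c' : C ≤ Fr E
      · exact (CF.Coprime.eq_of_sup_frattiniOf inf_le_left (c'.trans b3)).ge.trans inf_le_right
      have i := relIndex_eq_prime q.pgC c' q.i3
      obtain ⟨a, ha, ha'⟩ := exists_of_prime i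
      have e2 : C ⊓ Cn C ⊔ zpowers a = C := CF.Coprime.eq_of_sup_frattiniOf (sup_le inf_le_left (zpowers_le.2 ha)) (by
        rw [sup_right_comm, c, sup_zpowers_eq i q.fc ha ha'])
      exact fun x hx => mem_Cn_comm.2 fun y hy => mem_bot.1 (comm_of_cyc (fun _ _ => mem_Nm_bot) e2
        (fun u hu v hv => comm_symm (mem_bot.2 (mem_Cn_comm.1 hu.2 v hv))) hy hx)
    · exact (CF.Coprime.eq_of_sup_frattiniOf inf_le_left c.ge).ge.trans inf_le_right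
  exact e1.ge.trans (sup_le inf_le_right b4)

theorem aux (q : QT p E N C D) (hp : p ≠ 2) (h1 : Y < D) (h2 : El p Y N) :
    Fr E < Y ∧ ∀ x ∈ N, x ^ p ∈ Fr E := by
  obtain ⟨s, hs, hs'⟩ := exists_of_prime q.idx
  obtain ⟨e, he, he'⟩ := exists_of_prime q.i1
  have a1 := h2.Fr_le q.le
  have a2 : ¬ Y ≤ C := fun c => q.nd e he he' s hs hs' (c (h2.1 e (q.le he) s hs))
  have a3 : Fr E < Y := lt_of_le_not_ge a1 fun c => a2 (c.trans q.fc)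
  have a4 := (relIndex_eq_of_sq q.pgD a3 h1 (by
    rw [idx_mul q.fc q.cd, q.i2, sq]; exact Nat.mul_le_mul_right _ q.i3)).1
  exact ⟨a3, fun x hx => ((eq_or_eq_of_prime a4 (le_inf a1 q.fc) inf_le_left).resolve_right
    fun c => a2 (c.ge.trans inf_le_right)).le ⟨h2.2 x hx, q.pow hp hx⟩⟩

theorem not_le_D (q₁ : QT p E₁ N C₁ D₁) (q₂ : QT p E₂ N C₂ D₂) (h : D₁ ≠ D₂) : ¬ D₁ ≤ D₂ := fun c => h (by
  have := idx_mul c q₂.dn
  rw [q₁.idxD, q₂.idxD, eq_comm, Nat.mul_eq_right (pow_pos (Fact.out : p.Prime).pos 2).ne', relIndex_eq_one] at this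
  exact le_antisymm c this)

theorem D_eq (q₁ : QT p E₁ N C₁ D₁) (q₂ : QT p E₂ N C₂ D₂) (hp : p ≠ 2) (hr : Rk p N) : D₁ = D₂ := by
  by_contra h
  have n1 := q₁.not_le_D q₂ h
  have n2 := q₂.not_le_D q₁ (Ne.symm h)
  have eY := (q₁.eD hp).inf (q₂.eD hp)
  have hY := hr _ _ le_rfl (inf_le_left.trans q₁.dn) eY
  have y1 : D₁ ⊓ D₂ < D₁ := inf_lt_left.2 n1
  have y2 : D₁ ⊓ D₂ < D₂ := inf_lt_right.2 n2
  have i1 := (idx3 q₁.pg y1 (lt_of_prime q₁.de q₁.i1) (lt_of_prime q₁.le q₁.idx) hY).1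
  have i2 := (idx3 q₁.pg y2 (lt_of_prime q₂.de q₂.i1) (lt_of_prime q₂.le q₂.idx) hY).1
  obtain ⟨a1, a2⟩ := q₁.aux hp y1 eY
  obtain ⟨b1, b2⟩ := q₂.aux hp y2 eY
  obtain ⟨d, hd, hd'⟩ := exists_of_prime i1
  obtain ⟨e, he, he'⟩ := exists_of_prime i2
  have hN : D₁ ⊔ D₂ ≤ N := sup_le q₁.dn q₂.dn
  have e1 : D₁ ⊔ zpowers e = D₁ ⊔ D₂ := by
    rw [← sup_zpowers_eq i2 y2.le he he', ← sup_assoc, sup_of_le_left y1.le]
  have e2 : D₂ ⊔ zpowers d = D₁ ⊔ D₂ := by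
    rw [sup_comm D₁, ← sup_zpowers_eq i1 y1.le hd hd', ← sup_assoc, sup_of_le_left y2.le]
  refine hr.false4 q₁.pg hN (A := Fr E₁ ⊓ Fr E₂) (inf_lt_left.2 fun c => hd' ⟨hd, q₂.cen (q₁.dn hd)
    fun y hy => q₂.fc (c (Tr.comm (q₁.t2 hy) hd))⟩) a1 y1 (left_lt_sup.2 n2) (El.inf
    ⟨fun x hx y => comm_of_cyc (fun _ a => (q₁.t2 (hN a)).2.1) e1 (fun _ a _ b => Tr.comm (q₁.t2 (hN b)) a) hx,
      fun x hx => a2 x (hN hx)⟩
    ⟨fun x hx y => comm_of_cyc (fun _ a => (q₂.t2 (hN a)).2.1) e2 (fun _ a _ b => Tr.comm (q₂.t2 (hN b)) a) hx,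
      fun x hx => b2 x (hN hx)⟩)

theorem inf_eq (q₁ : QT p E₁ N C₁ D) (q₂ : QT p E₂ N C₂ D) (h : E₁ ≠ E₂) : E₁ ⊓ E₂ = D :=
  (eq_or_eq_of_prime q₁.i1 (le_inf q₁.de q₂.de) inf_le_left).resolve_right fun c =>
    not_le_of_ne q₁.idx q₂.idx q₂.le h (c.ge.trans inf_le_right)

theorem sup_top (q₁ : QT p E₁ N C₁ D₁) (q₂ : QT p E₂ N C₂ D₂) (h : E₁ ≠ E₂) : E₁ ⊔ E₂ = N :=
  (eq_or_eq_of_prime q₁.idx le_sup_left (sup_le q₁.le q₂.le)).resolve_left fun c =>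
    not_le_of_ne q₂.idx q₁.idx q₁.le h.symm (le_sup_right.trans c.le)

theorem el_mid (q : QT p E N C D) (hp : p ≠ 2) (h1 : D ≤ A) (h2 : A ≤ N) (hi : D.relIndex A = p) : El p C A :=
  let ⟨_, ha, ha'⟩ := exists_of_prime hi
  ⟨fun _ hx _ => comm_of_cyc (h2.trans q.nC) (sup_zpowers_eq hi h1 ha ha') (fun _ a _ b => q.dc a (h2 b)) hx,
    fun _ hx => q.pow hp (h2 hx)⟩

theorem fr_le (q₁ : QT p E₁ N C₁ D) (q₂ : QT p E₂ N C₂ D) (hp : p ≠ 2) : Fr E₂ ≤ C₁ :=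
  (q₁.el_mid hp q₂.de q₂.le q₂.i1).Fr_le le_rfl

theorem flag (q : QT p E N C D) (hp : p ≠ 2) (h1 : Fr E ≤ T) (h2 : T ≤ C) (h3 : E ⊓ Tr T (Fr T) ≤ C) (x0 : Fr T ≤ X)
    (x1 : X ≤ Y) (x2 : Y ≤ T) (n1 : Nm E ≤ Nm X) (n2 : Nm E ≤ Nm Y) (h : N ≤ Ch T Y X) : False := by
  have nT := q.inv_mid h1 h2
  obtain ⟨e, a1, a2, a3⟩ := q.exists_mem hp (K := Tr T (Fr T)) (fun _ a => norm_Tr (nT a) (norm_Fr (nT a)))
    fun t ht hc => Cn_le_Tr Fr_le (hc.cent_ch (q.pgC.to_le h2) x1 x2 (LL_le h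
      ((centralizer_le (h2.trans q.ce)).trans (Cn_le_Ch x0 x1 x2)) (fun _ a => norm_Ch (nT a) (n2 a) (n1 a)) ht))
  exact a3 (q.cd (h3 ⟨a1, a2⟩))

theorem big (q : QT p E N C D) (hp : p ≠ 2) (hr : Rk p N) (h1 : Fr E ≤ T) (h2 : T ≤ C) (h3 : E ⊓ Tr T (Fr T) ≤ T) :
    (Cm T E (Fr T)).relIndex T = p := by
  by_contra hU
  have nT := q.inv_mid h1 h2
  have tE := h2.trans q.ce
  have pT := q.pgC.to_le h2
  have eT := el_Fr pT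
  have n0 := eT.norm Fr_le
  have nE : E ≤ Nm T := le_normalizer.trans nT
  have nF : E ≤ Nm (Fr T) := fun _ a => norm_Fr (nE a)
  have h4 : ¬ E ≤ Tr T (Fr T) := fun c => not_le_of_prime q.i1 fun x hx => q.cd (h2 (h3 ⟨hx, c hx⟩))
  have u0 : Fr T ≤ Cm T E (Fr T) := le_Cm n0 Fr_le nF
  have u1 : Cm T E (Fr T) < T := lt_of_le_not_ge Cm_le fun c => h4 (le_Tr_of_le_Cm n0 Fr_le c)
  have u2 : Fr T < Cm T E (Fr T) := lt_Cm q.pgE pT nE nF n0 (u0.trans_lt u1)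
  have nU : Nm E ≤ Nm (Cm T E (Fr T)) := fun _ a => norm_Cm n0 (nT a) a (norm_Fr (nT a))
  have mU : ∀ a, a ∈ Cm T E (Fr T) ↔ a ∈ T ∧ ∀ x ∈ E, ⁅a, x⁆ ∈ Fr T := fun _ => mem_Cm n0
  generalize Cm T E (Fr T) = U at *
  have rT := hr.fr q.pg (tE.trans q.le)
  have i1 := sq_le_idx pT fun c => hU (relIndex_eq_prime pT u1.not_ge c)
  have i2 := idx_le_of_cube' pT u2 u1.le rT
  have i3 : (Fr T).relIndex U ≤ p := by
    rw [idx_mul u0 u1.le, pow_succ'] at rT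
    exact Nat.le_of_mul_le_mul_right ((Nat.mul_le_mul_left _ i1).trans rT) (pow_pos (Fact.out : p.Prime).pos 2)
  have hp2 : ¬ p ^ 2 ≤ p := not_le.2 (by nlinarith [(Fact.out : p.Prime).two_le])
  have fl : ∀ X, U < X → X < T → ¬ Nm E ≤ Nm X := fun X a b c =>
    have d := relIndex_eq_of_sq pT a b i2
    q.flag hp h1 h2 (h3.trans h2) u0 a.le b.le nU c (le_Ch_of_idx q.pg pT u0 a.le b.le i3 d.1.le d.2.le
      (q.nm.trans nU) (q.nm.trans c) (q.nm.trans nT))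
  have tU := eT.norm_mid u0 u1.le
  have eU : E ≤ Nm U := le_normalizer.trans nU
  have k1 : ∀ a ∈ T, ∀ x ∈ E, ⁅a, x⁆ ∈ U := fun a ha => ((mem_Cm tU).1 ((Cm_le.eq_or_lt.resolve_right fun c =>
    fl _ (lt_Cm q.pgE pT nE eU tU u1) c fun _ a => norm_Cm tU (nT a) a (nU a)).ge ha)).2
  obtain rfl : T = C := by
    by_contra c
    have c1 : ¬ C ≤ T := fun d => c (le_antisymm h2 d)
    have i := relIndex_eq_prime q.pgC c1 ((relIndex_le_of_le_left h1 relIndex_ne_zero').trans q.i3)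
    obtain ⟨a, ha, ha'⟩ := exists_of_prime i
    have i4 := idx_le_of_Cm1 (K := Cm T C (Fr T)) n0 (fun x hx => k1 x hx a (q.ce ha)) fun x hx d =>
      (mem_Cm n0).2 ⟨hx, fun y hy => comm_symm (comm_of_sup (q.ce.trans nF) (sup_zpowers_eq i h2 ha ha')
        (fun y hy => eT.1 y hy x hx) (comm_symm d) hy)⟩
    refine fl (Cm T C (Fr T)) (lt_of_le_of_ne (fun x hx => (mem_Cm n0).2 ⟨u1.le hx, fun y hy =>
      ((mU x).1 hx).2 y (q.ce hy)⟩) fun d => hp2 (i1.trans (d ▸ i4.trans i3))) (lt_of_le_not_ge Cm_le fun d =>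
      c1 fun x hx => h3 ⟨q.ce hx, le_Tr_of_le_Cm n0 Fr_le d hx⟩) fun _ a => norm_Cm n0 (nT a) (q.nc a) (norm_Fr (nT a))
  obtain ⟨x, hx, hx'⟩ := exists_of_prime q.i2
  obtain ⟨y, hy, hy'⟩ := exists_of_prime q.i1
  have w0 := q.eC.1 x (q.de hx) y hy
  have w1 : U ⊔ zpowers ⁅x, y⁆ ≤ T := sup_le u1.le (zpowers_le.2 w0)
  have w2 : E ≤ Nm (U ⊔ zpowers ⁅x, y⁆) := fun g hg => (mem_Tr_of_le le_sup_left fun a ha => k1 a (w1 ha) g hg).1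
  have e1 := sup_zpowers_eq q.i1 q.de hy hy'
  have e2 := sup_zpowers_eq q.i2 q.cd hx hx'
  have w3 : ∀ a ∈ E, ∀ b ∈ E, ⁅a, b⁆ ∈ U ⊔ zpowers ⁅x, y⁆ := fun a ha b => comm_of_cyc w2 e1 (fun d hd b hb =>
    comm_of_sup (q.de.trans w2) e2 (fun c hc => mem_sup_left (k1 c hc b hb)) (comm_symm (comm_of_sup w2 e1
      (fun d hd => comm_of_cyc (q.de.trans w2) e2 (fun c hc d hd => mem_sup_left (k1 c hc d (q.de hd))) hd hx)
      (comm_symm (mem_sup_right (mem_zpowers _))) hb)) hd) ha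
  have w4 : ⁅x, y⁆ ∈ U := by_contra fun c => fl (U ⊔ ⁅E, E⁆) (left_lt_sup.2 fun d => c (d
    (commutator_mem_commutator (q.de hx) hy))) (lt_of_le_of_lt (sup_le le_sup_left (commutator_le.2 w3))
      (lt_of_le_of_ne w1 fun d => hp2 (i1.trans_eq (by
        rw [← relIndex_sup_zpowers (tU w0) (u0 (eT.2 _ w0)) c, d])))) fun _ a => norm_sup' (nU a) (norm_commutator a a)
  rw [sup_of_le_left (zpowers_le.2 w4)] at w3
  have c2 : Cl2 p (Fr T) E := cl2_of_mid nF w3 (fun z hz => eT.2 z (u1.le hz)) fun z hz => ((mU z).1 hz).2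
  have := hr _ _ q.le (u1.le.trans tE) ⟨w3, fun a ha => (mU _).2 ⟨q.eC.2 a ha, fun b hb => by
    have := wt_pow hp c2 tE eT.2 (E.inv_mem ha) (Tr.wt (q.eC.tr tE hb) _ (E.inv_mem ha))
    rwa [Wt, zpow_one, inv_mul_conj_eq, inv_pow, inv_inv] at this⟩⟩
  rw [idx_mul u1.le tE, idx_mul q.cd q.de, q.i1, q.i2] at this
  have := (Nat.mul_le_mul_right _ i1).trans this
  rw [show p ^ 2 * (p * p) = p ^ 4 by ring] at this
  exact absurd ((Nat.pow_le_pow_iff_right (Fact.out : p.Prime).one_lt).1 this) (by omega)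

theorem spread (q₁ : QT p E₁ N C₁ D) (q₂ : QT p E₂ N C₂ D) (h : E₁ ≠ E₂) (n1 : Nm E₁ ≤ Nm K) (n2 : Nm E₂ ≤ Nm K)
    (h1 : ¬ E₁ ⊓ K ≤ C₁) : (∃ x ∈ N, x ∈ K ∧ x ∉ E₂) ∧ ¬ E₂ ⊓ K ≤ C₂ := by
  obtain ⟨x, hx, hx'⟩ : ∃ x ∈ E₁ ⊓ K, x ∉ D := by
    by_contra! c
    exact not_le_of_prime q₁.i1 ((q₁.sup_eq n1 h1).ge.trans (sup_le c q₁.cd))
  obtain ⟨y, hy, hy'⟩ := exists_of_prime q₂.i1
  have a : x ∉ E₂ := fun c => hx' ((q₁.inf_eq q₂ h).le ⟨hx.1, c⟩)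
  exact ⟨⟨x, q₁.le hx.1, hx.2, a⟩, fun c => q₂.nd y hy hy' x (q₁.le hx.1) a
    (c ⟨q₂.de (q₂.ed hy (q₁.le hx.1)), comm_mem_right (n2 (le_normalizer hy)) hx.2⟩)⟩

theorem two (q₁ : QT p E₁ N C₁ D) (q₂ : QT p E₂ N C₂ D) (hp : p ≠ 2) (hr : Rk p N) (h : E₁ ≠ E₂) (ht : t ∈ LL E₁ N)
    (hc : Cop p t) : t ∈ Cn C₁ := by
  have f1 : Fr E₁ ≤ C₁ ⊓ C₂ := le_inf q₁.fc (q₂.fr_le q₁ hp)
  have f2 : Fr E₂ ≤ C₁ ⊓ C₂ := le_inf (q₁.fr_le q₂ hp) q₂.fc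
  have g1 : C₁ ⊓ C₂ ≤ C₁ := inf_le_left
  have g2 : C₁ ⊓ C₂ ≤ C₂ := inf_le_right
  have g3 : ∀ x ∈ C₁, x ∈ C₂ → x ∈ C₁ ⊓ C₂ := fun _ a b => ⟨a, b⟩
  generalize C₁ ⊓ C₂ = T at *
  have n1 := q₁.inv_mid f1 g1
  have n2 := q₂.inv_mid f2 g2
  have m1 : Nm E₁ ≤ Nm (Tr T (Fr T)) := fun _ a => norm_Tr (n1 a) (norm_Fr (n1 a))
  have m2 : Nm E₂ ≤ Nm (Tr T (Fr T)) := fun _ a => norm_Tr (n2 a) (norm_Fr (n2 a))
  have pT := q₁.pgC.to_le g1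
  by_cases c : E₁ ⊓ Tr T (Fr T) ≤ C₁ ∧ E₂ ⊓ Tr T (Fr T) ≤ C₂
  · exfalso
    have k : ∀ u ∈ N, u ∈ Tr T (Fr T) → u ∈ T := fun u hu hu' =>
      have a := q₁.cen hu fun y hy => c.1 ⟨q₁.de (q₁.comm hu hy), comm_mem_left (m1 (q₁.nm hy)) hu'⟩
      g3 u (c.1 ⟨q₁.de a, hu'⟩) (c.2 ⟨q₂.de a, hu'⟩)
    have i1 := q₁.big hp hr f1 g1 fun u hu => k u (q₁.le hu.1) hu.2
    have i2 := q₂.big hp hr f2 g2 fun u hu => k u (q₂.le hu.1) hu.2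
    have n0 := (el_Fr pT).norm Fr_le
    have nF : N ≤ Nm (Fr T) := fun _ a => norm_Fr (n1 (q₁.nm a))
    have t1 := le_Tr_Cm n0 Fr_le (q₁.le.trans nF)
    have t2 := le_Tr_Cm n0 Fr_le (q₂.le.trans nF)
    by_cases e : Cm T E₁ (Fr T) = Cm T E₂ (Fr T)
    · have nU : Nm E₁ ≤ Nm (Cm T E₁ (Fr T)) := fun _ a => norm_Cm n0 (n1 a) a (norm_Fr (n1 a))
      exact q₁.flag hp f1 g1 c.1 le_rfl (le_Cm n0 Fr_le (q₁.le.trans nF)) Cm_le (fun _ a => norm_Fr (n1 a)) nU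
        (le_inf (le_inf (le_Tr_of_idx q₁.pg pT Cm_le i1.le (q₁.nm.trans n1) (q₁.nm.trans nU))
          ((q₁.sup_top q₂ h).ge.trans (sup_le t1 (e ▸ t2)))) fun _ a => mem_Tr_same (nF a))
    · have e' : Cm T E₁ (Fr T) ⊔ Cm T E₂ (Fr T) = T := (eq_or_eq_of_prime i1 le_sup_left (sup_le Cm_le Cm_le)).resolve_left
        fun d => not_le_of_ne i2 i1 Cm_le (Ne.symm e) (le_sup_right.trans d.le)
      exact not_le_of_prime q₁.i2 fun d hd => c.1 ⟨q₁.de hd, mem_Tr_of_le Fr_le fun x hx => comm_of_sup2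
        (e'.symm ▸ n0) (fun _ => Tr.comm (t1 (q₁.de hd))) (fun _ => Tr.comm (t2 (q₂.de hd))) (e'.symm ▸ hx)⟩
  · have c1 : ¬ E₁ ⊓ Tr T (Fr T) ≤ C₁ := fun d => (q₂.spread q₁ h.symm m2 m1 fun d' => c ⟨d, d'⟩).2 d
    obtain ⟨y, a1, a2, a3⟩ := (q₂.spread q₁ h.symm m2 m1 (q₁.spread q₂ h m1 m2 c1).2).1
    have a4 := (hc.mem_of_sup q₁.pgC (q₁.cn.trans (q₁.nm.trans m1)) (LL_le (le_of_prime q₁.idx q₁.le
      ((q₁.sup_eq m1 c1).ge.trans (sup_le (inf_le_right.trans le_sup_right) le_sup_left)) a1 a3 (mem_sup_right a2))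
      (((centralizer_le (g1.trans q₁.ce)).trans (Cn_le_Tr Fr_le)).trans le_sup_right)
      (fun _ a => norm_sup' (q₁.nc a) (m1 a)) ht))
    exact mem_Tr_bot.1 (hc.tr pT (Tr.mono (q₁.tl ht) le_rfl f1 g1) (mem_Tr_bot.2 (hc.cent pT a4)))

end QT

end CF.FusC
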