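import Cfsg.Agent.FusC.F

/-! Essential subgroups of cubic type. -/

set_option autoImplicit false
set_option linter.style.haveILetI false
set_option linter.unusedSectionVars false
set_option linter.unusedVariables false

namespace CF.FusC

open Cfsg Subgroup CF.Fus
open scoped commutatorElement

universe u

variable {G : Type u} [Group G] {p : ℕ} {A B C D E H K M N O P Q R S T U V W X Y Z Γ E₁ E₂ C₁ C₂ D₁ D₂ : Subgroup G}
  {a b c d e g h s t u v w x y z ξ : G} {i j k l m : ℤ}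

theorem comm_mul_left' (h : Commute ⁅y, z⁆ x) (h' : Commute ⁅y, z⁆ ⁅x, z⁆) : ⁅x * y, z⁆ = ⁅x, z⁆ * ⁅y, z⁆ := by
  rw [← h'.eq, show ⁅x * y, z⁆ = x * ⁅y, z⁆ * x⁻¹ * ⁅x, z⁆ by simp only [commutatorElement_def]; group, ← h.eq]
  group

theorem comm_mul_right' (h : Commute ⁅x, z⁆ y) : ⁅x, y * z⁆ = ⁅x, y⁆ * ⁅x, z⁆ := by
  rw [show ⁅x, y * z⁆ = ⁅x, y⁆ * (y * ⁅x, z⁆ * y⁻¹) by simp only [commutatorElement_def]; group, ← h.eq]
  group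

theorem cl2_id (hA : ∀ x ∈ A, ∀ y ∈ A, ∀ z ∈ A, Commute ⁅x, y⁆ z) (he : e ∈ A) (hs : s ∈ Nm A) (hb : ⁅e, s⁆ = b)
    (hc : ⁅b, s⁆ = c) (hd : ∀ x ∈ A, Commute ⁅c, s⁆ x) :
    ⁅⁅e, b⁆, s⁆ = ⁅e, c⁆ * ⁅b, c⁆⁻¹ ∧ ⁅⁅⁅e, b⁆, s⁆, s⁆ = ⁅b, c⁆ := by
  have mb : b ∈ A := hb ▸ comm_mem_left hs he
  have mc : c ∈ A := hc ▸ comm_mem_left hs mb
  have mm : ∀ x ∈ A, ∀ y ∈ A, ⁅x, y⁆ ∈ A := fun x hx y hy => comm_mem_left (le_normalizer hy) hx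
  have L : ∀ x ∈ A, ∀ y ∈ A, ∀ z ∈ A, ⁅x⁻¹ * y, z⁆ = ⁅x, z⁆⁻¹ * ⁅y, z⁆ := fun x hx y hy z hz => by
    rw [comm_mul_left' (hA y hy z hz _ (A.inv_mem hx)) (hA y hy z hz _ (mm _ (A.inv_mem hx) z hz)), ← zpow_neg_one x,
      comm_zpow_left (hA x hx z hz x hx), zpow_neg_one]
  have R : ∀ x ∈ A, ∀ y ∈ A, ∀ z ∈ A, ⁅x, y⁻¹ * z⁆ = ⁅x, y⁆⁻¹ * ⁅x, z⁆ := fun x hx y hy z hz => by
    rw [comm_mul_right' (hA x hx z hz _ (A.inv_mem hy)), ← zpow_neg_one y, comm_zpow_right (hA x hx y hy y hy),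
      zpow_neg_one]
  have k : ∀ y : G, s * y * s⁻¹ = ⁅y, s⁆⁻¹ * y := fun y => by rw [commutatorElement_def]; group
  have k' : ∀ y : G, ⁅y, s⁆ = y * (s * y * s⁻¹)⁻¹ := fun y => by rw [commutatorElement_def]; group
  have d1 : ∀ x ∈ A, ⁅x, ⁅c, s⁆⁆ = 1 := fun x hx => commutatorElement_eq_one_iff_commute.2 (hd x hx).symm
  have md := comm_mem_left hs mc
  have mbe := mul_mem (A.inv_mem mb) he
  have c1 := (hA b mb c mc _ (mm e he c mc)).eq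
  have c2 := (hA b mb c mc _ (mm e he b mb)).eq
  have c3 := (hA e he c mc _ (mm e he b mb)).eq
  have e1 : s * ⁅e, b⁆ * s⁻¹ = (⁅b, c⁆⁻¹ * ⁅e, c⁆)⁻¹ * ⁅e, b⁆ := by
    rw [conj_comm, k e, k b, hb, hc, R _ mbe c mc b mb, L b mb e he c mc, L b mb e he b mb]; simp
  have e2 : s * ⁅e, c⁆ * s⁻¹ = ⁅b, c⁆⁻¹ * ⁅e, c⁆ := by
    rw [conj_comm, k e, k c, hb, R _ mbe _ md c mc, d1 _ mbe, L b mb e he c mc]; simp
  have e3 : s * ⁅b, c⁆ * s⁻¹ = ⁅b, c⁆ := by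
    rw [conj_comm, k b, k c, hc, R _ (mul_mem (A.inv_mem mc) mb) _ md c mc, d1 _ (mul_mem (A.inv_mem mc) mb),
      L c mc b mb c mc]; simp
  generalize ⁅e, b⁆ = y at *
  generalize ⁅e, c⁆ = u at *
  generalize ⁅b, c⁆ = v at *
  have c4 : v⁻¹ * u = u * v⁻¹ := by rw [inv_mul_eq_iff_eq_mul, ← mul_assoc, c1]; group
  have f : ⁅y, s⁆ = u * v⁻¹ := by rw [k', e1, ← c4]; group
  refine ⟨f, ?_⟩
  rw [f, k', show s * (u * v⁻¹) * s⁻¹ = s * u * s⁻¹ * (s * v * s⁻¹)⁻¹ by group, e2, e3, c4]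
  calc _ = u * v * u⁻¹ := by group
    _ = v := by rw [← c1]; group

/-- `A / Φ(A)` is an irreducible module for `H` on which `s` is cubic -/
structure JM (p : ℕ) (H : Subgroup G) (s : G) (A : Subgroup G) : Prop where
  le : A ≤ H
  nm : H ≤ Nm A
  j3 : ∃ e ∈ A, ⁅⁅e, s⁆, s⁆ ∉ Fr A
  irr : ∀ X, Fr A ≤ X → X ≤ A → H ≤ Nm X → X = Fr A ∨ X = A

variable [Fact p.Prime] [Finite G]

theorem Cl2.norm_Pw {hp : p ≠ 2} {h : Cl2 p W A} {hX : W ≤ X} (h1 : g ∈ Nm A) (h2 : g ∈ Nm X) :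
    g ∈ Nm (h.Pw hp hX) := mem_normalizer_of_le (S := ⊤) le_top fun a ha =>
  ⟨conj_mem_of_norm h1 ha.1, by rw [conj_pow]; exact conj_mem_of_norm h2 ha.2⟩

theorem Cl2.comm_pow (hp : p ≠ 2) (h : Cl2 p W A) (ha : a ∈ A) (hs : s ∈ Nm A) : ⁅a ^ p, s⁆⁻¹ * ⁅a, s⁆ ^ p ∈ W := by
  have := h.mul_pow hp ha (conj_mem_of_norm hs (A.inv_mem ha))
  rwa [conj_pow, show a ^ p * (s * a⁻¹ ^ p * s⁻¹) = ⁅a ^ p, s⁆ by rw [commutatorElement_def]; group,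
    show a * (s * a⁻¹ * s⁻¹) = ⁅a, s⁆ by rw [commutatorElement_def]; group] at this

theorem Fl.idx (f : Fl p s A B V W) : B.relIndex A = p ^ 3 := by
  rw [idx_mul f.l1 (f.l2.trans f.l3), idx_mul f.l2 f.l3, f.i1, f.i2, f.i3]; ring

theorem JM.step (j : JM p H s A) (hp : p ≠ 2) (hA : IsPGroup p A) (hr : Rk p A) (hs : s ∈ H) {n : ℕ}
    (hn : s ^ p ^ n = 1) (h : Fr A ≠ ⊥) : JM p H s (Fr A) := by
  have eA := el_Fr hA
  obtain ⟨e, he, he'⟩ := j.j3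
  have sA := j.nm hs
  obtain ⟨V₁, V₂, f⟩ := exists_fl hA Fr_le eA (hr.fr hA le_rfl) hn sA (norm_Fr sA) he he'
  have irr := j.irr
  have bA : Fr A ≤ A := Fr_le
  have nB : H ≤ Nm (Fr A) := fun _ a => norm_Fr (j.nm a)
  have hF : ∀ W, El p W A → Fr A ≤ W := fun W a => a.Fr_le le_rfl
  generalize Fr A = B at *
  have pB := hA.to_le bA
  have eB := el_Fr pB
  have a0 : ⁅B, A⁆ < B := CF.Coprime.commutator_lt_of_isPGroup pB hA (j.le.trans nB) h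
  have w1 : ⁅B, A⁆ ⊔ Fr B < B := lt_of_le_not_ge (sup_le a0.le Fr_le) fun c =>
    a0.ne (CF.Coprime.eq_of_sup_frattiniOf a0.le c)
  have w2 : H ≤ Nm (⁅B, A⁆ ⊔ Fr B) := fun _ a => norm_sup' (norm_commutator (nB a) (j.nm a)) (norm_Fr (nB a))
  have w3 : ∀ b ∈ B, ∀ a ∈ A, ⁅b, a⁆ ∈ ⁅B, A⁆ ⊔ Fr B := fun b hb a ha => mem_sup_left (commutator_mem_commutator hb ha)
  have w4 : Fr B ≤ ⁅B, A⁆ ⊔ Fr B := le_sup_right
  generalize ⁅B, A⁆ ⊔ Fr B = W at *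
  have aW := j.le.trans w2
  have c2 : Cl2 p W A := cl2_of_mid aW eA.1 (fun z hz => w4 (eB.2 z hz)) w3
  have kX : ∀ X (hX : W ≤ X), H ≤ Nm X → c2.Pw hp hX = B ∨ c2.Pw hp hX = A := fun X hX a =>
    irr _ (fun b hb => ⟨bA hb, hX (w4 (eB.2 b hb))⟩) (fun _ a => a.1) fun g hg => Cl2.norm_Pw (j.nm hg) (a hg)
  have mb := f.m3 e he
  have mc := Tr.comm f.t2 mb
  have nb : ⁅e, s⁆ ∉ V₁ := fun c => he' ((f.m1 _ (f.l3 mb)).1 c)
  have ne : e ∉ V₂ := fun c => nb ((f.m2 _ he).1 c)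
  rcases kX W le_rfl w2 with k | k
  · have inj : ∀ x ∈ A, ∀ y ∈ A, (x ^ p)⁻¹ * y ^ p ∈ W → x⁻¹ * y ∈ B := fun x hx y hy c =>
      k.le ⟨mul_mem (A.inv_mem hx) hy, mem_of_inv_mul (by rwa [inv_pow]) (c2.mul_pow hp (A.inv_mem hx) hy)⟩
    have i1 := relIndex_le_of_inj (· ^ p) eA.2 inj
    have i2 := hr.fr hA bA
    rw [f.idx] at i1
    obtain rfl : W = Fr B := by
      by_contra c
      have := (i1.trans (idx_le_of_cube' pB (lt_of_le_of_ne w4 (Ne.symm c)) w1.le i2))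
      exact absurd ((Nat.pow_le_pow_iff_right (Fact.out : p.Prime).one_lt).1 this) (by omega)
    have sj := fun b (hb : b ∈ B) => surj_of_inj (· ^ p) eA.2 inj (f.idx ▸ i2) hb
    refine ⟨bA.trans j.le, nB, ⟨e ^ p, eA.2 e he, fun c => he' (k.le ⟨f.l3 (f.l2 mc), ?_⟩)⟩, fun X x1 x2 x3 => ?_⟩
    · have d1 := c2.comm_pow hp he sA
      have d2 : ⁅e, s⁆ ^ p ∈ Cm1 s (Fr B) := mem_of_inv_mul ⟨aW (comm_mem_left sA (pow_mem he p)), c⟩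
        ⟨le_normalizer d1, comm_mem_left (w2 hs) d1⟩
      exact mem_of_inv_mul d2.2 (c2.comm_pow hp (f.l3 mb) sA)
    · refine (kX X x1 x3).imp (fun k' => le_antisymm (fun x hx => ?_) x1) fun k' => le_antisymm x2 fun b hb => ?_
      · obtain ⟨a, ha, d⟩ := sj x (x2 hx)
        exact mem_of_inv_mul (eB.2 a (k'.le ⟨ha, mem_of_inv_mul' hx (x1 d)⟩)) d
      · obtain ⟨a, ha, d⟩ := sj b hb
        exact mem_of_inv_mul (k'.ge ha).2 (x1 d)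
  · exfalso
    have pw : ∀ a ∈ A, a ^ p ∈ W := fun a ha => (k.ge ha).2
    have v1 := f.l2.trans f.l3
    have e1 := sup_zpowers_eq f.i1 f.l1 mc he'
    have e2 := sup_zpowers_eq f.i2 f.l2 mb nb
    have e3 := sup_zpowers_eq f.i3 f.l3 he ne
    have l1 := lt_of_prime f.l1 f.i1
    have i1 := idx_le_of_cube (hA.to_le v1) w1.le l1 (hr _ _ v1 (w1.le.trans f.l1)
      ⟨fun x hx y => comm_of_cyc (v1.trans aW) e1 (fun b hb a ha => w3 b hb a (v1 ha)) hx, fun x hx => pw x (v1 hx)⟩)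
    have pK := isPGroup_zpowers hn
    obtain ⟨X, x1, x2, x3, x4, x5⟩ := exists_mid pK pB (zpowers_le.2 (nB hs)) (zpowers_le.2 (w2 hs)) (bA.trans aW)
      w1.le i1
    have t1 := le_Tr_of_idx pK pB x2 x4 (zpowers_le.2 (nB hs)) x5 (mem_zpowers s)
    have t2 := le_Tr_of_idx pK (pB.to_le x2) x1 x3 x5 (zpowers_le.2 (w2 hs)) (mem_zpowers s)
    obtain ⟨Q, _, _, π, hπ, hk⟩ := exists_quot W
    have mA := hπ.mono aW
    have mm : ∀ x ∈ A, ∀ y ∈ A, ⁅x, y⁆ ∈ A := fun x hx y hy => bA (eA.1 x hx y hy)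
    have bA' := f.l3 mb
    have cA' := v1 mc
    have sW := w2 hs
    obtain ⟨g1, g2⟩ := cl2_id (A := img π A) (e := π e) (s := π s) (fun x' hx' y' hy' z' hz' => by
        obtain ⟨x, hx, rfl⟩ := mA.mem_img.1 hx'
        obtain ⟨y, hy, rfl⟩ := mA.mem_img.1 hy'
        obtain ⟨z, hz, rfl⟩ := mA.mem_img.1 hz'
        rw [← mA.map_comm hx hy]
        exact (quot_comm hπ hk (aW (mm x hx y hy)) (aW hz)).1 ((c2.2 x hx y hy).2 z hz)) (mem_img_of_mem he)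
      (mem_normalizer_of_le (S := ⊤) le_top fun x' hx' => by
        obtain ⟨x, hx, rfl⟩ := mA.mem_img.1 hx'
        rw [← hπ.map_conj sW (aW hx)]; exact mem_img_of_mem (conj_mem_of_norm sA hx))
      (hπ.map_comm (aW he) sW).symm (hπ.map_comm (aW bA') sW).symm fun x' hx' => by
        obtain ⟨x, hx, rfl⟩ := mA.mem_img.1 hx'
        rw [← hπ.map_comm (aW cA') sW]
        exact (quot_comm hπ hk (aW (bA (Tr.comm f.t1 mc))) (aW hx)).1 (w3 _ (Tr.comm f.t1 mc) x hx)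
    have y1 := eA.1 e he _ bA'
    have y2 := Tr.comm t1 y1
    rw [← mA.map_comm he bA', ← hπ.map_comm (aW (bA y1)) sW] at g1 g2
    rw [← hπ.map_comm (aW (bA (x2 y2))) sW, (hk _ (le_normalizer (Tr.comm t2 y2))).2 (Tr.comm t2 y2)] at g2
    have bc := (quot_comm hπ hk (aW bA') (aW cA')).2 (commutatorElement_eq_one_iff_commute.1 g2.symm)
    have cv : ∀ x ∈ V₂, ⁅x, ⁅⁅e, s⁆, s⁆⁆ ∈ W := fun x => comm_of_sup (f.l3.trans aW) e2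
      (fun y hy => comm_of_cyc (v1.trans aW) e1 (fun b hb a ha => w3 b hb a (v1 ha)) hy mc) bc
    have i2 := (idx3 (hA.to_le f.l3) w1 l1 (lt_of_prime f.l2 f.i2) (hr _ _ f.l3 (w1.le.trans (f.l1.trans f.l2))
      ⟨fun x hx y => comm_of_cyc (f.l3.trans aW) e2 (fun v hv a ha => comm_of_sup (v1.trans aW) e1
        (fun b hb => w3 b hb a (f.l3 ha)) (comm_symm (cv a ha)) hv) hx, fun x hx => pw x (f.l3 hx)⟩)).1
    have y3 := Tr.comm (le_Tr_of_idx pK pB w1.le i2.le (zpowers_le.2 (nB hs)) (zpowers_le.2 sW) (mem_zpowers s)) y1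
    rw [(hk _ (le_normalizer y3)).2 y3, ← g2, inv_one, mul_one] at g1
    have ec := (quot_comm hπ hk (aW he) (aW cA')).2 (commutatorElement_eq_one_iff_commute.1 g1.symm)
    rcases irr (Cm A A W) (fun b hb => (mem_Cm aW).2 ⟨bA hb, w3 b hb⟩) Cm_le
      (fun g hg => norm_Cm aW (j.nm hg) (j.nm hg) (w2 hg)) with c | c
    · exact he' (c.le ((mem_Cm aW).2 ⟨cA', fun x hx => comm_symm (comm_of_sup aW e3 cv ec hx)⟩))
    · exact w1.not_ge (hF W ⟨fun x hx => ((mem_Cm aW).1 (c.ge hx)).2, pw⟩)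

theorem JM.last (hp : p ≠ 2) (hs : s ∈ H) {n : ℕ} (hn : s ^ p ^ n = 1) : ∀ A : Subgroup G, JM p H s A →
    IsPGroup p A → Rk p A → ∃ Z, Z ≤ A ∧ JM p H s Z ∧ Fr Z = ⊥ := by
  refine up_induction fun A ih j hA hr => ?_
  by_cases h : Fr A = ⊥
  · exact ⟨A, le_rfl, j, h⟩
  · obtain ⟨Z, a, b⟩ := ih (Fr A) (card_lt_of_lt (CF.Coprime.frattiniOf_lt fun c => h (le_bot_iff.1 (c ▸ Fr_le))))
      (j.step hp hA hr hs hn h) (hA.to_le Fr_le) (hr.mono Fr_le)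
    exact ⟨Z, a.trans Fr_le, b⟩

namespace JT

theorem pgE (j : JT p E N) : IsPGroup p E := j.pg.to_le j.le

theorem fl (j : JT p E N) (hs : s ∈ N) (hs' : s ∉ E) : ∃ V W, Fl p s E (Fr E) V W :=
  let ⟨_, he, he'⟩ := j.j3 s hs hs'
  let ⟨_, hn⟩ := isPGroup_iff_mem.1 j.pg s hs
  exists_fl j.pgE Fr_le (el_Fr j.pgE) j.rk hn (j.nm hs) (norm_Fr (j.nm hs)) he he'

theorem fr_bot (j : JT p E₂ N) (hp : p ≠ 2) (hr : Rk p N) (h1 : E₁ ≤ N) (hi : E₁.relIndex N = p) (h : E₁ ≠ E₂)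
    (hn : ¬ Nm E₁ ≤ Nm (E₁ ⊓ E₂)) : Fr E₂ = ⊥ := by
  by_contra hF
  have n1 := not_le_of_ne hi j.idx j.le h
  obtain ⟨s, hs, hs'⟩ := SetLike.not_le_iff_exists.1 n1
  obtain ⟨n, hn'⟩ := isPGroup_iff_mem.1 j.pg s (h1 hs)
  have sE := j.nm (h1 hs)
  have j0 : JM p (Nm E₂) s E₂ := ⟨le_normalizer, le_rfl, j.j3 s (h1 hs) hs', j.irr⟩
  obtain ⟨Z, z1, jz, z2⟩ := JM.last hp sE hn' _ (j0.step hp j.pgE (hr.mono j.le) sE hn' hF) (j.pgE.to_le Fr_le)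
    (hr.mono (Fr_le.trans j.le))
  have zE := z1.trans Fr_le
  have zD : Z ≤ E₁ := z1.trans ((el_of_idx j.pg h1 hi.le).Fr_le j.le)
  have pZ := j.pgE.to_le zE
  obtain ⟨e, he, he'⟩ := jz.j3
  have eZ := el_Fr pZ
  obtain ⟨Z₁, Z₂, f⟩ := exists_fl pZ Fr_le eZ (hr.fr j.pg (zE.trans j.le)) hn' (jz.nm sE) (norm_Fr (jz.nm sE)) he he'
  have zC : Z ≤ Cn E₂ := by
    obtain ⟨z, a1, a2, -, a4⟩ := exists_fix j.pgE zE (le_normalizer.trans jz.nm) fun c => he' (by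
      rw [mem_bot.1 (c.le he)]; simp)
    exact ((jz.irr (Z ⊓ Cn E₂) (z2.le.trans bot_le) inf_le_left fun _ a => norm_inf (jz.nm a) (norm_Cn a)).resolve_left
      fun c => a4 (mem_bot.1 (z2.le (c.le ⟨a1, a2⟩)))).ge.trans inf_le_right
  rw [z2] at f eZ
  have eC := Cn_symm zC
  have iD := idx_inf j.pg h1 j.idx n1
  have l12 := f.l2.trans f.l3
  have kD : ∀ K, E₁ ⊓ E₂ ≤ K → s ∉ K → ∀ y ∈ E₁, y ∈ K → y ∈ E₂ := fun K a b y hy c => by_contra fun d =>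
    b (le_of_prime iD inf_le_left a hy (fun e => d e.2) c hs)
  have ka : ∀ y ∈ E₂, y ^ p = 1 → y ∈ Z := fun y hy c => by_contra fun d => by
    have a : Z ⊔ zpowers y ≤ E₂ := sup_le zE (zpowers_le.2 hy)
    have b : ∀ u ∈ Z ⊔ zpowers y, ∀ v ∈ Z ⊔ zpowers y, ⁅u, v⁆ ∈ (⊥ : Subgroup G) := fun u hu v =>
      comm_of_cyc (fun _ _ => mem_Nm_bot) rfl (fun u hu v hv => mem_bot.2 (mem_Cn_comm.1 (eC (a hv)) u hu)) hu
    exact hr.false4 j.pg (a.trans j.le) (lt_of_prime f.l1 f.i1) (lt_of_prime f.l2 f.i2) (lt_of_prime f.l3 f.i3)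
      (left_lt_sup.2 fun e => d (e (mem_zpowers y)))
      ⟨b, fun u => (cl2_of_comm (fun _ _ => mem_Nm_bot) b).pow_of_sup hp rfl eZ.2 (mem_bot.2 c)⟩
  have kb : ∀ y ∈ E₁, y ∈ Tr Z Z₁ → y ∈ E₂ := kD _ (inf_le_right.trans (eC.trans (Cn_le_Tr l12))) fun c =>
    not_le_of_prime f.i3 fun v hv => (f.m2 v hv).2 (Tr.comm c hv)
  have kc : ∀ y ∈ E₁, y ∈ Cn Z₂ → y ∈ E₂ := kD _ (inf_le_right.trans (eC.trans (centralizer_le f.l3))) fun c =>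
    not_le_of_prime f.i2 fun v hv => (f.m1 v (f.l3 hv)).2 (mem_bot.2 (mem_Cn_comm.1 c v hv))
  have t1 : E₁ ≤ Cn Z₁ := le_of_prime iD inf_le_left (inf_le_right.trans (eC.trans (centralizer_le l12))) hs
    (fun c => hs' c.2) (mem_Tr_bot.1 f.t1)
  have t2 : E₁ ≤ Tr Z₂ Z₁ := le_of_prime iD inf_le_left
    (inf_le_right.trans (eC.trans ((centralizer_le f.l3).trans (Cn_le_Tr f.l2)))) hs (fun c => hs' c.2) f.t2
  have pw : ∀ g : G, ∀ z ∈ Z, (g * z * g⁻¹) ^ p = 1 := fun g z hz => by rw [conj_pow, mem_bot.1 (eZ.2 z hz)]; simp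
  refine hn fun g hg => ?_
  have g1 : g ∈ Nm Z₁ := mem_normalizer_of_le (S := ⊤) le_top fun z hz => by
    have a := conj_mem_of_norm (norm_Cn hg) (Cn_symm t1 hz)
    have b := ka _ (kc _ (conj_mem_of_norm hg (zD (l12 hz))) (centralizer_le (f.l3.trans zD) a)) (pw g z (l12 hz))
    exact (f.m1 _ b).2 (comm_symm (mem_bot.2 (mem_Cn_comm.1 a s hs)))
  have g2 : g ∈ Nm Z₂ := mem_normalizer_of_le (S := ⊤) le_top fun z hz => by
    have a : ∀ y ∈ E₁, ⁅y, g * z * g⁻¹⁆ ∈ Z₁ := fun y hy => by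
      have := conj_mem_of_norm g1 (Tr.comm' (t2 (conj_mem_of_norm' hg hy)) hz)
      rwa [conj_comm, show g * (g⁻¹ * y * g) * g⁻¹ = y by group] at this
    have b := ka _ (kb _ (conj_mem_of_norm hg (zD (f.l3 hz))) (mem_Tr_of_le l12 fun y hy => a y (zD hy)))
      (pw g z (f.l3 hz))
    exact (f.m2 _ b).2 (comm_symm (a s hs))
  rw [show E₁ ⊓ E₂ = E₁ ⊓ Cn Z₂ from le_antisymm (inf_le_inf_left _ (eC.trans (centralizer_le f.l3)))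
    fun y hy => ⟨hy.1, kc y hy.1 hy.2⟩]
  exact norm_inf hg (norm_Cn g2)

theorem not_inv (j : JT p E₁ N) (h2 : E₂ ≤ N) (hi : E₂.relIndex N = p) (h : E₁ ≠ E₂) : ¬ Nm E₁ ≤ Nm (E₁ ⊓ E₂) :=
  fun c => by
    have n1 := not_le_of_ne j.idx hi h2 h
    obtain ⟨s, hs, hs'⟩ := exists_of_prime j.idx
    obtain ⟨V, W, f⟩ := j.fl hs hs'
    rcases j.irr _ (le_inf Fr_le ((el_of_idx j.pg h2 hi.le).Fr_le j.le)) inf_le_left c with e | e
    · have := idx_inf j.pg j.le hi n1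
      rw [e] at this
      rcases eq_or_eq_of_prime this f.l1 (f.l2.trans f.l3) with e | e
      exacts [not_le_of_prime f.i1 e.le, not_le_of_prime f.i3 (e.ge.trans f.l2)]
    · exact n1 (e.ge.trans inf_le_right)

theorem not_inv' (j : JT p E₂ N) (q : QT p E₁ N C D) (hp : p ≠ 2) (h : E₁ ≠ E₂) : ¬ Nm E₁ ≤ Nm (E₁ ⊓ E₂) :=
  fun c => by
    have n1 := not_le_of_ne q.idx j.idx j.le h
    have n2 := not_le_of_ne j.idx q.idx q.le h.symm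
    obtain ⟨s, hs, hs'⟩ := exists_of_prime j.idx
    obtain ⟨V, W, f⟩ := j.fl hs hs'
    obtain ⟨e, he, he'⟩ := exists_of_prime f.i3
    have a1 : ⁅e, s⁆ ∈ E₂ ⊓ D := ⟨f.l3 (f.m3 e he), q.comm (j.le he) hs⟩
    have a2 : ⁅e, s⁆ ∉ V := fun c => he' ((f.m2 e he).2 c)
    have a3 := (f.inv (lt_of_le_not_ge (le_inf Fr_le ((q.eD hp).Fr_le j.le)) fun c => a2 (f.l1 (c a1)))
      (inf_lt_left.2 fun c => n2 (c.trans q.de)) (norm_inf (j.nm hs) (q.nD hs))).resolve_left fun c => a2 (c.le a1)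
    have a4 := (eq_or_eq_of_prime f.i3 (C := E₁ ⊓ E₂) (a3.ge.trans (le_inf (inf_le_right.trans q.de) inf_le_left))
      inf_le_right).resolve_right fun c => n2 (c.ge.trans inf_le_left)
    have a5 := (eq_or_eq_of_prime (idx_inf j.pg q.le j.idx n1) (a4.le.trans (a3.ge.trans inf_le_right))
      q.de).resolve_right fun c => not_le_of_prime q.i1 c.ge
    obtain ⟨ξ, b1, b2⟩ := q.xi
    obtain ⟨x, hx, hx'⟩ := exists_of_prime q.i2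
    exact b2 x hx hx' (a5.ge (conj_mem_of_norm (c b1) (a5.le hx)))

theorem not_ab (j : JT p E₂ N) (h1 : E₁ ≤ N) (hi : E₁.relIndex N = p) (h : E₁ ≠ E₂) : ¬ E₁ ≤ Cn E₁ := fun c => by
  obtain ⟨s, hs, hs'⟩ := SetLike.not_le_iff_exists.1 (not_le_of_ne hi j.idx j.le h)
  obtain ⟨e, he, he'⟩ := j.j3 s (h1 hs) hs'
  refine he' ?_
  rw [mem_Cn_comm.1 (c hs) _ ((el_of_idx j.pg h1 hi.le).1 e (j.le he) s (h1 hs))]; exact one_mem _

theorem caseA (j : JT p E₂ N) (hp : p ≠ 2) (hr : Rk p N) (h : E₁ ≠ E₂) (h1 : JT p E₁ N ∨ ∃ C D, QT p E₁ N C D) :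
    Fr E₂ = ⊥ := by
  rcases h1 with j₁ | ⟨C, D, q⟩
  exacts [j.fr_bot hp hr j₁.le j₁.idx h (j₁.not_inv j.le j.idx h), j.fr_bot hp hr q.le q.idx h (j.not_inv' q hp h)]

theorem ab (j : JT p E N) (h : Fr E = ⊥) : E ≤ Cn E := fun x hx =>
  mem_Cn_comm.2 fun y hy => mem_bot.1 (h ▸ (el_Fr j.pgE).1 y hy x hx)

theorem not_two (j₁ : JT p E₁ N) (j₂ : JT p E₂ N) (hp : p ≠ 2) (hr : Rk p N) : E₁ = E₂ := by_contra fun h =>
  j₂.not_ab j₁.le j₁.idx h (j₁.ab (j₁.caseA hp hr (Ne.symm h) (Or.inl j₂)))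

theorem card (j : JT p E N) (h : Fr E = ⊥) : Nat.card E = p ^ 3 := by
  obtain ⟨s, hs, hs'⟩ := exists_of_prime j.idx
  obtain ⟨V, W, f⟩ := j.fl hs hs'
  rw [← f.idx, h, relIndex_bot_left]

theorem card' (j : JT p E N) (h : Fr E = ⊥) (h1 : E₁ ≤ N) (hi : E₁.relIndex N = p) : Nat.card E₁ = p ^ 3 := by
  have := card_eq_mul' h1
  rw [card_eq_mul' j.le, j.card h, j.idx, hi] at this
  exact (Nat.eq_of_mul_eq_mul_right (Fact.out : p.Prime).pos this).symm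

end JT

end CF.FusC
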