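import Cfsg.Agent.FusC.G

/-! Essential subgroups of quadratic type which are not normal in `S`. -/

set_option autoImplicit false
set_option linter.style.haveILetI false
set_option linter.unusedSectionVars false
set_option linter.unusedVariables false

namespace CF.FusC

open Cfsg Subgroup CF.Fus
open scoped commutatorElement

universe u

variable {G : Type u} [Group G] {p : ℕ} {A B C D E H K M N O P Q R S T U V W X Y Z Γ E₁ E₂ C₁ C₂ D₁ D₂ : Subgroup G}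
  {a b c d e g h r s t u v w x y z ξ : G} {i j k l m : ℤ}

theorem conj_comm_fix (h1 : Commute (e⁻¹ * (g * e * g⁻¹)) a) (h2 : Commute (a⁻¹ * (g * a * g⁻¹)) (g * e * g⁻¹)) :
    g * ⁅e, a⁆ * g⁻¹ = ⁅e, a⁆ := by
  rw [conj_comm, ← comm_mul_cancel h1, ← mul_inv_cancel_left a (g * a * g⁻¹), comm_mul_cancel' h2, mul_inv_cancel_left]

theorem commute_of_Cn (h : g ∈ Cn X) (hx : x ∈ X) : Commute x g := mem_centralizer_iff.1 h x hx

theorem same_of_Cn (h1 : g⁻¹ * h ∈ Cn P) (hy : y ∈ P) : g * y * g⁻¹ = h * y * h⁻¹ := by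
  conv_lhs => rw [← mem_Cn.1 h1 y hy]
  group

theorem le_Cn_of_bot (h : ∀ x ∈ A, ∀ y ∈ B, ⁅x, y⁆ ∈ (⊥ : Subgroup G)) : B ≤ Cn A := fun y hy =>
  mem_Cn_comm.2 fun x hx => mem_bot.1 (h x hx y hy)

theorem bot_of_Cn (h : y ∈ Cn A) (hx : x ∈ A) : ⁅x, y⁆ ∈ W := by rw [mem_Cn_comm.1 h x hx]; exact one_mem _

theorem le_Nm_bot : A ≤ Nm (⊥ : Subgroup G) := fun _ _ => mem_Nm_bot

theorem ab_of_cyc (e : Y ⊔ zpowers x = X) (h : X ≤ Cn Y) : X ≤ Cn X :=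
  le_Cn_of_bot fun _ hx _ => comm_of_cyc le_Nm_bot e (fun _ a _ b => bot_of_Cn (h b) a) hx

/-- the next normalizer `R` of a non-normal essential subgroup -/
structure NN (p : ℕ) (E N R C D A : Subgroup G) : Prop where
  q : QT p E N C D
  pg : IsPGroup p R
  nr : N ≤ R
  rn : R ≤ Nm N
  idx : N.relIndex R = p
  da : D ≤ A
  an : A ≤ N
  i1 : D.relIndex A = p
  i2 : A.relIndex N = p
  ne : A ≠ E
  t1 : R ≤ Tr N A
  t2 : R ≤ Tr A D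
  nd : ∀ e ∈ E, e ∉ D → ∀ r ∈ R, r ∉ N → ⁅e, r⁆ ∉ D
  na : Nm N ≤ Nm A
  nD : Nm N ≤ Nm D
  ext : ∀ h ∈ Nm N, Cop p h → ∃ g ∈ Nm R, Cop p g ∧ g⁻¹ * h ∈ Cn N

/-- a torus element -/
structure Tor (p : ℕ) (E N R C D : Subgroup G) (h : G) (l m : ℤ) : Prop where
  lm : (p : ℤ) ∣ l * m - 1
  mem : h ∈ LL E N
  nN : h ∈ Nm N
  nR : h ∈ Nm R
  cop : Cop p h
  w1 : WtOn h D C l
  w2 : WtOn h E D m

variable [Fact p.Prime] [Finite G]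

theorem exists_prim' (p : ℕ) [Fact p.Prime] : ∃ l m : ℤ, (p : ℤ) ∣ l * m - 1 ∧ ∀ k : ℕ, (p : ℤ) ∣ l ^ k - 1 → p - 1 ∣ k := by
  obtain ⟨g, hg⟩ := IsCyclic.exists_generator (α := (ZMod p)ˣ)
  have ho : orderOf g = p - 1 := by
    rw [orderOf_eq_card_of_forall_mem_zpowers hg, Nat.card_eq_fintype_card, ZMod.card_units]
  refine ⟨((g : ZMod p).val : ℤ), (((g⁻¹ : (ZMod p)ˣ) : ZMod p).val : ℤ), ?_, fun k => ?_⟩
  all_goals rw [← ZMod.intCast_zmod_eq_zero_iff_dvd]; push_cast; simp only [ZMod.natCast_zmod_val]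
  · rw [mul_inv_cancel₀ g.ne_zero, sub_self]
  · intro h
    exact ho ▸ orderOf_dvd_of_pow_eq_one (Units.ext (by rw [Units.val_pow_eq_pow_val]; simpa [sub_eq_zero] using h))

theorem exists_prim5 (hp : 5 ≤ p) : ∃ l m : ℤ, (p : ℤ) ∣ l * m - 1 ∧ ¬ (p : ℤ) ∣ l ^ 2 - 1 ∧ ¬ (p : ℤ) ∣ l ^ 3 - 1 ∧
    ¬ (p : ℤ) ∣ l ^ 5 - 1 ∧ (p ≠ 7 → ¬ (p : ℤ) ∣ l ^ 6 - 1) := by
  obtain ⟨l, m, h1, h2⟩ := exists_prim' p
  have h6 : p ≠ 6 := fun c => absurd (c ▸ Fact.out : Nat.Prime 6) (by norm_num)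
  refine ⟨l, m, h1, fun c => ?_, fun c => ?_, fun c => ?_, fun c' c => ?_⟩
  all_goals
    have a := h2 _ c
    have := Nat.le_of_dvd (by norm_num) a
    obtain ⟨q, rfl⟩ : ∃ q, p = q + 1 := ⟨p - 1, by omega⟩
    simp only [Nat.add_sub_cancel] at *
    have : 4 ≤ q := by omega
    interval_cases q <;> omega

theorem nd_pow (hl : (p : ℤ) ∣ l * m - 1) {k : ℕ} (h : ¬ (p : ℤ) ∣ l ^ k - 1) (i : ℕ) : ¬ (p : ℤ) ∣ l ^ (i + k) - l ^ i := by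
  have hp : Prime (p : ℤ) := Nat.prime_iff_prime_int.1 Fact.out
  rw [show l ^ (i + k) - l ^ i = l ^ i * (l ^ k - 1) by ring]
  refine fun c => (hp.dvd_or_dvd c).elim (fun c => hp.not_dvd_one ?_) h
  simpa using ((hp.dvd_of_dvd_pow c).mul_right m).sub hl

theorem nd_one (h : ¬ (p : ℤ) ∣ l ^ 2 - 1) : ¬ (p : ℤ) ∣ l - 1 := fun c =>
  h (by rw [show l ^ 2 - 1 = (l - 1) * (l + 1) by ring]; exact c.mul_right _)

theorem ext_cop (hF : Sat (FT S) p) (hP : (FT S).IsFullyNormalized P) (hg : g ∈ Nm P) (hc : Cop p g)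
    (h : g ∈ Nm (NS S P ⊔ Cn P)) : ∃ n ∈ Nm (NS S P), Cop p n ∧ n⁻¹ * g ∈ Cn P := by
  obtain ⟨n, h1, h2⟩ := ext_norm hF hP hg h
  have m : MulOn (cA P) (Nm P) := fun _ hx _ hy => cA_mul hx hy
  have a := mem_of_inv_mul' hg (Cn_le_Nm h2)
  have e := (cA_eq_cA_iff a hg).2 h2
  obtain ⟨l, b, c⟩ := m.exists_coprime (p := p) a (e ▸ Nat.Coprime.coprime_dvd_left (m.orderOf_dvd hg) hc)
  exact ⟨n ^ l, pow_mem h1 l, b, (cA_eq_cA_iff (pow_mem a l) hg).1 (c.trans e)⟩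

theorem ext_ch (hF : Sat (FT S) p) (hP : (FT S).IsFullyNormalized P) (h0 : Fr P ≤ X) (h1 : X ≤ Y) (h2 : Y ≤ P)
    (i0 : (Fr P).relIndex X ≤ p) (i1 : X.relIndex Y ≤ p) (i2 : Y.relIndex P ≤ p) (n1 : Nm P ≤ Nm X) (n2 : Nm P ≤ Nm Y)
    (hg : g ∈ Nm P) (hc : Cop p g) : ∃ n ∈ Nm (NS S P), Cop p n ∧ n⁻¹ * g ∈ Cn P := by
  refine ext_cop hF hP hg hc ?_
  rw [← le_antisymm (syl_ch hF hP h1 h2 (NS_le_norm.trans n1) (NS_le_norm.trans n2)) (sup_le (le_Ch_of_idx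
    (hF.pgroup NS_le) (hF.pgroup hP.1) h0 h1 h2 i0 i1 i2 (NS_le_norm.trans n1) (NS_le_norm.trans n2) NS_le_norm)
    (Cn_le_Ch h0 h1 h2))]
  exact norm_Ch hg (n2 hg) (n1 hg)

theorem ess_cj' (hF : Sat (FT S) p) (hE : (FT S).IsEssential p E) (hg : g ∈ Nm (NS S E)) :
    (FT S).IsEssential p (Cj g E) ∧ NS S (Cj g E) = NS S E := by
  have := ess_cj hF hE (g := g) ((Cj_eq hg).le.trans NS_le)
  rwa [img_cj_eq_self.2 hg] at this

theorem exists_nn (hF : Sat (FT S) p) (hp : p ≠ 2) (hE : (FT S).IsEssential p E) (eN : NS S E = N)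
    (hN : (FT S).IsFullyNormalized N) (hlt : N < S) (q : QT p E N C D) (hK : Nm N ≤ Nm D)
    (hi : (Fr N).relIndex D ≤ p) : ∃ A, NN p E N (NS S N) C D A := by
  have pR := hF.pgroup (NS_le (S := S) (P := N))
  have rn : NS S N ≤ Nm N := NS_le_norm
  have nr := hF.lt_NS hlt
  have rS : NS S N ≤ S := NS_le
  have ext := fun Y g => ext_ch (Y := Y) (g := g) hF hN ((q.eD hp).Fr_le le_rfl)
  generalize NS S N = R at *
  have kE : ∀ r ∈ R, r ∈ Nm E → r ∈ N := fun r a b => eN.le ⟨rS a, b⟩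
  have a1 := lt_Cm pR q.pg rn (rn.trans hK) q.nD (lt_of_le_not_ge q.dn fun c => not_le_of_prime q.i1 (q.le.trans c))
  have t2 := le_Tr_Cm q.nD q.dn (rn.trans hK)
  have a2 : Cm N R D < N := lt_of_le_not_ge Cm_le fun c => nr.not_ge fun r hr =>
    kE r hr (Tr.norm_mid (le_Tr_of_le_Cm q.nD q.dn c hr) q.de q.le)
  generalize Cm N R D = A at *
  obtain ⟨i1, i2⟩ := relIndex_eq_of_sq q.pg a1 a2 q.idxD.le
  have t1 := le_Tr_of_idx pR q.pg a2.le i2.le rn fun _ a => (t2 a).1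
  have nd : ∀ e ∈ E, e ∉ D → ∀ r ∈ R, ⁅e, r⁆ ∈ D → r ∈ N := fun e he he' r hr c => kE r hr (mem_Tr_of_le q.de
    fun y => comm_of_sup (q.le.trans q.nD) (sup_zpowers_eq q.i1 q.de he he') (fun _ => comm_mem_left (hK (rn hr))) c).1
  obtain ⟨e, he, he'⟩ := exists_of_prime q.i1
  have f1 : ∀ x ∈ R, ⁅x, e⁆ ∈ A := fun x hx => Tr.comm' (t1 hx) (q.le he)
  have f2 : ∀ x ∈ R, ⁅x, e⁆ ∈ D → x ∈ N := fun x hx c => nd e he he' x hx (comm_symm c)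
  have idx := relIndex_eq_prime pR nr.not_ge (i1 ▸ idx_le_of_Cm1 (rn.trans hK) f1 f2)
  have na : Nm N ≤ Nm A := fun k hk => by
    by_contra c
    have b1 : Cj k A ≤ N := Cj_le hk a2.le
    have b2 : A ⊔ Cj k A = N := (eq_or_eq_of_prime i2 le_sup_left (sup_le a2.le b1)).resolve_left fun d =>
      c (norm_of_Cj_le (le_sup_right.trans d.le))
    have b3 : D ≤ Cj k A := le_Cj (hK hk) a1.le
    obtain ⟨a, ha, b, hb, e'⟩ := (mem_sup_of_norm (a2.le.trans ((q.eD hp).norm_mid b3 b1))).1 (b2.ge (q.le he))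
    obtain ⟨x, hx, hx'⟩ := surj_Cm1 (rn.trans hK) f1 f2 (by rw [i1, idx]) ha
    have b4 : k⁻¹ * x * e * (k⁻¹ * x)⁻¹ ∈ A := by
      have := mem_img_cj.1 (mul_mem (b3 hx') hb)
      rw [mul_assoc _ a, e'] at this
      convert this using 1
      rw [commutatorElement_def]; group
    have b5 := mul_mem (Subgroup.inv_mem _ hk) (rn hx)
    obtain ⟨c1, c2⟩ := ess_cj' hF hE (g := k⁻¹ * x) (eN ▸ b5)
    have b6 : Cj (k⁻¹ * x) E = A := ((eq_or_eq_of_prime (by rw [idx_Cj' b5, q.idx]) (by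
      rw [← sup_zpowers_eq q.i1 q.de he he', Cj_sup, Cj_eq (hK b5), Cj_zpowers]
      exact sup_le a1.le (zpowers_le.2 b4)) a2.le).resolve_right a2.ne).symm
    rw [b6, eN] at c2
    exact nr.not_ge fun r hr => c2.le ⟨rS hr, (t2 hr).1⟩
  exact ⟨A, q, pR, nr.le, rn, idx, a1.le, a2.le, i1, i2, fun c => nr.not_ge fun r hr => kE r hr (c ▸ (t2 hr).1), t1, t2,
    fun e he he' r hr hr' c => hr' (nd e he he' r hr c), na, hK, fun h => ext A h a1.le a2.le hi i1.le i2.le hK na⟩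

theorem q_of_conj (hp : p ≠ 2) (hr : Rk p N) (h : E ≠ Cj g E) (h1 : JT p E N ∨ ∃ C D, QT p E N C D)
    (h2 : JT p (Cj g E) N ∨ ∃ C D, QT p (Cj g E) N C D) : ∃ C D, QT p E N C D := by
  refine h1.resolve_left fun j => ?_
  have a := j.ab (j.caseA hp hr h.symm h2)
  refine j.not_ab (h2.elim (·.le) fun ⟨_, _, q⟩ => q.le) (h2.elim (·.idx) fun ⟨_, _, q⟩ => q.idx) h.symm fun y hy => ?_
  obtain ⟨x, hx, rfl⟩ := exists_of_Cj hy
  exact cent_cj g (a hx)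

theorem exists_nn_rk (hF : Sat (FT S) p) (hp : p ≠ 2) (hr : Rk p S) (hE : (FT S).IsEssential p E) (eN : NS S E = N)
    (hN : (FT S).IsFullyNormalized N) (hlt : N < S) :
    ∃ C D A, NN p E N (NS S N) C D A ∧ ∀ t ∈ LL E N, Cop p t → t ∈ Cn C := by
  have rN := hr.mono hlt.le
  have dich : ∀ k ∈ Nm N, JT p (Cj k E) N ∨ ∃ C D, QT p (Cj k E) N C D := fun k hk => by
    obtain ⟨c1, c2⟩ := ess_cj' hF hE (eN ▸ hk)
    have := ess_dich hF hp c1 (hr.fr hF.pg (hF.ess_lt c1).le)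
    rwa [c2, eN] at this
  obtain ⟨r, hr1, hr2⟩ := SetLike.exists_of_lt (hF.lt_NS hlt)
  have ne : E ≠ Cj r E := fun c => hr2 (eN.le ⟨hr1.1, img_cj_eq_self.1 c.symm⟩)
  have e1 : ∀ k : G, Cj (k * r * k⁻¹) (Cj k E) = Cj k (Cj r E) := fun k => by
    rw [Cj, Cj, Cj, Cj, img_cj_cj, img_cj_cj, inv_mul_cancel_right]
  have e2 : ∀ k : G, Cj k (Cj r E) = Cj (k * r) E := fun k => img_cj_cj k r E
  have allQ : ∀ k ∈ Nm N, ∃ C D, QT p (Cj k E) N C D := fun k hk =>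
    q_of_conj hp rN (g := k * r * k⁻¹) (fun c => ne (Cj_inj (c.trans (e1 k)))) (dich k hk)
      (by rw [e1, e2]; exact dich _ (mul_mem hk hr1.2))
  obtain ⟨C, D, q⟩ := allQ 1 (one_mem _)
  rw [Cj, img_cj_one] at q
  have allQ' : ∀ k ∈ Nm N, ∃ C', QT p (Cj k E) N C' D := fun k hk =>
    let ⟨C', _, q'⟩ := allQ k hk
    ⟨C', q'.D_eq q hp rN ▸ q'⟩
  obtain ⟨C', q'⟩ := allQ' r hr1.2
  have hK : Nm N ≤ Nm D := fun k hk => by
    obtain ⟨_, q1⟩ := allQ' k hk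
    obtain ⟨_, q2⟩ := allQ' _ (mul_mem hk hr1.2)
    rw [← e2] at q2
    have := q1.inf_eq q2 fun c => ne (Cj_inj c)
    rwa [← Cj_inf, q.inf_eq q' ne, img_cj_eq_self] at this
  have f := (q.eD hp).Fr_le le_rfl
  obtain ⟨A, n⟩ := exists_nn hF hp hE eN hN hlt q hK (idx_le_of_sq q.pgE f (lt_of_prime q.de q.i1)
    (idx_le_of_cube q.pg (f.trans q.de) (lt_of_prime q.le q.idx) (rN.fr q.pg le_rfl)))
  exact ⟨C, D, A, n, fun t => q.two q' hp rN ne⟩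

namespace NN

theorem ar (n : NN p E N R C D A) : A ≤ R := n.an.trans n.nr
theorem pgA (n : NN p E N R C D A) : IsPGroup p A := n.pg.to_le n.ar
theorem rD (n : NN p E N R C D A) : R ≤ Nm D := n.rn.trans n.nD
theorem rA (n : NN p E N R C D A) : R ≤ Nm A := n.rn.trans n.na

theorem inf (n : NN p E N R C D A) : A ⊓ E = D :=
  (eq_or_eq_of_prime n.i1 (le_inf n.da n.q.de) inf_le_left).resolve_right fun c =>
    not_le_of_ne n.i2 n.q.idx n.q.le n.ne (c.ge.trans inf_le_right)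

theorem notE (n : NN p E N R C D A) (ha : a ∈ A) (ha' : a ∉ D) : a ∉ E := fun c => ha' (n.inf.le ⟨ha, c⟩)
theorem notA (n : NN p E N R C D A) (ha : a ∈ E) (ha' : a ∉ D) : a ∉ A := fun c => ha' (n.inf.le ⟨c, ha⟩)

theorem tor (n : NN p E N R C D A) (hl : (p : ℤ) ∣ l * m - 1) : ∃ h, Tor p E N R C D h l m := by
  obtain ⟨h, a1, a2, a3, a4, a5⟩ := n.q.tor l m hl
  obtain ⟨g, b1, b2, b3⟩ := n.ext h a2 a3
  exact ⟨g, hl, mem_of_inv_mul' a1 (Cn_le_LL (centralizer_le n.q.le b3)), mem_of_inv_mul' a2 (Cn_le_Nm b3), b1, b2,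
    a4.of_eq fun _ a => same_of_Cn b3 (n.q.dn a), a5.of_eq fun _ a => same_of_Cn b3 (n.q.le a)⟩

theorem wN (n : NN p E N R C D A) (τ : Tor p E N R C D h l m) : WtOn h N E (l ^ 2) :=
  n.q.wtN (LL_le_Nm n.q.nm τ.mem) τ.nN τ.w1 τ.w2 τ.lm

theorem wA (n : NN p E N R C D A) (τ : Tor p E N R C D h l m) : WtOn h A D (l ^ 2) :=
  n.inf ▸ (n.wN τ).inf n.an (n.na τ.nN)

theorem wNA (n : NN p E N R C D A) (τ : Tor p E N R C D h l m) : WtOn h N A m :=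
  wtOn_of_sup n.q.pg n.an n.i2 (n.na τ.nN) n.q.le (not_le_of_ne n.q.idx n.i2 n.an n.ne.symm) n.da τ.w2

theorem wR (n : NN p E N R C D A) (τ : Tor p E N R C D h l m) : WtOn h R N (l ^ 3) := by
  obtain ⟨k, hk⟩ := exists_wt n.pg n.nr n.idx τ.nR τ.nN
  refine hk.congr (fun _ => pow_mem_of_prime n.rn n.idx) ?_
  have : (p : ℤ) ∣ m * k - l ^ 2 := by_contra fun c => by
    obtain ⟨e, he, he'⟩ := exists_of_prime n.q.i1
    obtain ⟨r, hr, hr'⟩ := exists_of_prime n.idx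
    exact n.nd e he he' r hr hr' (comm_of_wt n.pgA n.q.nD n.rD (n.nD τ.nN) n.an n.nr
      (fun _ a _ b => Tr.comm (n.t2 b) a) (fun _ a _ => n.q.comm a) (fun _ a _ b => Tr.comm (n.t1 b) a)
      (fun _ a _ b => Tr.comm (n.t2 (n.nr b)) a) (fun _ a _ b => Tr.comm (n.t2 b) a) (n.wNA τ) hk (n.wA τ) c
      (n.q.le he) hr)
  have := Dvd.dvd.sub (this.mul_left l) (τ.lm.mul_left k)
  rwa [show l * (m * k - l ^ 2) - k * (l * m - 1) = k - l ^ 3 by ring] at this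

theorem cenN (n : NN p E N R C D A) (τ : Tor p E N R C D h l m) (h1 : h ∈ Cn C) (h2 : E ≤ Cn C)
    (hl : ¬ (p : ℤ) ∣ l ^ 2 - 1) : N ≤ Cn C :=
  lift_le n.q.pg n.q.le n.q.idx τ.nN (n.wN τ) hl (fun _ a => norm_Cn (n.q.nC a)) h1 h2

theorem abD (n : NN p E N R C D A) (h2 : E ≤ Cn C) : D ≤ Cn D :=
  let ⟨_, a, b⟩ := exists_of_prime n.q.i2
  ab_of_cyc (sup_zpowers_eq n.q.i2 n.q.cd a b) (n.q.de.trans h2)

theorem abA (n : NN p E N R C D A) (τ : Tor p E N R C D h l m) (h1 : h ∈ Cn C) (h2 : N ≤ Cn C)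
    (hl : ¬ (p : ℤ) ∣ l ^ 3 - 1) : A ≤ Cn A :=
  let ⟨_, a, b⟩ := exists_of_prime n.i1
  ab_of_cyc (sup_zpowers_eq n.i1 n.da a b) (le_Cn_of_bot fun _ c _ => comm_of_wt n.q.pgC le_Nm_bot le_Nm_bot mem_Nm_bot
    n.q.cd n.da (fun _ a _ b => bot_of_Cn (h2 (n.an b)) a) (fun _ a _ b => bot_of_Cn (n.abD (n.q.le.trans h2) b) a)
    (fun _ a _ b => n.q.dc a (n.an b)) (fun _ a _ b => bot_of_Cn (h2 (n.q.dn b)) a)
    (fun _ a _ b => bot_of_Cn (h2 (n.an b)) a) τ.w1 (n.wA τ) (Cn.wt h1) (by rwa [← pow_succ']) c)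

theorem cenR (n : NN p E N R C D A) (τ : Tor p E N R C D h l m) (h1 : h ∈ Cn C) (h2 : N ≤ Cn C) (h3 : A ≤ Cn A)
    (hl : ¬ (p : ℤ) ∣ l ^ 3 - 1) (hl' : ¬ (p : ℤ) ∣ l ^ 2 - 1) : R ≤ Cn C := by
  by_cases c : D ≤ Cn N
  · obtain ⟨e, he, he'⟩ := exists_of_prime n.q.i1
    obtain ⟨a, ha, ha'⟩ := exists_of_prime n.i1
    have d1 := n.q.comm (n.q.le he) (n.an ha)
    have d2 := n.q.nd e he he' a (n.an ha) (n.notE ha ha')
    have k : ∀ {g : G} {i j : ℤ}, Wt g A e i → Wt g D a j → Wt g ⊥ ⁅e, a⁆ (i * j) := fun w1 w2 =>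
      wt_comm le_Nm_bot le_Nm_bot mem_Nm_bot n.an n.da (fun _ a _ b => bot_of_Cn (h3 b) a)
        (fun _ a _ b => bot_of_Cn (c b) a) (n.q.le he) ha (comm_symm (bot_of_Cn (c d1) (n.q.le he)))
        (comm_symm (bot_of_Cn (c d1) (n.an ha))) w1 w2
    have z1 : R ≤ Cn (zpowers ⁅e, a⁆) := Cn_symm (zpowers_le.2 (mem_centralizer_iff.2 fun r hr => by
      have := k (Tr.wt (n.t1 hr) e (n.q.le he)) (Tr.wt (n.t2 hr) a ha)
      rw [Wt, mem_bot, mul_one, zpow_one, inv_mul_eq_one, eq_mul_inv_iff_mul_eq] at this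
      exact this.symm))
    have z2 := wtOn_of_gen (bot_sup_eq _) le_Nm_bot mem_Nm_bot (k (n.wNA τ e (n.q.le he)) (n.wA τ a ha))
    have z3 : zpowers ⁅e, a⁆ ≤ D := zpowers_le.2 d1
    have z4 := lift_le n.pg n.nr n.idx τ.nR (n.wR τ) hl (K := Tr D (zpowers ⁅e, a⁆))
      (fun _ a => norm_Tr (n.rD a) (Cn_le_Nm (z1 a))) (mem_Tr_of_le z3 fun y => comm_of_sup
        (n.q.dn.trans (n.nr.trans (z1.trans Cn_le_Nm))) (sup_zpowers_eq n.q.i2 n.q.cd d1 d2) (fun _ => bot_of_Cn h1)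
        (comm_mem_left (z2.norm bot_le) (mem_zpowers _))) ((Cn_symm c).trans (Cn_le_Tr z3))
    refine le_Cn_of_bot fun _ a _ => comm_of_wt (n.q.pgD.to_le z3) le_Nm_bot le_Nm_bot mem_Nm_bot bot_le n.nr
      (fun _ a _ _ => comm_mem_left mem_Nm_bot a) (fun _ a _ b => bot_of_Cn (h2 b) a)
      (fun _ a _ b => Tr.comm (z4 b) (n.q.cd a)) (fun _ a _ b => bot_of_Cn (z1 (n.nr (n.q.cn b))) a)
      (fun _ a _ b => bot_of_Cn (z1 b) a) (Cn.wt h1) (n.wR τ) z2 (fun c => nd_pow τ.lm hl' 1 ?_) a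
    have := c.add (τ.lm.mul_left l)
    rwa [show 1 * l ^ 3 - m * l ^ 2 + l * (l * m - 1) = l ^ (1 + 2) - l ^ 1 by ring] at this
  · refine lift_le n.pg n.nr n.idx τ.nR (n.wR τ) hl (fun r hr => norm_Cn ?_) h1 h2
    rw [← (eq_or_eq_of_prime n.q.i2 (le_inf n.q.cd (Cn_symm h2)) inf_le_left).resolve_right
      fun d => c (d.ge.trans inf_le_right)]
    exact norm_inf (n.rD hr) (norm_Cn (n.rn hr))

/-- the centralizer `B` of `A / C` in `R` -/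
theorem exists_B (n : NN p E N R C D A) (h2 : R ≤ Cn C) (h3 : A ≤ Cn A) : A ≤ R ⊓ Tr A C ∧ R ⊓ Tr A C ⊓ N = A ∧
    A.relIndex (R ⊓ Tr A C) = p ∧ (R ⊓ Tr A C).relIndex R = p ∧ R ⊓ Tr A C ≤ Cn D := by
  have ca := n.q.cd.trans n.da
  have b1 : A ≤ R ⊓ Tr A C := le_inf n.ar (h3.trans (Cn_le_Tr ca))
  obtain ⟨e, he, he'⟩ := exists_of_prime n.q.i1
  obtain ⟨a, ha, ha'⟩ := exists_of_prime n.i1
  have d1 := n.q.comm (n.q.le he) (n.an ha)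
  have d2 := n.q.nd e he he' a (n.an ha) (n.notE ha ha')
  have b2 : e ∉ Tr A C := fun c => d2 (Tr.comm' c ha)
  have b3 : (R ⊓ Tr A C).relIndex R = p := relIndex_eq_prime n.pg (fun c => b2 (c (n.nr (n.q.le he))).2) (by
    rw [inf_relIndex_left, ← n.q.i2]
    exact idx_Tr_le n.pgA (n.an.trans n.q.nC) n.q.cd n.da n.i1.le n.t2
      (le_Tr_of_idx n.pg n.q.pgD n.q.cd n.q.i2.le n.rD (h2.trans Cn_le_Nm)))
  have b4 : R ⊓ Tr A C ⊓ N = A := (eq_or_eq_of_prime n.i2 (le_inf b1 n.an) inf_le_right).resolve_right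
    fun c => b2 (c.ge (n.q.le he)).1.2
  refine ⟨b1, b4, ?_, b3, Cn_symm (le_of_prime n.q.i2 n.q.cd (Cn_symm (inf_le_left.trans h2)) d1 d2
    (mem_centralizer_iff.2 fun g hg => ?_))⟩
  · rw [← b4]
    refine b4.symm ▸ (b4 ▸ idx_inf n.pg inf_le_left n.idx fun c => ?_ :)
    rw [inf_eq_left.2 c] at b4
    rw [b4, idx_mul n.an n.nr, n.i2, n.idx] at b3
    nlinarith [(Fact.out : p.Prime).two_le]
  · exact mul_inv_eq_iff_eq_mul.1 (conj_comm_fix (commute_of_Cn (h3 ha) (Tr.act (n.t1 hg.1) (n.q.le he)))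
      (commute_of_Cn (h2 (n.nr (conj_mem_of_norm (n.rn hg.1) (n.q.le he)))) (Tr.act hg.2 ha)))

theorem abB (n : NN p E N R C D A) (τ : Tor p E N R C D h l m) (h1 : h ∈ Cn C) (h2 : R ≤ Cn C) (h3 : A ≤ Cn A)
    (hl : ¬ (p : ℤ) ∣ l ^ 5 - 1) : WtOn h (R ⊓ Tr A C) A (l ^ 3) ∧ R ⊓ Tr A C ≤ Cn (R ⊓ Tr A C) := by
  obtain ⟨b1, b2, b3, b4, b5⟩ := n.exists_B h2 h3
  have w := (n.wR τ).inf (C := R ⊓ Tr A C) inf_le_left (norm_inf τ.nR (norm_Tr (n.na τ.nN) (Cn_le_Nm h1)))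
  rw [b2] at w
  obtain ⟨g, hg, hg'⟩ := exists_of_prime b3
  exact ⟨w, ab_of_cyc (sup_zpowers_eq b3 b1 hg hg') (le_Cn_of_bot fun _ c _ => comm_of_wt n.q.pgC le_Nm_bot le_Nm_bot
    mem_Nm_bot n.da b1 (fun _ a _ b => bot_of_Cn (b5 b) a) (fun _ a _ b => bot_of_Cn (h3 b) a)
    (fun _ a _ b => Tr.comm b.2 a) (fun _ a _ b => bot_of_Cn (h2 (n.ar b)) a) (fun _ a _ b => bot_of_Cn (h2 b.1) a)
    (n.wA τ) w (Cn.wt h1) (by rwa [← pow_add]) c)⟩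

theorem elB (n : NN p E N R C D A) (τ : Tor p E N R C D h l m) (hp : p ≠ 2) (h1 : h ∈ Cn C) (h2 : R ≤ Cn C)
    (h3 : A ≤ Cn A) (l2 : ¬ (p : ℤ) ∣ l ^ 2 - 1) (l3 : ¬ (p : ℤ) ∣ l ^ 3 - 1) (l5 : ¬ (p : ℤ) ∣ l ^ 5 - 1) :
    El p (Fr C) (R ⊓ Tr A C) := by
  obtain ⟨b1, b2, b3, b4, b5⟩ := n.exists_B h2 h3
  obtain ⟨w, ab⟩ := n.abB τ h1 h2 h3 l5
  have c : ∀ x ∈ R ⊓ Tr A C, ∀ y ∈ R ⊓ Tr A C, ⁅x, y⁆ ∈ Fr C := fun _ a _ b => bot_of_Cn (ab b) a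
  have c2 : Cl2 p (Fr C) (R ⊓ Tr A C) := cl2_of_comm (fun _ a => norm_Fr (Cn_le_Nm (h2 a.1))) c
  have k : ∀ {y : G} {i : ℤ}, y ∈ C → Wt h (Fr C) y i → ¬ (p : ℤ) ∣ i - 1 → y ∈ Fr C := fun a b =>
    Wt.mem n.q.pgC a (Cn.wt h1 _ a) b
  have pD : ∀ d ∈ D, d ^ p ∈ Fr C := fun d hd => k (n.q.pow hp (n.q.dn hd))
    (wt_pow hp c2 (n.q.cd.trans (n.da.trans b1)) (el_Fr n.q.pgC).2 (b1 (n.da hd)) (τ.w1 d hd)) (nd_one l2)
  have pA : ∀ d ∈ A, d ^ p ∈ Fr C := fun d hd => k (n.q.pow hp (n.an hd))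
    (wt_pow hp c2 (n.da.trans b1) pD (b1 hd) (n.wA τ d hd)) l2
  refine ⟨c, fun g hg => ?_⟩
  have y1 := pow_mem_of_prime (inf_le_left.trans n.rA) b3 hg
  have y2 := wt_pow hp c2 b1 pA hg (w g hg)
  have y3 := Wt.mem n.pgA y1 (n.wA τ _ y1) (y2.mono (Fr_le.trans n.q.cd))
    (nd_pow τ.lm (k := 1) (by simpa using nd_one l2) 2)
  exact k (Wt.mem n.q.pgD y3 (τ.w1 _ y3) (y2.mono Fr_le) (by simpa using nd_pow τ.lm l2 1)) y2 l3

theorem eq_bot (n : NN p E N R C D A) (hp : 5 ≤ p) (hr : Rk p R) (hc : ∀ t ∈ LL E N, Cop p t → t ∈ Cn C) :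
    C = ⊥ := by
  obtain ⟨l, m, hl, l2, l3, l5, -⟩ := exists_prim5 hp
  obtain ⟨h, τ⟩ := n.tor hl
  have h1 := hc h τ.mem τ.cop
  have h2 := n.cenN τ h1 (n.q.cent_C (by omega) hc) l2
  have h3 := n.abA τ h1 h2 l3
  have h4 := n.cenR τ h1 h2 h3 l3 l2
  obtain ⟨b1, -, b3, -⟩ := n.exists_B h4 h3
  exact by_contra fun c => hr.false4 n.pg inf_le_left (CF.Coprime.frattiniOf_lt c) (lt_of_prime n.q.cd n.q.i2)
    (lt_of_prime n.da n.i1) (lt_of_prime b1 b3) (n.elB τ (by omega) h1 h4 h3 l2 l3 l5)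

end NN

theorem QT.card (q : QT p E N C D) : Nat.card E = Nat.card C * p ^ 2 := by
  rw [card_eq_mul' q.ce, idx_mul q.cd q.de, q.i1, q.i2, sq]

theorem exists_good (hF : Sat (FT S) p) (hE : (FT S).IsEssential p E) (hn : ¬ S ≤ Nm E) :
    ∃ g, (FT S).IsEssential p (Cj g E) ∧ (FT S).IsFullyNormalized (NS S (Cj g E)) ∧ NS S (Cj g E) < S := by
  obtain ⟨g, h1, h2⟩ := exists_fn_cj hF (NS_le (S := S) (P := E))
  obtain ⟨h3, h4⟩ := ess_cj hF hE ((img_mono (le_NS NS_le)).trans h1)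
  refine ⟨g, h3, h4 ▸ h2, lt_of_le_of_ne NS_le fun c => hn ?_⟩
  have := card_img_cj g (NS S E)
  rw [← h4, show NS S (img (cj g) E) = S from c] at this
  exact (eq_of_le_of_card_ge NS_le this.le).ge.trans NS_le_norm

theorem card_of_nn (hF : Sat (FT S) p) (hp : 5 ≤ p) (hr : Rk p S) (hE : (FT S).IsEssential p E) (hn : ¬ S ≤ Nm E) :
    Nat.card E = p ^ 2 := by
  obtain ⟨g, h1, h2, h3⟩ := exists_good hF hE hn
  obtain ⟨C, D, A, n, hc⟩ := exists_nn_rk hF (by omega) hr h1 rfl h2 h3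
  rw [← card_img_cj g, n.q.card, n.eq_bot hp (hr.mono NS_le) hc, card_bot, one_mul]

end CF.FusC
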