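import Cfsg.Agent.FusC.H
import Cfsg.Agent.Geom.Orders

/-! The Sylow `p`-subgroup of `Sp₄(p)` by generators and relations. -/

set_option autoImplicit false
set_option linter.style.haveILetI false
set_option linter.unusedSectionVars false
set_option linter.unusedVariables false

namespace CF.FusC

open Cfsg Subgroup CF.Fus Matrix
open scoped commutatorElement

universe u

/-- relations of `p³ ⋊ p` with a cubic action -/
structure Rel {G : Type*} [Group G] (p : ℕ) (e b c s : G) : Prop where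
  pe : e ^ p = 1
  pb : b ^ p = 1
  pc : c ^ p = 1
  ps : s ^ p = 1
  eb : ⁅e, b⁆ = 1
  ec : ⁅e, c⁆ = 1
  bc : ⁅b, c⁆ = 1
  es : ⁅e, s⁆ = b
  bs : ⁅b, s⁆ = c
  cs : ⁅c, s⁆ = 1

/-- the subgroup generated by four elements -/
def Sub4 {G : Type*} [Group G] (e b c s : G) : Subgroup G := ⊥ ⊔ zpowers c ⊔ zpowers b ⊔ zpowers e ⊔ zpowers s

theorem map_Sub4 {G H : Type*} [Group G] [Group H] (f : G →* H) (e b c s : G) :
    (Sub4 e b c s).map f = Sub4 (f e) (f b) (f c) (f s) := by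
  simp only [Sub4, Subgroup.map_sup, MonoidHom.map_zpowers, Subgroup.map_bot]

theorem Rel.prod {G H : Type*} [Group G] [Group H] {p : ℕ} {e b c s : G} {e' b' c' s' : H} (h : Rel p e b c s)
    (h' : Rel p e' b' c' s') : Rel p (e, e') (b, b') (c, c') (s, s') :=
  ⟨Prod.ext h.pe h'.pe, Prod.ext h.pb h'.pb, Prod.ext h.pc h'.pc, Prod.ext h.ps h'.ps, Prod.ext h.eb h'.eb,
    Prod.ext h.ec h'.ec, Prod.ext h.bc h'.bc, Prod.ext h.es h'.es, Prod.ext h.bs h'.bs, Prod.ext h.cs h'.cs⟩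

theorem equiv_map {K L : Type*} [Group K] [Group L] [Finite K] (f : K →* L) (X : Subgroup K)
    (h : Nat.card X ≤ Nat.card (X.map f)) : Nonempty (X ≃* X.map f) :=
  ⟨MulEquiv.ofBijective (f.subgroupMap X) ((f.subgroupMap_surjective X).bijective_of_nat_card_le h)⟩

variable {p : ℕ} [Fact p.Prime]

theorem Rel.card {G : Type u} [Group G] [Finite G] {e b c s : G} (h : Rel p e b c s) (hc : c ≠ 1) :
    Nat.card (Sub4 e b c s) = p ^ 4 := by
  have o : ∀ {x y : G} {W : Subgroup G}, ⁅x, y⁆ = 1 → ⁅x, y⁆ ∈ W := fun a => a ▸ one_mem _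
  have k : ∀ {A : Subgroup G} {x g : G} {W : Subgroup G}, A ≤ W → g ∈ Tr A W ⊓ Nm W → x ∈ Nm W → A ≤ Nm W →
      ⁅x, g⁆ ∈ W → ∀ y ∈ A ⊔ zpowers x, ⁅y, g⁆ ∈ W := fun a b c d e y =>
    comm_of_sup (sup_le d (zpowers_le.2 c)) rfl (fun _ => Tr.comm b.1) e
  have c1 : ∀ {g : G}, ⁅c, g⁆ = 1 → g ∈ Cn (⊥ ⊔ zpowers c) := fun a => mem_Cn_comm.2 fun y hy => mem_bot.1
    (comm_of_sup le_Nm_bot rfl (fun _ => comm_mem_left mem_Nm_bot) (mem_bot.2 a) hy)
  have c2 : ∀ {g x : G} {A : Subgroup G}, g ∈ Cn A → ⁅x, g⁆ = 1 → g ∈ Cn (A ⊔ zpowers x) := fun a b =>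
    mem_Cn_comm.2 fun y hy => mem_bot.1 (comm_of_sup le_Nm_bot rfl (fun _ => bot_of_Cn a) (mem_bot.2 b) hy)
  have sy : ∀ {x y : G}, ⁅x, y⁆ = 1 → ⁅y, x⁆ = 1 := fun a => mem_bot.1 (comm_symm (mem_bot.2 a))
  have b1 := c1 (sy h.bc)
  have e1 := c1 (sy h.ec)
  have e2 := c2 e1 (sy h.eb)
  have s1 := c1 h.cs
  have cc := c1 (commutatorElement_self c)
  have a3 : ⊥ ⊔ zpowers c ⊔ zpowers b ⊔ zpowers e ≤ Cn (⊥ ⊔ zpowers c ⊔ zpowers b ⊔ zpowers e) :=
    sup_le (sup_le (sup_le bot_le (zpowers_le.2 (c2 (c2 cc h.bc) h.ec)))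
      (zpowers_le.2 (c2 (c2 b1 (commutatorElement_self b)) h.eb))) (zpowers_le.2 (c2 e2 (commutatorElement_self e)))
  have mc : c ∈ ⊥ ⊔ zpowers c := mem_sup_right (mem_zpowers c)
  have mb : b ∈ ⊥ ⊔ zpowers c ⊔ zpowers b := mem_sup_right (mem_zpowers b)
  have s2 : s ∈ Tr (⊥ ⊔ zpowers c ⊔ zpowers b) (⊥ ⊔ zpowers c) := mem_Tr_of_le le_sup_left fun y =>
    comm_of_sup (sup_le le_normalizer (zpowers_le.2 (Cn_le_Nm b1))) rfl (fun _ => bot_of_Cn s1) (h.bs ▸ mc)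
  have s3 : s ∈ Tr (⊥ ⊔ zpowers c ⊔ zpowers b ⊔ zpowers e) (⊥ ⊔ zpowers c ⊔ zpowers b) :=
    mem_Tr_of_le le_sup_left fun y => comm_of_sup (sup_le le_normalizer (zpowers_le.2 (Cn_le_Nm e2))) rfl
      (fun _ a => mem_sup_left (Tr.comm s2 a)) (h.es ▸ mb)
  have nb : b ∉ ⊥ ⊔ zpowers c := fun a => hc (h.bs ▸ mem_Cn_comm.1 s1 b a)
  rw [Sub4, card_eq_mul' le_sup_left, card_eq_mul' (A := ⊥ ⊔ zpowers c ⊔ zpowers b) le_sup_left,
    card_eq_mul' (A := ⊥ ⊔ zpowers c) le_sup_left, card_eq_mul' (A := ⊥) le_sup_left,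
    relIndex_sup_zpowers mem_Nm_bot (mem_bot.2 h.pc) (mt mem_bot.1 hc),
    relIndex_sup_zpowers (Cn_le_Nm b1) (h.pb ▸ one_mem _) nb,
    relIndex_sup_zpowers (Cn_le_Nm e2) (h.pe ▸ one_mem _) fun a => nb (h.es ▸ Tr.comm s2 a),
    relIndex_sup_zpowers s3.1 (h.ps ▸ one_mem _) fun a => hc (h.bs ▸ mem_Cn_comm.1 (a3 a) b (mem_sup_left mb)), card_bot]
  ring

theorem Rel.iso {G : Type u} {H : Type} [Group G] [Finite G] [Group H] [Finite H] {e b c s : G} {e' b' c' s' : H}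
    (h : Rel p e b c s) (hc : c ≠ 1) (h' : Rel p e' b' c' s') (hc' : c' ≠ 1) :
    Nonempty (Sub4 e b c s ≃* Sub4 e' b' c' s') := by
  have a := (h.prod h').card fun a => hc (congrArg Prod.fst a)
  obtain ⟨f⟩ := equiv_map (MonoidHom.fst G H) (Sub4 (e, e') (b, b') (c, c') (s, s')) (by
    rw [a, map_Sub4]; exact (h.card hc).ge)
  obtain ⟨g⟩ := equiv_map (MonoidHom.snd G H) (Sub4 (e, e') (b, b') (c, c') (s, s')) (by
    rw [a, map_Sub4]; exact (h'.card hc').ge)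
  rw [map_Sub4] at f g
  exact ⟨f.symm.trans g⟩

/-- unipotent radical of the Siegel parabolic -/
def spU (x y z : ZMod p) : symplecticGroup (Fin 2) (ZMod p) := ⟨fromBlocks 1 !![x, y; y, z] 0 1, by
  rw [SymplecticGroup.mem_iff, J, fromBlocks_transpose, fromBlocks_multiply, fromBlocks_multiply]
  congr 1 <;> ext i j <;> fin_cases i <;> fin_cases j <;> simp⟩

/-- a root element of the Levi factor -/
def spT (n : ZMod p) : symplecticGroup (Fin 2) (ZMod p) := ⟨fromBlocks !![1, n; 0, 1] 0 0 !![1, 0; -n, 1], by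
  rw [SymplecticGroup.mem_iff, J, fromBlocks_transpose, fromBlocks_multiply, fromBlocks_multiply]
  congr 1 <;> ext i j <;> fin_cases i <;> fin_cases j <;> simp [Matrix.vecMul, dotProduct, Fin.sum_univ_two]⟩

theorem spU_mul (x y z x' y' z' : ZMod p) : spU x y z * spU x' y' z' = spU (x + x') (y + y') (z + z') := by
  refine Subtype.ext ?_
  simp only [spU, Submonoid.coe_mul, fromBlocks_multiply]
  congr 1 <;> ext i j <;> fin_cases i <;> fin_cases j <;> simp [add_comm]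

theorem spT_mul (x y : ZMod p) : spT x * spT y = spT (x + y) := by
  refine Subtype.ext ?_
  simp only [spT, Submonoid.coe_mul, fromBlocks_multiply]
  congr 1 <;> ext i j <;> fin_cases i <;> fin_cases j <;> simp [add_comm, Matrix.mul_apply, Fin.sum_univ_two]

theorem spT_spU (x y z : ZMod p) : spT 1 * spU x y z = spU (x + 2 * y + z) (y + z) z * spT 1 := by
  refine Subtype.ext ?_
  simp only [spT, spU, Submonoid.coe_mul, fromBlocks_multiply]
  congr 1 <;> ext i j <;> fin_cases i <;> fin_cases j <;> simp [Matrix.mul_apply, Fin.sum_univ_two] <;> ring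

theorem spU_zero : spU (0 : ZMod p) 0 0 = 1 := by
  refine Subtype.ext ?_
  simp only [spU, OneMemClass.coe_one, ← fromBlocks_one]
  congr 1; ext i j; fin_cases i <;> fin_cases j <;> simp

theorem spT_zero : spT (0 : ZMod p) = 1 := by
  refine Subtype.ext ?_
  simp only [spT, OneMemClass.coe_one, ← fromBlocks_one]
  congr 1 <;> ext i j <;> fin_cases i <;> fin_cases j <;> simp

theorem spU_pow (x y z : ZMod p) (n : ℕ) : spU x y z ^ n = spU ((n : ZMod p) * x) ((n : ZMod p) * y) ((n : ZMod p) * z) := by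
  induction n with
  | zero => simp [spU_zero]
  | succ n ih => rw [pow_succ, ih, spU_mul]; congr 1 <;> push_cast <;> ring

theorem spT_pow (x : ZMod p) (n : ℕ) : spT x ^ n = spT ((n : ZMod p) * x) := by
  induction n with
  | zero => simp [spT_zero]
  | succ n ih => rw [pow_succ, ih, spT_mul]; congr 1; push_cast; ring

theorem spU_comm (x y z x' y' z' : ZMod p) : ⁅spU x y z, spU x' y' z'⁆ = 1 := by
  rw [commutatorElement_eq_one_iff_mul_comm, spU_mul, spU_mul, add_comm x, add_comm y, add_comm z]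

theorem spU_spT (x y z : ZMod p) : ⁅spU x y z, spT 1⁆ = spU (-(2 * y + z)) (-z) 0 := by
  have a : (spU x y z)⁻¹ = spU (-x) (-y) (-z) := inv_eq_of_mul_eq_one_right (by rw [spU_mul]; simp [spU_zero])
  rw [commutatorElement_def, a, mul_assoc (spU x y z), spT_spU, ← mul_assoc, mul_inv_cancel_right, spU_mul]
  congr 1 <;> ring

theorem sp_rel : Rel p (spU (0 : ZMod p) 0 1) (spU (-1) (-1) 0) (spU 2 0 0) (spT 1) :=
  ⟨by simp [spU_pow, spU_zero], by simp [spU_pow, spU_zero], by simp [spU_pow, spU_zero], by simp [spT_pow, spT_zero],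
    spU_comm .., spU_comm .., spU_comm .., by simp [spU_spT], by simp [spU_spT], by simp [spU_spT, spU_zero]⟩

theorem sp_ne (hp : p ≠ 2) : spU (2 : ZMod p) 0 0 ≠ 1 := fun h => by
  have := congrArg (fun A : symplecticGroup (Fin 2) (ZMod p) => A.1 (Sum.inl 0) (Sum.inr 0)) h
  simp only [spU, fromBlocks_apply₁₂, OneMemClass.coe_one] at this
  simp at this
  exact not_dvd_two hp ((ZMod.intCast_zmod_eq_zero_iff_dvd 2 p).1 (by simpa using this))

theorem sp_syl (hp : p ≠ 2) : ∃ P : Sylow p (symplecticGroup (Fin 2) (ZMod p)),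
    (P : Subgroup _) = Sub4 (spU (0 : ZMod p) 0 1) (spU (-1) (-1) 0) (spU 2 0 0) (spT 1) := by
  have hp' : p.Prime := Fact.out
  have a := sp_rel.card (sp_ne hp)
  refine sylIn_top_iff.1 (SylIn.of_not_dvd le_top (IsPGroup.of_card a) fun c => ?_)
  have b := card_eq_mul' (le_top (a := Sub4 (spU (0 : ZMod p) 0 1) (spU (-1) (-1) 0) (spU 2 0 0) (spT 1)))
  rw [a, card_top, CF.Geom.card_symplecticGroup, Nat.card_zmod] at b
  rw [← Nat.eq_of_mul_eq_mul_left (pow_pos hp'.pos 4) b] at c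
  obtain ⟨i, -, hi⟩ := (Prime.dvd_finset_prod_iff hp'.prime _).1 c
  exact hp'.one_lt.ne' (Nat.dvd_one.1 ((Nat.dvd_sub_iff_right (Nat.one_le_pow _ _ hp'.pos)
    (dvd_pow_self p (by omega))).1 hi))

end CF.FusC
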