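import Cfsg.Agent.FusC.I

/-! Saturated fusion systems of sectional rank three whose essential subgroups are normal. -/

set_option autoImplicit false
set_option linter.style.haveILetI false
set_option linter.unusedSectionVars false
set_option linter.unusedVariables false

namespace CF.FusC

open Cfsg Subgroup CF.Fus
open scoped commutatorElement

universe u

theorem of_not_srk {X : Type*} [Group X] [Finite X] {p : ℕ} [Fact p.Prime] (h : ¬ SectionalPRankLE p 2 X) :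
    Nat.card X ≠ 1 ∧ (Nat.card X = p ^ 3 → IsMulCommutative X) := by
  have hp : p.Prime := Fact.out
  simp only [SectionalPRankLE, PRankLE, not_forall, not_le] at h
  obtain ⟨H, N, _, A, h1, h2, h3⟩ := h
  have d1 := card_subgroup_dvd_card A
  have d2 := card_eq_card_quotient_mul_card_subgroup N
  have d3 := card_subgroup_dvd_card H
  have d4 := d1.trans ((Dvd.intro _ d2.symm).trans d3)
  refine ⟨fun c => ?_, fun c => ⟨⟨fun x y => ?_⟩⟩⟩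
  · rw [c, Nat.dvd_one] at d4
    rw [d4] at h3
    exact absurd h3 (not_lt.2 (Nat.one_le_pow _ _ hp.pos))
  · rw [c] at d4 d3
    obtain ⟨k, k1, k2⟩ := (Nat.dvd_prime_pow hp).1 d4
    rw [k2, Nat.pow_lt_pow_iff_right hp.one_lt] at h3
    obtain rfl : k = 3 := by omega
    have a1 := Nat.le_of_dvd Nat.card_pos d1
    have a2 := Nat.le_of_dvd (pow_pos hp.pos 3) d3
    have a3 : 0 < Nat.card N := Nat.card_pos
    have a4 : Nat.card (H ⧸ N) ≤ Nat.card H := by rw [d2]; exact Nat.le_mul_of_pos_right _ a3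
    obtain rfl : H = ⊤ := eq_top_of_card_eq _ (by omega)
    obtain rfl : A = ⊤ := eq_top_of_card_eq _ (by omega)
    have a5 : N = ⊥ := card_eq_one.1 (Nat.eq_of_mul_eq_mul_left (pow_pos hp.pos 3) (by
      rw [mul_one]; conv_lhs => rw [show p ^ 3 = Nat.card (↥(⊤ : Subgroup X) ⧸ N) by omega, ← d2]
      omega))
    have := congrArg Subtype.val (h1.1.1 ⟨QuotientGroup.mk ⟨x, mem_top x⟩, mem_top _⟩
      ⟨QuotientGroup.mk ⟨y, mem_top y⟩, mem_top _⟩)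
    simp only [Subgroup.coe_mul, ← QuotientGroup.mk_mul, QuotientGroup.eq, a5, mem_bot, inv_mul_eq_one] at this
    exact congrArg Subtype.val this

section
variable {Ω G : Type*} [Group Ω] [Group G] {S P A B : Subgroup Ω} {S' Q : Subgroup G} {f : Ω → G} {p : ℕ}

theorem El.img (h : El p B A) (hf : MulOn f A) : El p (img f B) (img f A) :=
  ⟨fun _ hx' _ hy' => by
    obtain ⟨x, hx, rfl⟩ := hf.mem_img.1 hx'
    obtain ⟨y, hy, rfl⟩ := hf.mem_img.1 hy'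
    rw [← hf.map_comm hx hy]; exact mem_img_of_mem (h.1 x hx y hy), fun _ hx' => by
    obtain ⟨x, hx, rfl⟩ := hf.mem_img.1 hx'
    rw [← hf.map_pow hx]; exact mem_img_of_mem (h.2 x hx)⟩

theorem Rk.piso [Finite S] (h : Rk p S) (hf : PIso f S S') : Rk p S' := fun A B h1 h2 h3 => by
  haveI := hf.finite
  rw [← hf.symm.relIndex_img h2 h1]
  exact h _ _ (hf.symm.img_le h1) (img_mono h2) (h3.img (hf.symm.mul.mono h1))

theorem piso_ab (hf : PIso f P Q) (h : P ≤ Cn P) : Q ≤ Cn Q := fun y hy => by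
  obtain ⟨x, hx, rfl⟩ := hf.surj hy
  have := hf.cent_apply le_rfl hx (h hx)
  rwa [hf.img_eq] at this

end

variable {G : Type u} [Group G] {p : ℕ} {A B C D E H K M N O P Q R S T U V W X Y Z Γ E₁ E₂ C₁ C₂ D₁ D₂ : Subgroup G}
  {a b c d e g h r s t u v w x y z ξ : G} {i j k l m : ℤ} [Fact p.Prime] [Finite G]

theorem Cj_Fr_le (hA : IsPGroup p A) : Cj g (Fr A) ≤ Fr (Cj g A) := img_le_iff.2 fun x hx => by
  have := (el_Fr (pg_Cj (g := g) hA)).img (mulOn_cj g⁻¹ _)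
  rw [img_cj_inv] at this
  simpa using mem_img_cj.1 (this.Fr_le le_rfl hx)

theorem card_of_cen (hF : Sat (FT S) p) (hp : p ≠ 2) (hc : (FT S).core = ⊥) (q : QT p E S C D) (h : D ≤ Cn S) :
    Nat.card S = p ^ 3 :=
  let ⟨_, _, a⟩ := hF.exists_tv_sq (fun c => not_le_of_prime q.idx (c.le.trans bot_le))
    (q.idxD ▸ relIndex_le_of_le_left (le_inf q.dn h) relIndex_ne_zero') hc fun c => absurd c hp
  a.2.2.2

/-- the configuration of the Sylow subgroup of `Sp₄(p)` -/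
structure SpC (p : ℕ) (S E₁ E₂ : Subgroup G) : Prop where
  j : JT p E₂ S
  fr : Fr E₂ = ⊥
  le : E₁ ≤ S
  idx : E₁.relIndex S = p
  ne : E₁ ≠ E₂

theorem JT.spc (j : JT p E₂ S) (hp : p ≠ 2) (hr : Rk p S) (h : E₁ ≠ E₂) (h1 : JT p E₁ S ∨ ∃ C D, QT p E₁ S C D) :
    SpC p S E₁ E₂ :=
  ⟨j, j.caseA hp hr h h1, h1.elim (·.le) fun ⟨_, _, q⟩ => q.le, h1.elim (·.idx) fun ⟨_, _, q⟩ => q.idx, h⟩

theorem dich_normal (hF : Sat (FT S) p) (hp : p ≠ 2) (hr : Rk p S) (hE : (FT S).IsEssential p E) (hn : S ≤ Nm E) :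
    JT p E S ∨ ∃ C D, QT p E S C D := by
  have := ess_dich hF hp hE (hr.fr hF.pg (hF.ess_lt hE).le)
  rwa [NS_eq_of_norm hn] at this

theorem ess_cj_top (hF : Sat (FT S) p) (hE : (FT S).IsEssential p E) (hg : g ∈ Nm S) :
    (FT S).IsEssential p (Cj g E) := (ess_cj hF hE (Cj_le hg NS_le)).1

theorem eq_bot_of_ess' (hF : Sat (FT S) p) (hc : (FT S).core = ⊥) (h1 : Q ≤ S) (h2 : Nm S ≤ Nm Q)
    (h : ∀ P, (FT S).IsEssential p P → Q ≤ P ∧ Nm P ≤ Nm Q) : Q = ⊥ :=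
  eq_bot_of_ess hF hc fun P hP => hP.elim (fun e => by rw [e]; exact ⟨h1, h2⟩) (h P)

theorem all_normal (hF : Sat (FT S) p) (hp : p ≠ 2) (hr : Rk p S) (hc : (FT S).core = ⊥) (h1 : S ≠ ⊥)
    (h : ∀ E, (FT S).IsEssential p E → S ≤ Nm E) : Nat.card S = p ^ 3 ∨
      ∃ E₁ E₂, (FT S).IsEssential p E₁ ∧ (FT S).IsEssential p E₂ ∧ SpC p S E₁ E₂ := by
  have di := fun E hE => dich_normal hF hp hr hE (h E hE)
  by_cases c : ∃ E, (FT S).IsEssential p E ∧ JT p E S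
  · obtain ⟨E₂, a, j⟩ := c
    obtain ⟨E₁, b, ne⟩ : ∃ E₁, (FT S).IsEssential p E₁ ∧ E₁ ≠ E₂ := by
      by_contra! c
      obtain ⟨s, hs, hs'⟩ := exists_of_prime j.idx
      obtain ⟨e, he, he'⟩ := j.j3 s hs hs'
      rw [eq_bot_of_ess' hF hc j.le (fun g hg => img_cj_eq_self.1 (c _ (ess_cj_top hF a hg)))
        fun P e => c P e ▸ ⟨le_rfl, le_rfl⟩, mem_bot] at he
      exact he' (by simp [he])
    exact Or.inr ⟨E₁, E₂, b, a, j.spc hp hr ne (di E₁ b)⟩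
  · have dq := fun E hE => (di E hE).resolve_left fun j => c ⟨E, hE, j⟩
    have l1 : ∀ E, (FT S).IsEssential p E → Fr E ≤ ⨆ (E) (_ : (FT S).IsEssential p E), Fr E := fun E hE =>
      le_iSup₂_of_le E hE le_rfl
    have l2 : ∀ E C D, QT p E S C D → ⨆ (E) (_ : (FT S).IsEssential p E), Fr E ≤ C := fun E C D q =>
      iSup₂_le fun E' hE' => let ⟨_, _, q'⟩ := dq E' hE'; q.fr_le (q'.D_eq q hp hr ▸ q') hp
    have l3 := eq_bot_of_ess' hF hc (Q := ⨆ (E) (_ : (FT S).IsEssential p E), Fr E)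
      (iSup₂_le fun E hE => Fr_le.trans (hF.ess_lt hE).le) (fun g hg =>
        mem_normalizer_of_le (S := ⊤) le_top fun x hx => by
          have : ⨆ (E) (_ : (FT S).IsEssential p E), Fr E ≤ Cj g⁻¹ (⨆ (E) (_ : (FT S).IsEssential p E), Fr E) :=
            iSup₂_le fun E hE y hy => mem_img_cj.2 (by
              simpa using l1 _ (ess_cj_top hF hE hg) (Cj_Fr_le (hF.pgroup (hF.ess_lt hE).le) (conj_mem_Cj hy)))
          simpa using mem_img_cj.1 (this hx))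
      fun P e => let ⟨_, _, q⟩ := dq P e; ⟨(l2 _ _ _ q).trans q.ce, q.inv_mid (l1 P e) (l2 _ _ _ q)⟩
    obtain ⟨E, hE⟩ := hF.exists_ess h1 hc
    obtain ⟨C, D, q⟩ := dq E hE
    exact Or.inl (card_of_cen hF hp hc q (Cn_symm (le_Cn_of_bot fun x hx y hy =>
      l3 ▸ l1 E hE (Tr.comm (q.t2 hy) hx))))

namespace QT

theorem wt_other (q₁ : QT p E₁ S C₁ D) (q₂ : QT p E₂ S C₂ D) (ne : E₁ ≠ E₂) (h1 : t ∈ Nm E₁) (w2 : WtOn t E₂ D i)
    (w3 : WtOn t S E₂ j) : WtOn t E₁ D j ∧ WtOn t S E₁ i :=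
  ⟨q₁.inf_eq q₂ ne ▸ w3.inf q₁.le h1, wtOn_of_sup q₁.pg q₁.le q₁.idx h1 q₂.le
    (not_le_of_ne q₂.idx q₁.idx q₁.le ne.symm) q₁.de w2⟩

theorem C_eq (q₁ : QT p E₁ S C₁ D) (q₂ : QT p E₂ S C₂ D) (hp : p ≠ 2) (ne : E₁ ≠ E₂) (h1 : Nm S ≤ Nm E₁) :
    C₂ = C₁ := by
  by_contra c
  obtain ⟨t, a1, a2, a3, -, -, w2, w3⟩ := q₂.neg
  obtain ⟨w4, w5⟩ := q₁.wt_other q₂ ne (h1 a3) w2 w3
  have := q₁.wt_rel (q₁.nc (h1 a3)) w4 w5 (wtOn_of_sup q₁.pgD q₁.cd q₁.i2 (q₁.nc (h1 a3)) q₂.cd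
    (not_le_of_ne q₂.i2 q₁.i2 q₁.cd c) (q₁.fr_le q₂ hp) (Tr.wt (q₂.tl a1)))
  exact neg_two hp (by simpa using this)

theorem cen_D (q₁ : QT p E₁ S C D) (q₂ : QT p E₂ S C D) (hp : p ≠ 2) (hr : Rk p S) (ne : E₁ ≠ E₂) (h1 : Nm S ≤ Nm E₁)
    (h2 : S ≤ Cn C) : E₁ ≤ Cn D := by
  obtain ⟨t, a1, a2, a3, a4, w1, w2, w3⟩ := q₂.neg
  obtain ⟨x, hx, hx'⟩ := exists_of_prime q₁.i2
  have ab := ab_of_cyc (sup_zpowers_eq q₁.i2 q₁.cd hx hx') (q₁.dn.trans h2)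
  exact le_Cn_of_bot fun _ c _ => comm_of_wt q₁.pgC le_Nm_bot le_Nm_bot mem_Nm_bot q₁.cd q₁.de
    (fun _ a _ b => bot_of_Cn (h2 (q₁.le b)) a) (fun _ a _ b => bot_of_Cn (ab b) a) (fun _ a _ b => q₁.dc a (q₁.le b))
    (fun _ a _ b => bot_of_Cn (h2 (q₁.dn b)) a) (fun _ a _ b => bot_of_Cn (h2 (q₁.le b)) a) w1
    (q₁.wt_other q₂ ne (h1 a3) w2 w3).1 (Cn.wt (q₂.two q₁ hp hr ne.symm a1 a4)) (by simpa using neg_two hp) c

end QT

theorem two_char (hF : Sat (FT S) p) (hp : p ≠ 2) (hr : Rk p S) (hc : (FT S).core = ⊥) (ne : E₁ ≠ E₂)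
    (e1 : (FT S).IsEssential p E₁) (e2 : (FT S).IsEssential p E₂) (h1 : Nm S ≤ Nm E₁) (h2 : Nm S ≤ Nm E₂) :
    Nat.card S = p ^ 3 ∨ SpC p S E₁ E₂ ∨ SpC p S E₂ E₁ := by
  have d1 := dich_normal hF hp hr e1 (le_normalizer.trans h1)
  have d2 := dich_normal hF hp hr e2 (le_normalizer.trans h2)
  rcases id d2 with j | ⟨C₂, D, q₂⟩
  · exact Or.inr (Or.inl (j.spc hp hr ne d1))
  rcases id d1 with j | ⟨C₁, D₁, q₁⟩
  · exact Or.inr (Or.inr (j.spc hp hr ne.symm d2))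
  obtain rfl := q₁.D_eq q₂ hp hr
  obtain rfl := q₁.C_eq q₂ hp ne h1
  have a := (q₁.sup_top q₂ ne).ge
  have b := a.trans (sup_le (q₁.cent_C hp fun _ => q₁.two q₂ hp hr ne) (q₂.cent_C hp fun _ => q₂.two q₁ hp hr ne.symm))
  exact Or.inl (card_of_cen hF hp hc q₁ (Cn_symm (a.trans (sup_le (q₁.cen_D q₂ hp hr ne h1 b)
    (q₂.cen_D q₁ hp hr ne.symm h2 b)))))

namespace SpC

theorem card₁ (h : SpC p S E₁ E₂) : Nat.card E₁ = p ^ 3 := h.j.card' h.fr h.le h.idx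
theorem card₂ (h : SpC p S E₁ E₂) : Nat.card E₂ = p ^ 3 := h.j.card h.fr
theorem na (h : SpC p S E₁ E₂) : ¬ E₁ ≤ Cn E₁ := h.j.not_ab h.le h.idx h.ne
theorem ab (h : SpC p S E₁ E₂) : E₂ ≤ Cn E₂ := h.j.ab h.fr
theorem card (h : SpC p S E₁ E₂) : Nat.card S = p ^ 4 := by rw [card_eq_mul' h.le, h.card₁, h.idx, ← pow_succ]

theorem iso (h : SpC p S E₁ E₂) (hF : Sat (FT S) p) (hp : p ≠ 2) (e1 : (FT S).IsEssential p E₁) :
    ∃ P : Sylow p (Matrix.symplecticGroup (Fin 2) (ZMod p)), 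
      Nonempty (S ≃* (P : Subgroup (Matrix.symplecticGroup (Fin 2) (ZMod p)))) := by
  obtain ⟨s, hs, hs'⟩ := SetLike.not_le_iff_exists.1 (not_le_of_ne h.idx h.j.idx h.j.le h.ne)
  have ps : s ^ p = 1 := congrArg Subtype.val (exp_of_cube hp h.card₁
    (fun c => h.na (le_centralizer_iff_isMulCommutative.2 c)) (hF.not_cch e1) ⟨s, hs⟩)
  obtain ⟨V, W, f⟩ := h.j.fl (h.le hs) hs'
  obtain ⟨e, he, he'⟩ := h.j.j3 s (h.le hs) hs'
  have el := el_Fr h.j.pgE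
  rw [h.fr] at f he' el
  have b := f.m3 e he
  have c := Tr.comm f.t2 b
  have r : Rel p e ⁅e, s⁆ ⁅⁅e, s⁆, s⁆ s := ⟨mem_bot.1 (el.2 _ he), mem_bot.1 (el.2 _ (f.l3 b)),
    mem_bot.1 (el.2 _ (f.l3 (f.l2 c))), ps, mem_bot.1 (el.1 _ he _ (f.l3 b)), mem_bot.1 (el.1 _ he _ (f.l3 (f.l2 c))),
    mem_bot.1 (el.1 _ (f.l3 b) _ (f.l3 (f.l2 c))), rfl, rfl, mem_bot.1 (Tr.comm f.t1 c)⟩
  have c1 := mt mem_bot.2 he'
  obtain ⟨P, hP⟩ := sp_syl hp
  refine ⟨P, ?_⟩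
  rw [hP, ← eq_of_le_of_card_ge (sup_le (sup_le (sup_le (sup_le bot_le (zpowers_le.2 (h.j.le (f.l3 (f.l2 c)))))
    (zpowers_le.2 (h.j.le (f.l3 b)))) (zpowers_le.2 (h.j.le he))) (zpowers_le.2 (h.le hs)) : Sub4 _ _ _ _ ≤ S)
    (h.card.trans (r.card c1).symm).le]
  exact r.iso c1 sp_rel (sp_ne hp)

end SpC

section
variable {Ω : Type u} [Group Ω] {S E : Subgroup Ω} {F : FusionSystem S} {ι : Ω → G} {S' E' : Subgroup G}

theorem not_cube [Finite S] (hF : Sat F p) (hc : F.core = ⊥) (h : ¬ SectionalPRankLE p 2 S) :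
    S ≠ ⊥ ∧ Nat.card S ≠ p ^ 3 := by
  obtain ⟨h1, h2⟩ := of_not_srk h
  have a : S ≠ ⊥ := fun c => h1 (card_eq_one.2 c)
  obtain ⟨E, hE⟩ := hF.exists_ess a hc
  exact ⟨a, fun c => haveI := h2 c; (hF.ess_lt hE).not_ge fun y hy =>
    hF.ess_centric hE ⟨hy, centralizer_le (hF.ess_lt hE).le (le_centralizer S hy)⟩⟩

theorem core_real [Finite S] (f : FIso F ι (FT S')) (hc : F.core = ⊥) : (FT S').core = ⊥ := by
  rw [← f.img_core, hc, f.mul.img_bot]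

theorem norm_real (f : FIso F ι (FT S')) (hE : E ≤ S) (h : S ≤ Nm E) : S' ≤ Nm (img ι E) := fun y hy => by
  obtain ⟨x, hx, rfl⟩ := f.piso.surj hy
  exact f.piso.norm_apply hE hx (h hx)

theorem norm_real' (f : FIso F ι (FT S')) (hE : E ≤ S) (h : S' ≤ Nm (img ι E)) : S ≤ Nm E := fun x hx => by
  have := f.piso.symm.norm_apply (f.piso.img_le hE) (f.piso.maps hx) (h (f.piso.maps hx))
  rwa [f.piso.pinv_apply hx, f.piso.img_pinv_img hE] at this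

theorem ess_real (f : FIso F ι (FT S')) (hF : Sat F p) (h : (FT S').IsEssential p E') :
    ∃ E, F.IsEssential p E ∧ img ι E = E' :=
  ⟨_, f.symm.ess (f.sat' hF) h, f.piso.img_img_pinv ((f.sat' hF).ess_lt h).le⟩

theorem char_real [Finite S] (f : FIso F ι (FT S')) (hE : E ≤ S) (h : ∀ φ ∈ F.autGroup S, φ ∈ stab S E) :
    Nm S' ≤ Nm (img ι E) := fun g hg => mem_normalizer_of_le (S := ⊤) le_top fun y hy => by
  obtain ⟨x, hx, rfl⟩ := (f.mul.mono hE).mem_img.1 hy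
  have a := (f.autCongr_mem_iff le_rfl f.piso (α := f.piso.autCongr.symm (cA S' g))).1 (by simpa using cA_mem le_rfl hg)
  rw [← fn_cA hg (f.piso.maps (hE hx)), ← f.piso.fn_autCongr_symm _ (hE hx)]
  exact mem_img_of_mem (stab_maps (h _ a) hx)

theorem pearl_real (f : FIso F ι (FT S')) (hF : Sat F p) (hp : p ≠ 2) (hE : F.IsEssential p E)
    (h1 : Nat.card (img ι E) = p ^ 3) (h2 : ¬ img ι E ≤ Cn (img ι E)) :
    IsExtraspecial p E ∧ Nat.card E = p ^ 3 ∧ ∀ x ∈ E, x ^ p = 1 := by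
  have a := (hF.ess_lt hE).le
  haveI := hF.finite a
  rw [f.piso.card_img a] at h1
  have b : ¬ IsMulCommutative E := fun c => h2 (piso_ab (f.res a) (le_centralizer_iff_isMulCommutative.2 c))
  exact ⟨extraspecial_of_cube h1 b, h1, fun x hx => congrArg Subtype.val (exp_of_cube hp h1 b (hF.not_cch hE) ⟨x, hx⟩)⟩

theorem elem_real (f : FIso F ι (FT S')) (hF : Sat F p) (hE : F.IsEssential p E) {k : ℕ}
    (h1 : Nat.card (img ι E) = p ^ k) (hk : k ≤ 3) (h2 : img ι E ≤ Cn (img ι E)) :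
    IsElementaryAbelian p E ∧ Nat.card E = p ^ k := by
  have a := (hF.ess_lt hE).le
  rw [f.piso.card_img a] at h1
  exact ⟨hF.elem_of_le_cube hE (le_centralizer_iff_isMulCommutative.1 (piso_ab (f.res a).symm h2)) h1 hk, h1⟩

end

end CF.FusC
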