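import Cfsg.Agent.FusC.J

/-! A subgroup of index `p` containing the focal subgroup; one more step up the normalizer tower. -/

set_option autoImplicit false
set_option linter.style.haveILetI false
set_option linter.unusedSectionVars false
set_option linter.unusedVariables false

namespace CF.FusC

open Cfsg Subgroup CF.Fus
open scoped commutatorElement

theorem zmod3_a : ∀ α β γ δ ε : ZMod 3, β * α - γ = 0 → γ * β - δ = 0 → δ * β - ε = 0 → γ * α - ε = 0 →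
    ¬ α = 0 → ¬ β = 0 → α - 1 = 0 := by decide

universe u

variable {G : Type u} [Group G] {p : ℕ} {A B C D E H K M N O P Q R S T U V W X Y Z A₀ B₀ : Subgroup G}
  {a b c d e g h r s t u v w x y z ξ : G} {i j k l m : ℤ} [Fact p.Prime] [Finite G]

theorem wt_dvd (hZ : IsPGroup p Z) (hA : A ≤ Nm W) (hB : B ≤ Nm W) (hh : h ∈ Nm W) (h1 : A₀ ≤ A) (h2 : B₀ ≤ B)
    (h3 : ∀ u ∈ A₀, ∀ y ∈ B, ⁅u, y⁆ ∈ W) (h4 : ∀ x ∈ A, ∀ v ∈ B₀, ⁅x, v⁆ ∈ W)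
    (h5 : ∀ x ∈ A, ∀ y ∈ B, ⁅x, y⁆ ∈ Z) (h6 : ∀ z ∈ Z, ∀ x ∈ A, ⁅z, x⁆ ∈ W) (h7 : ∀ z ∈ Z, ∀ x ∈ B, ⁅z, x⁆ ∈ W)
    (wa : WtOn h A A₀ i) (wb : WtOn h B B₀ j) (wz : WtOn h Z W k) (ha : a ∈ A) (hb : b ∈ B) (hn : ⁅a, b⁆ ∉ W) :
    (p : ℤ) ∣ i * j - k :=
  by_contra fun c => hn (comm_of_wt hZ hA hB hh h1 h2 h3 h4 h5 h6 h7 wa wb wz c ha hb)

theorem WtOn.unit (hi : B.relIndex A = p) (hn : A ≤ Nm B) (h1 : h ∈ Nm B) (w : WtOn h A B k) : ¬ (p : ℤ) ∣ k :=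
  fun c => not_le_of_prime hi fun a ha => by
    have := conj_mem_of_norm' h1 ((w a ha).congr (j := 0) (pow_mem_of_prime hn hi ha) (by simpa using c))
    simpa [mul_assoc] using this

theorem Wt.mul (hB : A ≤ Nm B) (hc : ∀ x ∈ A, ∀ y ∈ A, ⁅x, y⁆ ∈ B) (ht : t ∈ Nm B) (ha : a ∈ A) (hb : b ∈ A)
    (w1 : Wt t B a k) (w2 : Wt t B b k) : Wt t B (a * b) k := by
  obtain ⟨Q, _, _, π, hπ, hk⟩ := exists_quot B
  rw [quot_wt hπ hk (hB ha) ht] at w1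
  rw [quot_wt hπ hk (hB hb) ht] at w2
  rw [quot_wt hπ hk (hB (mul_mem ha hb)) ht, hπ.map_mul (hB ha) (hB hb),
    ((quot_comm hπ hk (hB ha) (hB hb)).1 (hc a ha b hb)).mul_zpow, ← w1, ← w2]
  group

theorem Wt.inv (ha : a ∈ Nm B) (ht : t ∈ Nm B) (w1 : Wt t B a k) : Wt t B a⁻¹ k := by
  have := conj_mem_of_norm (zpow_mem ha k) (B.inv_mem w1)
  rwa [Wt, show (a⁻¹ ^ k)⁻¹ * (t * a⁻¹ * t⁻¹) = a ^ k * ((a ^ k)⁻¹ * (t * a * t⁻¹))⁻¹ * (a ^ k)⁻¹ * (a ^ k) * (a ^ k)⁻¹ by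
    group, mul_inv_cancel_right]

/-- the eigenspace of weight `k` -/
def Ev (hB : A ≤ Nm B) (hc : ∀ x ∈ A, ∀ y ∈ A, ⁅x, y⁆ ∈ B) (ht : t ∈ Nm B) (k : ℤ) : Subgroup G where
  carrier := {a | a ∈ A ∧ Wt t B a k}
  one_mem' := ⟨one_mem _, by simp [Wt]⟩
  mul_mem' := fun ha hb => ⟨mul_mem ha.1 hb.1, Wt.mul hB hc ht ha.1 hb.1 ha.2 hb.2⟩
  inv_mem' := fun ha => ⟨A.inv_mem ha.1, ha.2.inv (hB ha.1) ht⟩

theorem Cop.sq (h : Cop p t) : Cop p (t ^ 2) := Nat.Coprime.coprime_dvd_left (orderOf_pow_dvd 2) h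

theorem WtOn.sq_tr (w : WtOn t A B (-1)) (hA : A ≤ Nm B) (h1 : t ∈ Nm A) (h2 : t ∈ Nm B) : t ^ 2 ∈ Tr A B :=
  WtOn.tr (fun a ha => by simpa using (w a ha).pow (hA ha) h2 2) (pow_mem h1 2) (pow_mem h2 2)

theorem wt_of_sq (hB : A ≤ Nm B) (hc : ∀ x ∈ A, ∀ y ∈ A, ⁅x, y⁆ ∈ B) (h1 : t ∈ Nm A) (h : t ^ 2 ∈ Tr A B)
    (ht : t ∈ Nm B) (ha : a ∈ A) : Wt t B (a⁻¹ * (t * a * t⁻¹)) (-1) ∧ Wt t B (a * (t * a * t⁻¹)) 1 := by
  obtain ⟨Q, _, _, π, hπ, hk⟩ := exists_quot B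
  have b := conj_mem_of_norm h1 ha
  have c := (quot_comm hπ hk (hB ha) (hB b)).1 (hc _ ha _ b)
  have d := (quot_wt hπ hk (hB ha) (pow_mem ht 2)).1 (Tr.wt h a ha)
  rw [hπ.map_conj ht (hB ha)] at c
  rw [hπ.map_pow ht, zpow_one] at d
  rw [quot_wt hπ hk (hB (mul_mem (A.inv_mem ha) b)) ht, quot_wt hπ hk (hB (mul_mem ha b)) ht,
    hπ.map_inv_mul (hB ha) (hB b), hπ.map_mul (hB ha) (hB b), hπ.map_conj ht (hB ha), zpow_one, c.eq]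
  refine ⟨?_, ?_⟩
  · conv_rhs => rw [zpow_neg_one, mul_inv_rev, inv_inv, ← d]
    rw [d]; conv_rhs => rw [← d]
    rw [d]
    calc _ = (π t * π a * (π t)⁻¹)⁻¹ * (π t ^ 2 * π a * (π t ^ 2)⁻¹) := by rw [sq]; group
      _ = _ := by rw [d]
  · calc _ = π t * (π a * (π t * π a * (π t)⁻¹)) * (π t)⁻¹ := by rw [c.eq]
      _ = π t * π a * (π t)⁻¹ * (π t ^ 2 * π a * (π t ^ 2)⁻¹) := by rw [sq]; group
      _ = _ := by rw [d]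

theorem wtOn_neg (hp : p ≠ 2) (hA : IsPGroup p A) (hE : El p B A) (h1 : B ≤ X) (h2 : X ≤ A) (hc : Cop p t)
    (n1 : t ∈ Nm A) (n2 : t ∈ Nm B) (w1 : WtOn t A X (-1)) (w2 : WtOn t X B (-1)) : WtOn t A B (-1) := fun a ha => by
  have hn := hE.norm (h1.trans h2)
  have n3 := w2.norm h1
  have b := hc.sq.tr (hA.to_le h2) (w1.sq_tr (hE.norm_mid h1 h2) n1 n3) (w2.sq_tr (h2.trans hn) n3 n2)
  have c : a * (t * a * t⁻¹) ∈ X := by simpa [Wt] using w1 a ha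
  simpa [Wt] using Wt.mem hA (h2 c) (wt_of_sq hn hE.1 n1 b n2 ha).2 (w2 _ c) (neg_two hp)

theorem exists_M (hF : Sat (FT S) p) (hp : p ≠ 2) (h1 : Fr S ≤ A) (h2 : A ≤ S) (h3 : ¬ A ≤ Fr S)
    (h4 : Nm S ≤ Tr A (Fr S)) (ht : t ∈ Nm S) (hc : Cop p t) (w : WtOn t S A (-1)) :
    ∃ M, Fr S ≤ M ∧ ¬ S ≤ M ∧ Nm S ≤ Tr S M := by
  have eS := el_Fr hF.pg
  have n0 := eS.norm Fr_le
  have nA := eS.norm_mid h1 h2
  have t2 := hc.sq.tr (hF.pg.to_le h2) (w.sq_tr nA ht (h4 ht).1) (h4 (pow_mem ht 2))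
  have m1 : Fr S ≤ Ev n0 eS.1 (norm_Fr ht) (-1) := fun x hx =>
    ⟨Fr_le hx, mul_mem ((Fr S).inv_mem (zpow_mem hx _)) (conj_mem_of_norm (norm_Fr ht) hx)⟩
  have m2 : Ev n0 eS.1 (norm_Fr ht) (-1) ≤ S := fun _ a => a.1
  have m3 : A ⊔ Ev n0 eS.1 (norm_Fr ht) (-1) = S := le_antisymm (sup_le h2 m2) fun v hv =>
    Wt.mem hF.pg hv (i := 1) (by
      rw [Wt, zpow_one]
      exact mem_sup_right ⟨mul_mem (S.inv_mem hv) (conj_mem_of_norm ht hv),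
        (wt_of_sq n0 eS.1 ht t2 (norm_Fr ht) hv).1⟩) ((w v hv).mono le_sup_left) (neg_two hp)
  refine ⟨_, m1, fun c => h3 fun a ha => Wt.mem hF.pg (h2 ha) (Tr.wt (h4 ht) a ha) (c (h2 ha)).2 (neg_two hp),
    fun k hk => ?_⟩
  have hk' := Subgroup.inv_mem _ hk
  have a1 : k⁻¹ * (t * k * t⁻¹) ∈ Nm S := mul_mem hk' (conj_mem_of_norm (le_normalizer ht) hk)
  have a2 : k⁻¹ * (t * k * t⁻¹) ∈ Tr S (Fr S) := by
    have := syl_ch hF (fn_top _) h1 h2 (fun _ a => norm_Fr a.2) (NS_le.trans nA)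
      ⟨⟨by simpa [Wt] using w.comm_tr nA ht (h4 ht).1 hk (h4 hk).1, h4 a1⟩, mem_Tr_same (norm_Fr a1)⟩
    exact (sup_le (NS_le.trans (eS.tr Fr_le)) (Cn_le_Tr Fr_le) : _ ≤ Tr S (Fr S)) this
  have a3 : k ∈ Nm (Ev n0 eS.1 (norm_Fr ht) (-1)) := mem_normalizer_of_le (S := ⊤) le_top fun v hv =>
    ⟨conj_mem_of_norm hk hv.1, by
      have := conj_mem_of_norm (norm_Fr hk) (mul_mem hv.2 (Tr.act a2 (conj_mem_of_norm ht hv.1)))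
      rw [Wt]; convert this using 1; group⟩
  exact mem_Tr_of_le m2 fun x hx => comm_of_sup2 (m3.symm ▸ eS.norm_mid m1 m2) (fun _ a => m1 (Tr.comm (h4 hk) a))
    (fun _ => comm_mem_left a3) (m3.ge hx)

theorem focal_le_M (hF : Sat (FT S) p) (hp : p ≠ 2) (h1 : Fr S ≤ M) (h2 : Nm S ≤ Tr S M)
    (h : ∀ E, (FT S).IsEssential p E → ∃ C D, QT p E (NS S E) C D) : (FT S).focalSubgroup ≤ M := by
  refine focal_le_iff.2 (hF.alperin' (M := fun P f => ∀ x ∈ P, x⁻¹ * f x ∈ M)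
    (fun _ a b c x hx => c x hx ▸ a x (b hx)) (fun _ _ a b c x hx => ?_) fun P hP ih α hα x hx => ?_)
  · simpa [mul_assoc] using mul_mem (a x hx) (b _ (c x hx))
  obtain ⟨g, hg, rfl⟩ := (aut_iff (hP.elim Eq.le fun h => (hF.ess_lt h).le)).1 hα
  rw [fn_cA hg hx]
  rcases hP with rfl | hP
  · exact Tr.act (h2 hg) hx
  obtain ⟨C, D, q⟩ := h P hP
  have k : ∀ n ∈ Nm (NS S P), ∀ y ∈ NS S P, y⁻¹ * (n * y * n⁻¹) ∈ M := fun n hn =>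
    ih _ (cj n) (card_lt_of_lt (hF.ess_NS hP)) (morG_cj le_top NS_le (mem_top n) fun y hy => (conj_mem_of_norm hn hy).1)
  obtain ⟨W, a1, a2, a3, a4, a5⟩ := q.ww
  obtain ⟨t, -, b2, b3, -, w1, w2, -⟩ := q.neg
  have w : ∀ y ∈ W, Wt t M y 1 := fun y hy => by rw [Wt, zpow_one]; exact k t b3 y (q.le (a2 hy))
  have c1 : W ⊓ D ≤ M := fun y hy => Wt.mem q.pgE (a2 hy.1) (w y hy.1) (Wt.mono
    (w1.inf inf_le_right (norm_inf (a3 b2) (q.norm_D (q.nc b2) b3)) y hy) fun z hz =>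
      h1 (Fr_mono hF.pg (hF.ess_lt hP).le (a5 ⟨hz.1.1, hz.2⟩))) (neg_two hp)
  have c2 : W ≤ M := fun y hy => Wt.mem q.pgE (a2 hy) (w y hy) ((w2.inf a2 (a3 b2) y hy).mono c1) (neg_two hp)
  obtain ⟨l, hl, hn⟩ := q.gen g hg
  have c3 := conj_mem_of_norm (mul_mem (Subgroup.inv_mem _ (LL_le_Nm q.nm hl)) hg) hx
  have := mul_mem (k _ hn x (q.le hx)) (c2 (Tr.act (LL_le_Tr a2 le_rfl a4 le_rfl a3 hl) c3))
  convert this using 1; group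

theorem JT.card_cases (j : JT p E N) (hp : p ≠ 2) (hr : Rk p N) : Nat.card E = p ^ 3 ∨ p ^ 6 ≤ Nat.card E := by
  refine (em _).imp j.card fun h => ?_
  obtain ⟨s, hs, hs'⟩ := exists_of_prime j.idx
  obtain ⟨n, hn⟩ := isPGroup_iff_mem.1 j.pg s hs
  have j1 := JM.step ⟨le_normalizer, le_rfl, j.j3 s hs hs', j.irr⟩ hp j.pgE (hr.mono j.le) (j.nm hs) hn h
  obtain ⟨e, he, he'⟩ := j1.j3
  have pF := j.pgE.to_le (Fr_le (A := E))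
  obtain ⟨V, W, f⟩ := j.fl hs hs'
  obtain ⟨V', W', f'⟩ := exists_fl pF Fr_le (el_Fr pF) (hr.fr j.pg (Fr_le.trans j.le)) hn (norm_Fr (j.nm hs))
    (norm_Fr (norm_Fr (j.nm hs))) he he'
  rw [card_eq_mul' (Fr_le (A := E)), card_eq_mul' (Fr_le (A := Fr E)), f.idx, f'.idx, mul_assoc, ← pow_add]
  exact Nat.le_mul_of_pos_left _ Nat.card_pos

theorem q_of_nonnormal (hF : Sat (FT S) p) (hp : p ≠ 2) (hr : Rk p S) (hE : (FT S).IsEssential p E)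
    (hlt : NS S E < S) : ∃ C D, QT p E (NS S E) C D := by
  obtain ⟨r, h1, h2⟩ := SetLike.exists_of_lt (hF.lt_NS hlt)
  obtain ⟨c1, c2⟩ := ess_cj' hF hE h1.2
  exact q_of_conj hp (hr.mono NS_le) (g := r) (fun c => h2 ⟨h1.1, img_cj_eq_self.1 c.symm⟩)
    (ess_dich hF hp hE (hr.fr hF.pg (hF.ess_lt hE).le)) (c2 ▸ ess_dich hF hp c1 (hr.fr hF.pg (hF.ess_lt c1).le))

theorem allQ_five (hF : Sat (FT S) p) (hp : p ≠ 2) (hr : Rk p S) (hc : Nat.card S = p ^ 5)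
    (hE : (FT S).IsEssential p E) : ∃ C D, QT p E (NS S E) C D := by
  rcases (NS_le (S := S) (P := E)).eq_or_lt with e | e
  · refine (ess_dich hF hp hE (hr.fr hF.pg (hF.ess_lt hE).le)).resolve_left fun j => ?_
    have a := card_eq_mul' j.le
    rw [j.idx, e, hc, pow_succ] at a
    have b := Nat.eq_of_mul_eq_mul_right (Fact.out : p.Prime).pos a
    have o := (Fact.out : p.Prime).one_lt
    rcases j.card_cases hp (hr.mono NS_le) with c | c <;> rw [← b] at c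
    · exact absurd (Nat.pow_right_injective o c) (by omega)
    · exact absurd ((Nat.pow_le_pow_iff_right o).1 c) (by omega)
  · exact q_of_nonnormal hF hp hr hE e

theorem false_of_M (hF : Sat (FT S) p) (hp : p ≠ 2) (hr : Rk p S) (hc : Nat.card S = p ^ 5)
    (hh : (FT S).hyperfocalSubgroup p = S) (h1 : Fr S ≤ A) (h2 : A ≤ S) (h3 : ¬ A ≤ Fr S)
    (h4 : Nm S ≤ Tr A (Fr S)) (ht : t ∈ Nm S) (hc' : Cop p t) (w : WtOn t S A (-1)) : False :=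
  let ⟨_, a, b, c⟩ := exists_M hF hp h1 h2 h3 h4 ht hc' w
  b (hh.ge.trans ((hyp_le_focal _).trans (focal_le_M hF hp a c fun _ => allQ_five hF hp hr hc)))

/-- one more step: `S > G₁ > B > A > D > 1` -/
structure Up (p : ℕ) (S R G₁ B A D : Subgroup G) (e g : G) (l m : ℤ) : Prop where
  pg : IsPGroup p S
  l1 : D ≤ A
  l2 : A ≤ B
  l3 : B ≤ G₁
  l4 : G₁ ≤ S
  i0 : (⊥ : Subgroup G).relIndex D = p
  i1 : D.relIndex A = p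
  i2 : A.relIndex B = p
  i3 : B.relIndex G₁ = p
  i4 : G₁.relIndex S = p
  eq : G₁ = S ⊓ Tr B D
  fr : Fr S = B
  ab : B ≤ Cn B
  cD : S ≤ Cn D
  t1 : S ≤ Tr A D
  t2 : S ≤ Tr B A
  eS : e ∈ S
  n1 : ∀ a ∈ A, a ∉ D → ⁅a, e⁆ ∉ (⊥ : Subgroup G)
  n2 : ∀ a ∈ B, a ∉ A → ⁅a, e⁆ ∉ D
  n3 : ∀ a ∈ G₁, a ∉ B → ⁅e, a⁆ ∉ A
  gS : g ∈ Nm S
  cop : Cop p g
  w0 : WtOn g D ⊥ l
  w1 : WtOn g A D (l ^ 2)
  w2 : WtOn g B A (l ^ 3)
  w3 : WtOn g G₁ B (l ^ 4)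
  w4 : WtOn g S G₁ m

theorem exists_up (hF : Sat (FT S) p) (n : NN p E N (NS S N) ⊥ D A) (hi : (NS S N).relIndex S = p)
    (τ : Tor p E N (NS S N) ⊥ D h l m) (l3 : ¬ (p : ℤ) ∣ l ^ 3 - 1) (l5 : ¬ (p : ℤ) ∣ l ^ 5 - 1) :
    ∃ G₁ B e g, Up p S (NS S N) G₁ B A D e g l m := by
  have cb : ∀ X : Subgroup G, X ≤ Cn ⊥ := fun X => Cn_symm bot_le
  have h1 : h ∈ Cn ⊥ := cb ⊤ (mem_top h)
  have h3 := n.abA τ h1 (cb N) l3
  obtain ⟨b1, b2, b3, b4, b5⟩ := n.exists_B (cb _) h3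
  obtain ⟨w, ab⟩ := n.abB τ h1 (cb _) h3 l5
  have rS : NS S N ≤ S := NS_le
  have kN : ∀ x ∈ S, x ∈ Nm N → x ∈ NS S N := fun x a b => ⟨a, b⟩
  have sR := norm_of_prime hF.pg rS hi
  have ext := fun X Y g => ext_ch (X := X) (Y := Y) (g := g) hF (fn_of_norm _ rS sR)
  rw [NS_eq_of_norm sR] at ext
  generalize NS S N = R at *
  have bR : R ⊓ Tr A ⊥ ≤ R := inf_le_left
  obtain ⟨e, he, he'⟩ := exists_of_prime n.q.i1
  obtain ⟨r, hr, hr'⟩ := exists_of_prime n.idx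
  obtain ⟨s, hs, hs'⟩ := exists_of_prime n.q.idx
  have eN := n.q.le he
  have eR := n.nr eN
  have eF := el_Fr n.pg
  have fr : Fr R = A := le_antisymm (b2 ▸ le_inf ((el_of_idx n.pg bR b4.le).Fr_le le_rfl)
    ((el_of_idx n.pg n.nr n.idx.le).Fr_le le_rfl)) (le_of_prime n.i1 n.da (le_of_prime n.q.i2 bot_le bot_le
      (n.q.ed he hs) (n.q.nd e he he' s hs hs') (eF.1 _ eR _ (n.nr hs))) (Tr.comm (n.t1 hr) eN)
      (n.nd e he he' r hr hr') (eF.1 _ eR _ hr))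
  have nA : Nm R ≤ Nm A := fun _ a => fr ▸ norm_Fr a
  have nB : Nm R ≤ Nm (R ⊓ Tr A ⊥) := fun _ a => norm_inf a (norm_Tr (nA a) mem_Nm_bot)
  have n1 : ∀ a ∈ A, a ∉ D → ⁅a, e⁆ ∉ (⊥ : Subgroup G) := fun a ha ha' c =>
    n.q.nd e he he' a (n.an ha) (n.notE ha ha') (comm_symm c)
  have n2 : ∀ a ∈ R ⊓ Tr A ⊥, a ∉ A → ⁅a, e⁆ ∉ D := fun a ha ha' c =>
    n.nd e he he' a ha.1 (fun d => ha' (b2.le ⟨ha, d⟩)) (comm_symm c)
  have eB : e ∉ R ⊓ Tr A ⊥ := fun c => n.notA he he' (b2.le ⟨c, eN⟩)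
  generalize R ⊓ Tr A ⊥ = B at *
  have dR : R ≤ Cn D := fun _ a => mem_Tr_bot.1 (le_Tr_of_idx n.pg n.q.pgD bot_le n.q.i2.le n.rD le_Nm_bot a)
  have nD : Nm R ≤ Nm D := fun k hk => by
    obtain ⟨a, ha, ha'⟩ := exists_of_prime n.i1
    rw [← (eq_or_eq_of_prime n.i1 (le_inf n.da (Cn_symm dR)) inf_le_left).resolve_right fun c =>
      n1 a ha ha' (comm_symm (bot_of_Cn (c.ge ha).2 eR))]
    exact norm_inf (nA hk) (norm_Cn hk)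
  obtain ⟨g, g1, g2, g3⟩ := ext A B h fr.le b1 bR (by rw [fr]; simpa using (Fact.out : p.Prime).one_le) b3.le b4.le
    nA nB τ.nR τ.cop
  have gR := mem_of_inv_mul' τ.nR (Cn_le_Nm g3)
  have tr : ∀ {X Y : Subgroup G} {k : ℤ}, X ≤ R → WtOn h X Y k → WtOn g X Y k := fun a b =>
    b.of_eq fun _ c => same_of_Cn g3 (a c)
  have pB := n.pg.to_le bR
  have t0 : S ≤ Cn D := fun _ a =>
    mem_Tr_bot.1 (le_Tr_of_idx hF.pg n.q.pgD bot_le n.q.i2.le (sR.trans nD) le_Nm_bot a)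
  have t1 := le_Tr_of_idx hF.pg n.pgA n.da n.i1.le (sR.trans nA) (sR.trans nD)
  have t2 := le_Tr_of_idx hF.pg pB b1 b3.le (sR.trans nB) (sR.trans nA)
  have t3 := le_Tr_of_idx hF.pg n.pg bR b4.le sR (sR.trans nB)
  have n3 : ∀ x ∈ S, x ∉ R → ⁅e, x⁆ ∉ A := fun x hx hx' c => hx' (kN x hx (mem_Tr_of_le n.an fun y =>
    comm_of_sup (n.nr.trans n.rA) (sup_zpowers_eq n.i2 n.an eN (n.notA he he'))
      (fun _ => comm_mem_left (nA (sR hx))) c).1)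
  have w4 : WtOn g R B m := wtOn_of_idx n.pg bR b4 (nB gR) eR eB ((tr n.nr (n.wNA τ) e eN).mono b1)
  have w5 : WtOn g S R (l ^ 4) := by
    obtain ⟨k, hk⟩ := exists_wt hF.pg rS hi g1 gR
    obtain ⟨x, hx, hx'⟩ := exists_of_prime hi
    refine hk.congr (fun _ => pow_mem_of_prime sR hi) ?_
    have := ((wt_dvd pB n.rA (sR.trans nA) (nA gR) bR rS (fun _ a _ b => Tr.comm (t2 b) a)
      (fun _ a _ b => fr.le (eF.1 _ a _ b)) (fun _ a _ b => Tr.comm (t3 b) a) (fun _ a _ b => Tr.comm (t2 (rS b)) a)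
      (fun _ a _ b => Tr.comm (t2 b) a) w4 hk (tr bR w) eR hx (n3 x hx hx')).mul_left l).sub (τ.lm.mul_left k)
    rwa [show l * (m * k - l ^ 3) - k * (l * m - 1) = k - l ^ 4 by ring] at this
  obtain ⟨b, hb, hb'⟩ := exists_of_prime b3
  have e1 : e ∉ S ⊓ Tr B D := fun c => n2 b hb hb' (Tr.comm c.2 hb)
  have c1 : B ≤ S ⊓ Tr B D := le_inf (bR.trans rS) (ab.trans (Cn_le_Tr (n.da.trans b1)))
  have c2 : (S ⊓ Tr B D).relIndex S = p := relIndex_eq_prime hF.pg (fun c => e1 (c (rS eR))) (by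
    rw [inf_relIndex_left, ← n.i1]
    exact idx_Tr_le pB (bR.trans n.rD) n.da b1 b3.le t2 t1)
  have c3 : S ⊓ Tr B D ⊓ R = B := (eq_or_eq_of_prime b4 (le_inf c1 bR) inf_le_right).resolve_right
    fun c => e1 (c.ge eR).1
  have c4 : B.relIndex (S ⊓ Tr B D) = p := by
    have := idx_inf hF.pg (A := S ⊓ Tr B D) inf_le_left hi (not_le_of_ne c2 hi rS fun c => e1 (c.ge eR))
    rwa [c3] at this
  have nG := norm_inf g1 (norm_Tr (nB gR) (nD gR))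
  have n4 : ∀ a ∈ S ⊓ Tr B D, a ∉ B → ⁅e, a⁆ ∉ A := fun a ha ha' => n3 a ha.1 fun c => ha' (c3.le ⟨ha, c⟩)
  obtain ⟨x, hx, hx'⟩ := exists_of_prime c4
  exact ⟨_, B, e, g, hF.pg, n.da, b1, c1, inf_le_left, n.q.i2, n.i1, b3, c4, c2, rfl, le_antisymm (c3 ▸ le_inf
    ((el_of_idx hF.pg inf_le_left c2.le).Fr_le le_rfl) ((el_of_idx hF.pg rS hi.le).Fr_le le_rfl)) (le_of_prime b3 b1
      (fr.ge.trans (Fr_mono hF.pg rS)) (Tr.comm (t3 hx.1) eR) (n4 x hx hx') ((el_Fr hF.pg).1 _ (rS eR) _ hx.1)), ab,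
    t0, t1, t2, rS eR, n1, n2, n4, g1, g2, tr (n.q.dn.trans n.nr) τ.w1, tr n.ar (n.wA τ), tr bR w,
    (w5.inf inf_le_left nG).mono le_rfl c3.le, wtOn_of_idx hF.pg inf_le_left c2 nG (rS eR) e1 ((w4 e eR).mono c1)⟩

namespace Up
variable {G₁ : Subgroup G}

theorem tG (u : Up p S R G₁ B A D e g l m) : G₁ ≤ Tr B D := u.eq.le.trans inf_le_right

theorem cenA (u : Up p S R G₁ B A D e g l m) (hl : (p : ℤ) ∣ l * m - 1) (l5 : ¬ (p : ℤ) ∣ l ^ 5 - 1) : G₁ ≤ Cn A :=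
  have bS := u.l3.trans u.l4
  le_Cn_of_bot fun _ c _ => comm_of_wt (u.pg.to_le (u.l1.trans (u.l2.trans bS))) le_Nm_bot le_Nm_bot mem_Nm_bot u.l1 u.l3
    (fun _ a _ b => bot_of_Cn (u.cD (u.l4 b)) a) (fun _ a _ b => bot_of_Cn (u.ab b) (u.l2 a))
    (fun _ a _ b => Tr.comm (u.t1 (u.l4 b)) a) (fun _ a _ b => bot_of_Cn (u.cD (bS (u.l2 b))) a)
    (fun _ a _ b => bot_of_Cn (u.cD (u.l4 b)) a) u.w1 u.w3 u.w0 (by simpa [← pow_add] using nd_pow hl l5 1) c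

theorem rel (u : Up p S R G₁ B A D e g l m) (hA : G₁ ≤ Cn A) (hn : ¬ G₁ ≤ Cn G₁) (w2 : WtOn h B A i)
    (w3 : WtOn h G₁ B j) (w0 : WtOn h D ⊥ k) : (p : ℤ) ∣ i * j - k := by
  have bS := u.l3.trans u.l4
  obtain ⟨x, hx, hx'⟩ := exists_of_prime u.i3
  exact by_contra fun c => hn (ab_of_cyc (sup_zpowers_eq u.i3 u.l3 hx hx') (le_Cn_of_bot fun _ d _ => comm_of_wt
    (u.pg.to_le (u.l1.trans (u.l2.trans bS))) le_Nm_bot le_Nm_bot mem_Nm_bot u.l2 u.l3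
    (fun _ a _ b => bot_of_Cn (hA b) a) (fun _ a _ b => bot_of_Cn (u.ab b) a) (fun _ a _ b => Tr.comm (u.tG b) a)
    (fun _ a _ b => bot_of_Cn (u.cD (bS b)) a) (fun _ a _ b => bot_of_Cn (u.cD (u.l4 b)) a) w2 w3 w0 c d))

theorem triv (u : Up p S R G₁ B A D e g l m) (hp : p = 3) (hA : G₁ ≤ Cn A) (hn : ¬ G₁ ≤ Cn G₁) :
    Nm S ≤ Tr G₁ (Fr S) := fun k hk => by
  have bS := u.l3.trans u.l4
  have aS := u.l2.trans bS
  have dS := u.l1.trans aS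
  have sD : S ≤ Nm D := fun _ a => (u.t1 a).2.1
  have sA : S ≤ Nm A := fun _ a => (u.t1 a).1
  have kB : k ∈ Nm B := u.fr ▸ norm_Fr hk
  have mA : ∀ v ∈ B, ⁅v, e⁆ ∈ D → v ∈ A := fun v a b => by_contra fun c => u.n2 v a c b
  have kD : k ∈ Nm D := by
    rw [show D = B ⊓ Cn S from le_antisymm (le_inf (u.l1.trans u.l2) (Cn_symm u.cD)) fun v hv => by_contra fun c =>
      u.n1 v (mA v hv.1 (comm_symm (bot_of_Cn hv.2 u.eS))) c (comm_symm (bot_of_Cn hv.2 u.eS))]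
    exact norm_inf kB (norm_Cn hk)
  have kA : k ∈ Nm A := by
    rw [show A = Cm B S D from le_antisymm (fun v hv => (mem_Cm (bS.trans sD)).2 ⟨u.l2 hv, fun _ b =>
      Tr.comm (u.t1 b) hv⟩) fun v hv => mA v (Cm_le hv) (((mem_Cm (bS.trans sD)).1 hv).2 e u.eS)]
    exact norm_Cm (bS.trans sD) kB hk kD
  have kG : k ∈ Nm G₁ := u.eq ▸ norm_inf hk (norm_Tr kB kD)
  obtain ⟨α, wα⟩ := exists_wt (u.pg.to_le u.l4) u.l3 u.i3 kG kB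
  obtain ⟨β, wβ⟩ := exists_wt u.pg u.l4 u.i4 hk kG
  obtain ⟨γ, wγ⟩ := exists_wt (u.pg.to_le bS) u.l2 u.i2 kB kA
  obtain ⟨δ, wδ⟩ := exists_wt (u.pg.to_le aS) u.l1 u.i1 kA kD
  obtain ⟨ε, wε⟩ := exists_wt (u.pg.to_le dS) bot_le u.i0 kD mem_Nm_bot
  obtain ⟨x, hx, hx'⟩ := exists_of_prime u.i3
  obtain ⟨b, hb, hb'⟩ := exists_of_prime u.i2
  obtain ⟨a, ha, ha'⟩ := exists_of_prime u.i1
  have eS := el_Fr u.pg
  rw [u.fr] at eS ⊢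
  have r1 := wt_dvd (u.pg.to_le bS) sA (u.l4.trans sA) kA u.l4 u.l3 (fun _ a _ => comm_of_cyc (u.l4.trans sA)
    (sup_zpowers_eq u.i3 u.l3 hx hx') (fun _ a _ b => u.l1 (Tr.comm (u.tG b) a)) a)
    (fun _ a _ b => Tr.comm' (u.t2 a) b) (fun _ a _ b => eS.1 _ a _ (u.l4 b)) (fun _ a _ b => Tr.comm (u.t2 b) a)
    (fun _ a _ b => Tr.comm (u.t2 (u.l4 b)) a) wβ wα wγ u.eS hx (u.n3 x hx hx')
  have r2 := wt_dvd (u.pg.to_le aS) (bS.trans sD) sD kD u.l2 u.l4 (fun _ a _ b => Tr.comm (u.t1 b) a)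
    (fun _ a _ b => Tr.comm (u.tG b) a) (fun _ a _ b => Tr.comm (u.t2 b) a) (fun _ a _ b => Tr.comm (u.t1 (bS b)) a)
    (fun _ a _ b => Tr.comm (u.t1 b) a) wγ wβ wδ hb u.eS (u.n2 b hb hb')
  have r3 := wt_dvd (u.pg.to_le dS) le_Nm_bot le_Nm_bot mem_Nm_bot u.l1 u.l4 (fun _ a _ b => bot_of_Cn (u.cD b) a)
    (fun _ a _ b => bot_of_Cn (hA b) a) (fun _ a _ b => Tr.comm (u.t1 b) a) (fun _ a _ b => bot_of_Cn (u.cD (aS b)) a)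
    (fun _ a _ b => bot_of_Cn (u.cD b) a) wδ wβ wε ha u.eS (u.n1 a ha ha')
  have r4 := u.rel hA hn wγ wα wε
  have u1 := wα.unit u.i3 (u.l4.trans (eS.norm bS)) kB
  have u2 := wβ.unit u.i4 (norm_of_prime u.pg u.l4 u.i4) kG
  refine (wα.congr (fun a ha => eS.2 a (u.l4 ha)) ?_).tr kG kB
  subst hp
  simp only [← ZMod.intCast_zmod_eq_zero_iff_dvd] at r1 r2 r3 r4 u1 u2 ⊢
  push_cast at r1 r2 r3 r4 u1 u2 ⊢
  exact zmod3_a _ _ _ _ _ r1 r2 r3 r4 u1 u2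

end Up

end CF.FusC
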