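import Cfsg.Agent.FusC.K
import Cfsg.Agent.Fus.TV2

/-! Groups of order `p ^ 5`. -/

set_option autoImplicit false
set_option linter.style.haveILetI false
set_option linter.unusedSectionVars false
set_option linter.unusedVariables false

namespace CF.FusC

open Cfsg Subgroup CF.Fus
open scoped commutatorElement

theorem zmod3_b : ∀ α β γ δ ε : ZMod 3, β * α - δ = 0 → δ * β - ε = 0 → γ * α - ε = 0 →
    ¬ α = 0 → ¬ β = 0 → γ - 1 = 0 := by decide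

universe u

variable {G : Type u} [Group G] {p : ℕ} {A B C D E H K M N O P Q R S T U V W X Y Z A₀ B₀ : Subgroup G}
  {a b c d e g h r s t u v w x y z ξ : G} {i j k l m : ℤ} [Fact p.Prime] [Finite G]

theorem NN.bad (n : NN p E N S C D A) (hF : Sat (FT S) p) (hp : p = 3) (hr : Rk p S) (hc : Nat.card S = p ^ 5)
    (hh : (FT S).hyperfocalSubgroup p = S) (τ : Tor p E N S C D h (-1) (-1)) (h1 : h ∈ Cn C) (h2 : N ≤ Cn C)
    (h3 : A ≤ Cn A) (c : D ≤ Cn N) (hn : ¬ S ≤ Cn C) (hC : (⊥ : Subgroup G).relIndex C = p) :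
    ∃ B, B ≤ S ∧ B ≤ Cn B ∧ B.relIndex S = p := by
  have hp2 : p ≠ 2 := by omega
  have hl : ¬ (p : ℤ) ∣ (-1) ^ 3 - 1 := by simpa using neg_two hp2
  obtain ⟨e, he, he'⟩ := exists_of_prime n.q.i1
  obtain ⟨a, ha, ha'⟩ := exists_of_prime n.i1
  obtain ⟨r, hr1, hr'⟩ := exists_of_prime n.idx
  have eN := n.q.le he
  have eA := n.notA he he'
  have d1 := n.q.comm eN (n.an ha)
  have d2 := n.q.nd e he he' a (n.an ha) (n.notE ha ha')
  have k : ∀ {g : G} {i j : ℤ}, Wt g A e i → Wt g D a j → Wt g ⊥ ⁅e, a⁆ (i * j) := fun w1 w2 =>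
    wt_comm le_Nm_bot le_Nm_bot mem_Nm_bot n.an n.da (fun _ a _ b => bot_of_Cn (h3 b) a)
      (fun _ a _ b => bot_of_Cn (c b) a) eN ha (comm_symm (bot_of_Cn (c d1) eN))
      (comm_symm (bot_of_Cn (c d1) (n.an ha))) w1 w2
  have z1 : S ≤ Cn (zpowers ⁅e, a⁆) := Cn_symm (zpowers_le.2 (mem_centralizer_iff.2 fun r hr => by
    have := k (Tr.wt (n.t1 hr) e eN) (Tr.wt (n.t2 hr) a ha)
    rw [Wt, mem_bot, mul_one, zpow_one, inv_mul_eq_one, eq_mul_inv_iff_mul_eq] at this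
    exact this.symm))
  have z2 := wtOn_of_gen (bot_sup_eq _) le_Nm_bot mem_Nm_bot (k (n.wNA τ e eN) (n.wA τ a ha))
  have z3 : zpowers ⁅e, a⁆ ≤ D := zpowers_le.2 d1
  have z4 := lift_le n.pg n.nr n.idx τ.nR (n.wR τ) hl (K := Tr D (zpowers ⁅e, a⁆))
    (fun _ a => norm_Tr (n.rD a) (Cn_le_Nm (z1 a))) (mem_Tr_of_le z3 fun y => comm_of_sup
      (n.q.dn.trans (n.nr.trans (z1.trans Cn_le_Nm))) (sup_zpowers_eq n.q.i2 n.q.cd d1 d2) (fun _ => bot_of_Cn h1)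
      (comm_mem_left (z2.norm bot_le) (mem_zpowers _))) ((Cn_symm c).trans (Cn_le_Tr z3))
  have eF := el_Fr n.pg
  have z5 : zpowers ⁅e, a⁆ ≤ Fr S := zpowers_le.2 (eF.1 _ (n.nr eN) _ (n.ar ha))
  have z6 := mem_zpowers ⁅e, a⁆
  generalize zpowers ⁅e, a⁆ = Z at *
  have sZ : S ≤ Nm Z := z1.trans Cn_le_Nm
  have dS := n.da.trans n.ar
  have cZ : ¬ C ≤ Z := fun d => hn (z1.trans (centralizer_le d))
  have l1 : ⊥ < Z := bot_lt_iff_ne_bot.2 fun d => d2 (bot_le (a := C) (d.le z6))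
  have l2 : Z < D := lt_of_le_not_ge z3 fun d => cZ (n.q.cd.trans d)
  have i0 : (⊥ : Subgroup G).relIndex D ≤ p ^ 2 := by rw [idx_mul bot_le n.q.cd, hC, n.q.i2, sq]
  have i1 := relIndex_eq_prime (n.q.pgD.to_le z3) l1.not_ge (idx_le_of_sq n.q.pgD bot_le l2 i0)
  have i2 := relIndex_eq_prime n.q.pgD l2.not_ge (idx_le_of_sq' n.q.pgD l1 z3 i0)
  have hZ := z2.norm bot_le
  have wD : WtOn h D Z 1 := wtOn_of_sup n.q.pgD z3 i2 hZ n.q.cd cZ bot_le (Cn.wt h1)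
  have s1 := sup_zpowers_eq n.i2 n.an eN eA
  have s2 := sup_zpowers_eq n.idx n.nr hr1 hr'
  have aN : ∀ x ∈ A, ∀ y ∈ N, ⁅x, y⁆ ∈ Z := fun x hx y hy => comm_symm (comm_of_sup (n.nr.trans sZ) s1
    (fun _ b => bot_of_Cn (h3 hx) b) (comm_symm (comm_of_sup (n.ar.trans sZ) (sup_zpowers_eq n.i1 n.da ha ha')
      (fun _ b => comm_symm (bot_of_Cn (c b) eN)) (comm_symm z6) hx)) hy)
  have aS : ∀ x ∈ A, ∀ y ∈ S, ⁅x, y⁆ ∈ Z := fun x hx y => comm_of_wt n.q.pgD (n.ar.trans sZ) sZ hZ n.da n.nr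
    (fun _ a _ b => Tr.comm (z4 b) a) aN (fun _ a _ b => Tr.comm (n.t2 b) a) (fun _ a _ b => Tr.comm (z4 (n.ar b)) a)
    (fun _ a _ b => Tr.comm (z4 b) a) (n.wA τ) (n.wR τ) wD (by simpa using neg_two hp2) hx
  have mA : ∀ r ∈ S, r ∉ N → ∀ x ∈ N, ⁅x, r⁆ ∈ D → x ∈ A := fun r hr hr' x hx d =>
    ((eq_or_eq_of_prime n.i2 (C := N ⊓ Cm1 r D) (le_inf n.an fun _ a => ⟨n.rD (n.ar a), Tr.comm (n.t2 hr) a⟩)
      inf_le_left).resolve_right fun f => n.nd e he he' r hr hr' (f.ge eN).2.2).le ⟨hx, n.rD (n.nr hx), d⟩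
  have pN := fun x (hx : x ∈ N) => pow_mem_of_prime (n.nr.trans n.rA) n.i2 hx
  have eS : El p A S := ⟨fun _ a _ => comm_of_cyc n.rA s2 (fun _ a _ b => Tr.comm (n.t1 b) a) a, fun x hx =>
    (em (x ∈ N)).elim (pN x) fun d => mA x hx d _ (pow_mem_of_prime n.rn n.idx hx) (by
      rw [((Commute.refl x).pow_left p).commutator_eq]; exact one_mem _)⟩
  have b1 : ⁅e, r⁆ ∈ A := Tr.comm (n.t1 hr1) eN
  have b2 := n.nd e he he' r hr1 hr'
  have nN : ∀ x ∈ N, ∀ y ∈ N, ⁅x, y⁆ ∈ Z := fun _ a _ => comm_of_cyc (n.nr.trans sZ) s1 aN a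
  have b3 : ⁅e, r⁆ ^ p ∈ Z := mem_of_inv_mul (aS _ (pN e eN) r hr1)
    ((cl2_of_comm (n.nr.trans sZ) nN).comm_pow hp2 eN (n.rn hr1))
  have pA : ∀ x ∈ A, x ^ p ∈ Z := fun x => (cl2_of_comm (n.ar.trans sZ) fun _ a _ b => aS _ a _ (n.ar b)).pow_of_sup
    hp2 (sup_zpowers_eq n.i1 n.da b1 b2) (fun _ => pow_mem_of_prime (dS.trans sZ) i2) b3
  have hA := n.na τ.nN
  have wS : WtOn h S A (-1) := wtOn_neg hp2 n.pg eS n.an n.nr τ.cop τ.nR hA (by simpa using n.wR τ) (n.wNA τ)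
  have wA : WtOn h A Z 1 := Tr.wt (τ.cop.tr n.q.pgD (WtOn.tr (by simpa using n.wA τ) hA (n.nD τ.nN))
    (wD.tr (n.nD τ.nN) hZ))
  have pS : ∀ x ∈ S, x ^ p ∈ Z := fun x hx => Wt.mem n.pgA (eS.2 x hx) (wA _ (eS.2 x hx))
    (wt_pow hp2 (cl2_of_mid sZ eS.1 pA aS) n.ar pA hx (wS x hx)) (neg_two hp2)
  have f1 : Z ⊔ zpowers ⁅e, r⁆ ≤ A := sup_le (z3.trans n.da) (zpowers_le.2 b1)
  have f2 : S ≤ Nm (Z ⊔ zpowers ⁅e, r⁆) := norm_of_comm (f1.trans n.ar) fun _ a _ b => mem_sup_left (aS _ (f1 a) _ b)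
  have fr : Fr S = Z ⊔ zpowers ⁅e, r⁆ := le_antisymm (El.Fr_le ⟨fun _ a _ => comm_of_cyc f2 s2 (fun y hy x hx =>
    comm_of_sup (n.nr.trans f2) s1 (fun _ a => mem_sup_left (aS _ a _ hx)) (comm_symm (comm_of_sup f2 s2
      (fun _ a => mem_sup_left (nN _ a _ eN)) (comm_symm (mem_sup_right (mem_zpowers _))) hx)) hy) a,
    fun x hx => mem_sup_left (pS x hx)⟩ le_rfl) (sup_le z5 (zpowers_le.2 (eF.1 _ (n.nr eN) _ hr1)))
  have i3 := relIndex_sup_zpowers (sZ (n.ar b1)) b3 fun d => b2 (z3 d)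
  have b4 : ⁅e, r⁆ ∈ Z ⊔ zpowers ⁅e, r⁆ := mem_sup_right (mem_zpowers _)
  rw [← fr] at f1 f2 i3 b4
  have i4 : (Fr S).relIndex A = p := by
    have := idx_mul z5 f1
    rw [idx_mul z3 n.da, i2, n.i1, i3] at this
    exact (Nat.eq_of_mul_eq_mul_left (Fact.out : p.Prime).pos this).symm
  have b5 : ⁅⁅e, r⁆, e⁆ ∉ (⊥ : Subgroup G) := fun d =>
    n.q.nd e he he' _ (n.an b1) (n.notE b1 b2) (bot_le (a := C) (comm_symm d))
  have g1 : e ∉ S ⊓ Tr (Fr S) ⊥ := fun d => b5 (Tr.comm d.2 b4)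
  have g2 : A ≤ S ⊓ Tr (Fr S) ⊥ := le_inf n.ar fun _ a => mem_Tr_bot.2 (centralizer_le f1 (h3 a))
  have i6 : (S ⊓ Tr (Fr S) ⊥).relIndex S = p := relIndex_eq_prime n.pg (fun d => g1 (d (n.nr eN))) (by
    rw [inf_relIndex_left, ← i1]
    exact idx_Tr_le (n.pg.to_le Fr_le) le_Nm_bot bot_le z5 (i1 ▸ i3.le)
      (fun _ b => mem_Tr_of_le z5 fun _ a => aS _ (f1 a) _ b) fun _ b => mem_Tr_bot.2 (z1 b))
  have g3 : ∀ k ∈ Nm S, k ∈ Nm (S ⊓ Tr (Fr S) ⊥) := fun _ a => norm_inf a (norm_Tr (norm_Fr a) mem_Nm_bot)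
  have g4 : S ⊓ Tr (Fr S) ⊥ ≤ Tr (Fr S) ⊥ := inf_le_right
  have bS : S ⊓ Tr (Fr S) ⊥ ≤ S := inf_le_left
  generalize S ⊓ Tr (Fr S) ⊥ = B at *
  have i5 : A.relIndex B = p := by
    have := idx_mul g2 bS
    rw [idx_mul n.an n.nr, n.i2, n.idx, i6] at this
    exact (Nat.eq_of_mul_eq_mul_right (Fact.out : p.Prime).pos this).symm
  refine ⟨B, bS, by_contra fun nb => ?_, i6⟩
  obtain ⟨x, hx, hx'⟩ := exists_of_prime i5
  have s3 := sup_zpowers_eq i5 g2 hx hx'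
  refine false_of_M hF hp2 hr hc hh f1 n.ar (not_le_of_prime i4) (fun k hk => ?_) τ.nR τ.cop wS
  have mN : ∀ v ∈ S, ⁅v, e⁆ ∈ D → v ∈ N := fun v a b => by_contra fun d => n.nd e he he' v a d (comm_symm b)
  have kZ : k ∈ Nm Z := by
    rw [← (eq_or_eq_of_prime i2 (le_inf z3 (Cn_symm z1)) inf_le_left).resolve_right fun d =>
      hn (Cn_symm (n.q.cd.trans (d.ge.trans inf_le_right))), show D ⊓ Cn S = S ⊓ Cn S from
      le_antisymm (inf_le_inf_right _ dS) fun v hv => ⟨n.q.cen (mN v hv.1 (comm_symm (bot_of_Cn hv.2 (n.nr eN))))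
        fun _ b => comm_symm (bot_of_Cn hv.2 (n.nr b)), hv.2⟩]
    exact norm_inf hk (norm_Cn hk)
  have kA : k ∈ Nm A := by
    rw [show A = Cm S S Z from le_antisymm (fun v hv => (mem_Cm sZ).2 ⟨n.ar hv, aS v hv⟩) fun v hv =>
      mA r hr1 hr' v (mN v (Cm_le hv) (z3 (((mem_Cm sZ).1 hv).2 e (n.nr eN)))) (z3 (((mem_Cm sZ).1 hv).2 r hr1))]
    exact norm_Cm sZ hk hk kZ
  obtain ⟨α, wα⟩ := exists_wt (n.pg.to_le bS) g2 i5 (g3 k hk) kA
  obtain ⟨β, wβ⟩ := exists_wt n.pg bS i6 hk (g3 k hk)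
  obtain ⟨γ, wγ⟩ := exists_wt n.pgA f1 i4 kA (norm_Fr hk)
  obtain ⟨δ, wδ⟩ := exists_wt (n.pg.to_le Fr_le) z5 i3 (norm_Fr hk) kZ
  obtain ⟨ε, wε⟩ := exists_wt (n.q.pgD.to_le z3) bot_le i1 kZ mem_Nm_bot
  have r1 := wt_dvd (n.pg.to_le Fr_le) sZ (bS.trans sZ) kZ bS g2
    (fun _ a _ => comm_of_cyc (bS.trans sZ) s3 (fun _ a _ b => aS _ a _ (bS b)) a)
    (fun _ a _ b => comm_symm (aS _ b _ a)) (fun _ a _ b => eF.1 _ a _ (bS b)) (fun _ a _ b => aS _ (f1 a) _ b)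
    (fun _ a _ b => aS _ (f1 a) _ (bS b)) wβ wα wδ (n.nr eN) hx fun d =>
      n.nd e he he' x (bS hx) (fun f => g1 (le_of_prime n.i2 n.an g2 f hx' hx eN)) (z3 d)
  have r2 := wt_dvd (n.q.pgD.to_le z3) le_Nm_bot le_Nm_bot mem_Nm_bot z5 bS (fun _ a _ b => bot_of_Cn (z1 b) a)
    (fun _ a _ b => Tr.comm (g4 b) a) (fun _ a _ b => aS _ (f1 a) _ b) (fun _ a _ b => bot_of_Cn (z1 (Fr_le b)) a)
    (fun _ a _ b => bot_of_Cn (z1 b) a) wδ wβ wε b4 (n.nr eN) b5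
  have r3 : (p : ℤ) ∣ γ * α - ε := by_contra fun d => nb (ab_of_cyc s3 (le_Cn_of_bot fun _ f _ => comm_of_wt
    (n.q.pgD.to_le z3) le_Nm_bot le_Nm_bot mem_Nm_bot f1 g2 (fun _ a _ b => Tr.comm (g4 b) a)
    (fun _ a _ b => bot_of_Cn (h3 b) a) (fun _ a _ b => aS _ a _ (bS b)) (fun _ a _ b => bot_of_Cn (z1 (n.ar b)) a)
    (fun _ a _ b => bot_of_Cn (z1 (bS b)) a) wγ wα wε d f))
  have u1 := wα.unit i5 (bS.trans n.rA) kA
  have u2 := wβ.unit i6 (norm_of_prime n.pg bS i6) (g3 k hk)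
  refine (wγ.congr (fun a ha => eF.2 a (n.ar ha)) ?_).tr kA (norm_Fr hk)
  subst hp
  simp only [← ZMod.intCast_zmod_eq_zero_iff_dvd] at r1 r2 r3 u1 u2 ⊢
  push_cast at r1 r2 r3 u1 u2 ⊢
  exact zmod3_b _ _ _ _ _ r1 r2 r3 u1 u2

theorem four_le_idx (hB : IsPGroup p B) (h : ¬ A.relIndex B ≤ p ^ 3) : p ^ 4 ≤ A.relIndex B := by
  obtain ⟨n, hn⟩ := IsPGroup.index hB (A.subgroupOf B)
  rw [relIndex, hn] at h ⊢
  exact Nat.pow_le_pow_right (Fact.out : p.Prime).pos (by_contra fun c =>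
    h (Nat.pow_le_pow_right (Fact.out : p.Prime).pos (by omega)))

theorem idx_le_five (hS : IsPGroup p S) (hc : Nat.card S = p ^ 5) (h0 : B ≤ A) (h1 : A ≤ S)
    (h : ¬ B.relIndex A ≤ p ^ 3) : Nat.card B * A.relIndex S ≤ p := by
  have a := four_le_idx (hS.to_le h1) h
  rw [card_eq_mul' h1, card_eq_mul' h0] at hc
  refine Nat.le_of_mul_le_mul_right ?_ (pow_pos (Fact.out : p.Prime).pos 4)
  calc _ ≤ Nat.card B * A.relIndex S * B.relIndex A := Nat.mul_le_mul_left _ a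
    _ = _ := by rw [mul_right_comm, hc, pow_succ']

theorem five_nrk (hF : Sat (FT S) p) (hc : Nat.card S = p ^ 5) (hO : (FT S).core = ⊥) (hr : ¬ Rk p S) :
    ∃ B, B ≤ S ∧ B ≤ Cn B ∧ B.relIndex S = p := by
  have o := (Fact.out : p.Prime).one_lt
  obtain ⟨E, hE⟩ := hF.exists_ess (fun c => by
    rw [c, card_bot] at hc; exact (Nat.one_lt_pow (by omega) o).ne hc) hO
  have eS := hF.ess_lt hE
  obtain ⟨Γ, es⟩ := es_of_ess hF hE
  simp only [Rk, not_forall] at hr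
  obtain ⟨A, B, h1, h2, h3, h4⟩ := hr
  have h5 := idx_le_five hF.pg hc h2 h1 h4
  by_cases hA : S ≤ A
  · obtain rfl := le_antisymm h1 hA
    rw [relIndex_self, mul_one] at h5
    have i : (⊥ : Subgroup G).relIndex B ≤ p := by rwa [relIndex_bot_left]
    have pB := hF.pg.to_le h2
    have bE : B ≤ E := fun x hx => hF.ess_centric hE ⟨h2 hx, Cn_symm (fun _ a => mem_Tr_bot.1
      (le_Tr_of_idx hF.pg pB bot_le i (h3.norm h2) le_Nm_bot (eS.le a))) hx⟩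
    have nE := NS_eq_of_norm (h3.norm_mid bE eS.le)
    rw [nE] at es
    have f := (eq_or_eq_of_le pB i bot_le (h3.Fr_le eS.le)).resolve_right fun c => es.not_le fun x hx =>
      mem_Tr_of_le Fr_le fun y hy => c.ge (h3.1 y (eS.le hy) x hx)
    refine ⟨E, eS.le, le_Cn_of_bot (f ▸ (el_Fr es.pgE).1), by_contra fun c => c (es.idx (by_contra fun d => c ?_))⟩
    have := idx_le_five hF.pg hc Fr_le eS.le d
    rw [f, card_bot, one_mul] at this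
    exact relIndex_eq_prime hF.pg eS.not_ge this
  · have a := le_idx hF.pg (lt_of_le_not_ge h1 hA)
    have b : B = ⊥ := (card_le_one_iff_eq_bot B).1 (Nat.le_of_mul_le_mul_right (by
      rw [one_mul]; exact (Nat.mul_le_mul_left _ a).trans h5) (by omega : 0 < p))
    rw [b, card_bot, one_mul] at h5
    exact ⟨A, h1, le_Cn_of_bot (b ▸ h3.1), le_antisymm h5 a⟩

theorem five (hF : Sat (FT S) p) (hp : p ≠ 2) (hp7 : p ≠ 7) (hc : Nat.card S = p ^ 5) (hO : (FT S).core = ⊥)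
    (hh : (FT S).hyperfocalSubgroup p = S) : ∃ B, B ≤ S ∧ B ≤ Cn B ∧ B.relIndex S = p := by
  have pp : p.Prime := Fact.out
  refine (em (Rk p S)).elim (fun hr => ?_) (five_nrk hF hc hO)
  by_cases hn : ∀ E, (FT S).IsEssential p E → S ≤ Nm E
  · rcases all_normal hF hp hr hO (fun c => by
      rw [c, card_bot] at hc; exact (Nat.one_lt_pow (by omega) pp.one_lt).ne hc) hn with c | ⟨_, _, -, -, c⟩
    · exact absurd (Nat.pow_right_injective pp.one_lt (hc.symm.trans c)) (by omega)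
    · exact absurd (Nat.pow_right_injective pp.one_lt (hc.symm.trans c.card)) (by omega)
  push Not at hn
  obtain ⟨E, hE, hn⟩ := hn
  obtain ⟨g, h1, h2, h3⟩ := exists_good hF hE hn
  obtain ⟨C, D, A, n, hC⟩ := exists_nn_rk hF hp hr h1 rfl h2 h3
  generalize NS S (Cj g E) = N at *
  generalize Cj g E = E at *
  have rS : NS S N ≤ S := NS_le
  have a : Nat.card C * (NS S N).relIndex S = p := by
    rw [card_eq_mul' rS, card_eq_mul' n.nr, card_eq_mul' n.q.le, n.q.card, n.idx, n.q.idx] at hc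
    exact Nat.eq_of_mul_eq_mul_right (pow_pos pp.pos 4) (by rw [← pow_succ', ← hc]; ring)
  have m1 : (p : ℤ) ∣ -1 * -1 - 1 := by simp
  have m3 : ¬ (p : ℤ) ∣ (-1) ^ 3 - 1 := by simpa using neg_two hp
  have m5 : ¬ (p : ℤ) ∣ (-1) ^ 5 - 1 := by simpa using neg_two hp
  rcases pp.eq_one_or_self_of_dvd _ (Dvd.intro _ a) with b | b
  · rw [b, one_mul] at a
    obtain rfl := card_eq_one.1 b
    by_cases p3 : p = 3
    · obtain ⟨h, τ⟩ := n.tor m1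
      obtain ⟨G₁, B, e, g, u⟩ := exists_up hF n a τ m3 m5
      exact ⟨G₁, u.l4, by_contra fun c => false_of_M hF hp hr hc hh (u.fr.le.trans u.l3) u.l4
        (u.fr ▸ not_le_of_prime u.i3) (u.triv p3 (u.cenA m1 m5) c) u.gS u.cop u.w4, u.i4⟩
    · obtain ⟨l, m, hl, -, l3, l5, l6⟩ := exists_prim5 (pp.five_le_of_ne_two_of_ne_three hp p3)
      obtain ⟨h, τ⟩ := n.tor hl
      obtain ⟨G₁, B, e, g, u⟩ := exists_up hF n a τ l3 l5
      exact ⟨G₁, u.l4, by_contra fun c => nd_pow hl (l6 hp7) 1 (by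
        simpa [← pow_add] using u.rel (u.cenA hl l5) c u.w2 u.w3 u.w0), u.i4⟩
  have p3 : p = 3 := by_contra fun c => pp.one_lt.ne' (by
    rw [← b, n.eq_bot (pp.five_le_of_ne_two_of_ne_three hp c) (hr.mono rS) hC, card_bot])
  rw [b] at a
  rw [le_antisymm rS (relIndex_eq_one.1 (Nat.eq_of_mul_eq_mul_left pp.pos (a.trans (mul_one p).symm)))] at n
  have i : (⊥ : Subgroup G).relIndex C = p := by rwa [relIndex_bot_left]
  obtain ⟨h, τ⟩ := n.tor m1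
  have c1 := hC h τ.mem τ.cop
  have c2 : N ≤ Cn C := fun _ a => mem_Tr_bot.1 (le_Tr_of_idx n.q.pg n.q.pgC bot_le i.le n.q.nC le_Nm_bot a)
  have c3 := n.abA τ c1 c2 m3
  by_cases c4 : S ≤ Cn C
  · exact ⟨_, inf_le_left, (n.abB τ c1 c4 c3 m5).2, (n.exists_B c4 c3).2.2.2.1⟩
  refine n.bad hF p3 hr hc hh τ c1 c2 c3 (by_contra fun c => c4 ?_) c4 i
  refine lift_le n.pg n.nr n.idx τ.nR (n.wR τ) m3 (fun r hr => norm_Cn ?_) c1 c2
  rw [← (eq_or_eq_of_prime n.q.i2 (le_inf n.q.cd (Cn_symm c2)) inf_le_left).resolve_right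
    fun d => c (d.ge.trans inf_le_right)]
  exact norm_inf (n.rD hr) (norm_Cn (n.rn hr))

end CF.FusC
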