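import Cfsg.Agent.FusC.J
import Cfsg.Agent.Fus.Meta2

/-! Power-commutator presentations, the `p`-th Engel commutator, and commutator pairings. -/

set_option autoImplicit false
set_option linter.style.haveILetI false
set_option linter.unusedSectionVars false
set_option linter.unusedVariables false

namespace CF.FusC

open Cfsg Subgroup CF.Fus
open scoped commutatorElement

universe u

/-- value of a positive word -/
def evw {M : Type*} [Monoid M] (g : ℕ → M) (l : List ℕ) : M := (l.map g).prod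

/-- power-commutator relations -/
def PC {M : Type*} [Monoid M] (p n : ℕ) (w : ℕ → ℕ → List ℕ) (g : ℕ → M) : Prop :=
  ∀ i < n, g i ^ p = 1 ∧ ∀ j < n, i < j → g j * g i = evw g (w i j) * (g i * g j)

/-- the subgroup generated by the last generators -/
def KK {G : Type*} [Group G] (g : ℕ → G) (n i : ℕ) : Subgroup G := closure (g '' Set.Ico i n)

theorem map_evw {M N : Type*} [Monoid M] [Monoid N] (f : M →* N) (g : ℕ → M) (l : List ℕ) :
    f (evw g l) = evw (f ∘ g) l := by rw [evw, map_list_prod, List.map_map, evw]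

theorem PC.of_inj {M N : Type*} [Monoid M] [Monoid N] {p n : ℕ} {w : ℕ → ℕ → List ℕ} {g : ℕ → M} (f : M →* N)
    (hf : Function.Injective f) (h : PC p n w (f ∘ g)) : PC p n w g := fun i hi =>
  ⟨hf (by rw [map_pow, map_one]; exact (h i hi).1), fun j hj hij => hf (by
    rw [map_mul, map_mul, map_mul, map_evw]; exact (h i hi).2 j hj hij)⟩

theorem PC.map {M N : Type*} [Monoid M] [Monoid N] {p n : ℕ} {w : ℕ → ℕ → List ℕ} {g : ℕ → M} (f : M →* N)
    (h : PC p n w g) : PC p n w (f ∘ g) := fun i hi =>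
  ⟨by rw [Function.comp, ← map_pow, (h i hi).1, map_one], fun j hj hij => by
    rw [← map_evw]; simp only [Function.comp, ← map_mul, (h i hi).2 j hj hij]⟩

theorem mem_KK {G : Type*} [Group G] {g : ℕ → G} {n i j : ℕ} (h1 : i ≤ j) (h2 : j < n) : g j ∈ KK g n i :=
  subset_closure ⟨j, ⟨h1, h2⟩, rfl⟩

theorem map_KK {G H : Type*} [Group G] [Group H] (f : G →* H) (g : ℕ → G) (n i : ℕ) :
    (KK g n i).map f = KK (f ∘ g) n i := by rw [KK, MonoidHom.map_closure, ← Set.image_comp, KK]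

theorem KK_le {G : Type*} [Group G] {g : ℕ → G} {n i : ℕ} {X : Subgroup G} (h : ∀ j, i ≤ j → j < n → g j ∈ X) :
    KK g n i ≤ X := (closure_le _).2 (by rintro _ ⟨j, hj, rfl⟩; exact h j hj.1 hj.2)

variable {G : Type u} [Group G] {p : ℕ} {A B C D E H K M N O P Q R S T U V W X Y Z A₀ B₀ : Subgroup G}
  {a b c d e g h r s t u v w x y z ξ : G} {i j k l m : ℤ} [Fact p.Prime] [Finite G]

theorem PC.card_le {n : ℕ} {w : ℕ → ℕ → List ℕ} {g : ℕ → G} (h : PC p n w g)
    (hw : ∀ i < n, ∀ j < n, ∀ k ∈ w i j, i < k ∧ k < n) : ∀ k i, i + k = n →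
      IsPGroup p (KK g n i) ∧ Nat.card (KK g n i) ≤ p ^ k
  | 0, i, e => by
    rw [show KK g n i = ⊥ from le_bot_iff.1 (KK_le fun j a b => by omega)]
    exact ⟨IsPGroup.of_bot, by simp⟩
  | k + 1, i, e => by
    obtain ⟨a, b⟩ := PC.card_le h hw k (i + 1) (by omega)
    have c : g i ∈ Nm (KK g n (i + 1)) := mem_normalizer_of_le (S := ⊤) le_top fun x hx =>
      (KK_le fun j d f => by
        have : evw g (w i j) ∈ KK g n (i + 1) := list_prod_mem (by
          simp only [List.mem_map, forall_exists_index, and_imp, forall_apply_eq_imp_iff₂]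
          exact fun k hk => mem_KK (hw i (by omega) j f k hk).1 (hw i (by omega) j f k hk).2)
        have := mul_mem (Subgroup.inv_mem _ this) (mem_KK d f)
        rwa [← mul_inv_cancel_right (g j) (g i), (h i (by omega)).2 j f d, ← mul_assoc, inv_mul_cancel_left] at this :
        KK g n (i + 1) ≤ (KK g n (i + 1)).comap (MulAut.conj (g i)).toMonoidHom) hx
    have d : KK g n i = KK g n (i + 1) ⊔ zpowers (g i) := le_antisymm (KK_le fun j d f =>
      d.eq_or_lt.elim (fun e => e ▸ mem_sup_right (mem_zpowers _)) fun e => mem_sup_left (mem_KK e f))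
      (sup_le (KK_le fun j d f => mem_KK (by omega) f) (zpowers_le.2 (mem_KK le_rfl (by omega))))
    rw [d, card_eq_mul' le_sup_left, pow_succ, sup_comm]
    exact ⟨isPGroup_sup_of_norm (isPGroup_zpowers (k := 1) (by simpa using (h i (by omega)).1)) a (zpowers_le.2 c),
      Nat.mul_le_mul b (sup_comm (KK g n (i + 1)) _ ▸
        relIndex_sup_zpowers_le c ((h i (by omega)).1 ▸ one_mem _))⟩

theorem PC.iso {H : Type} [Group H] [Finite H] {n m : ℕ} {w : ℕ → ℕ → List ℕ} {g : ℕ → G} {h : ℕ → H}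
    (hg : PC p n w g) (hh : PC p n w h) (hw : ∀ i < n, ∀ j < n, ∀ k ∈ w i j, i < k ∧ k < n) (hS : KK g n 0 = S)
    (hc : Nat.card S = p ^ n) (hm : m < n) (hZ : ∀ x ∈ S, x ∈ Cn S → x ≠ 1 → g m ∈ zpowers x) (h1 : h m ≠ 1) :
    Nonempty (S ≃* KK h n 0) := by
  have e1 : (KK (fun i => (g i, h i)) n 0).map (MonoidHom.fst G H) = S := (map_KK _ _ _ _).trans hS
  have e2 : (KK (fun i => (g i, h i)) n 0).map (MonoidHom.snd G H) = KK h n 0 := map_KK _ _ _ _
  obtain ⟨a, b⟩ := PC.card_le (g := fun i => (g i, h i)) (w := w) (fun i hi => ⟨Prod.ext (hg i hi).1 (hh i hi).1,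
    fun j hj hij => Prod.ext (((hg i hi).2 j hj hij).trans (congrArg (· * _)
      (map_evw (MonoidHom.fst G H) (fun i => (g i, h i)) _).symm)) (((hh i hi).2 j hj hij).trans (congrArg (· * _)
      (map_evw (MonoidHom.snd G H) (fun i => (g i, h i)) _).symm))⟩) hw n 0 (zero_add n)
  have c : (g m, h m) ∈ KK (fun i => (g i, h i)) n 0 := mem_KK (Nat.zero_le m) hm
  generalize KK (fun i => (g i, h i)) n 0 = K at *
  have f := ((MonoidHom.fst G H).subgroupMap_surjective K).bijective_of_nat_card_le (by rwa [e1, hc])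
  have k : K ⊓ (MonoidHom.snd G H).ker ≤ ⊥ := by_contra fun d => by
    obtain ⟨x, x1, x2, -, x3⟩ := exists_fix_mod a inf_le_left (fun _ a => norm_inf (le_normalizer a)
      (le_normalizer_of_normal (mem_top _))) le_Nm_bot d
    obtain ⟨k, hk⟩ := hZ x.1 (e1.le (mem_map_of_mem _ x1.1)) (mem_Cn_comm.2 fun y hy => by
      obtain ⟨y, a, rfl⟩ := e1.ge hy
      exact congrArg Prod.fst (mem_bot.1 (comm_symm (x3 y a)))) fun e => x2 (mem_bot.2 (Prod.ext e x1.2))
    have := f.1 (a₁ := ⟨x ^ k, K.zpow_mem x1.1 k⟩) (a₂ := ⟨_, c⟩) (Subtype.ext hk)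
    exact h1 ((congrArg (fun y : K => y.1.2) this).symm.trans ((MonoidHom.snd G H).ker.zpow_mem x1.2 k))
  exact ⟨(MulEquiv.subgroupCongr e1).symm.trans ((MulEquiv.ofBijective _ f).symm.trans
    ((MulEquiv.ofBijective ((MonoidHom.snd G H).subgroupMap K) ⟨(injective_iff_map_eq_one (G := K) _).2 fun x hx =>
      Subtype.ext (mem_bot.1 (k ⟨x.2, congrArg Subtype.val hx⟩)), (MonoidHom.snd G H).subgroupMap_surjective K⟩).trans
        (MulEquiv.subgroupCongr e2)))⟩

theorem eng_aux {X : Type*} [CommGroup X] (hp : p ≠ 2) (f : X →* X) (h1 : ∀ x : X, x ^ p = 1) (h2 : ∀ x, f^[p] x = x)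
    (x : X) : (fun v => v * (f v)⁻¹)^[p] x = 1 := by
  let φ : Module.End ℤ (Additive X) := (MonoidHom.toAdditive f).toIntLinearMap
  obtain ⟨r, hr⟩ := (Commute.one_left (-φ)).exists_add_pow_prime_eq (Fact.out : p.Prime)
  have a : ∀ n (x : X), ((1 + -φ) ^ n) (Additive.ofMul x) = Additive.ofMul ((fun v => v * (f v)⁻¹)^[n] x) := fun n => by
    induction n with
    | zero => exact fun _ => rfl
    | succ n ih => exact fun x => by rw [pow_succ, Function.iterate_succ_apply, ← ih]; rfl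
  have b : ∀ n (x : X), (φ ^ n) (Additive.ofMul x) = Additive.ofMul (f^[n] x) := fun n => by
    induction n with
    | zero => exact fun _ => rfl
    | succ n ih => exact fun x => by rw [pow_succ, Function.iterate_succ_apply, ← ih]; rfl
  have c : (p : Module.End ℤ (Additive X)) = 0 := LinearMap.ext fun x => h1 (Additive.toMul x)
  have d : φ ^ p = 1 := LinearMap.ext fun x => (b p (Additive.toMul x)).trans (congrArg _ (h2 _))
  rw [c, ((Fact.out : p.Prime).odd_of_ne_two hp).neg_pow, d] at hr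
  have := a p x
  rw [hr] at this
  simpa using this.symm

theorem eng_mem (hp : p ≠ 2) (hE : El p B A) (h0 : B ≤ A) (h1 : t ∈ Nm A) (h2 : t ∈ Nm B) (h3 : t ^ p ∈ Tr A B)
    (ha : a ∈ A) : (fun v => ⁅v, t⁆)^[p] a ∈ B := by
  obtain ⟨Q, _, _, π, hπ, hk⟩ := exists_quot B
  have hn := hE.norm h0
  have m := hπ.mono hn
  have s : ∀ y : m.hom.range, ∃ x ∈ A, π x = y := fun ⟨_, x, e⟩ => ⟨x, x.2, e⟩
  have i : ∀ x ∈ A, π x ∈ m.hom.range := fun x hx => ⟨⟨x, hx⟩, rfl⟩
  have cm : ∀ y y' : m.hom.range, y * y' = y' * y := fun y y' => by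
    obtain ⟨x, a, b⟩ := s y
    obtain ⟨x', a', b'⟩ := s y'
    exact Subtype.ext (by
      rw [Subgroup.coe_mul, Subgroup.coe_mul, ← b, ← b']; exact ((quot_comm hπ hk (hn a) (hn a')).1 (hE.1 _ a _ a')).eq)
  letI : CommGroup m.hom.range := { mul_comm := cm }
  let f : m.hom.range →* m.hom.range := ((MulAut.conj (π t)).toMonoidHom.domRestrict _).codRestrict _ fun y => by
    obtain ⟨x, a, b⟩ := s y
    have := i _ (conj_mem_of_norm h1 a)
    rwa [hπ.map_conj h2 (hn a), b] at this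
  have k1 : ∀ (n : ℕ) (y : m.hom.range), (f^[n] y : Q) = π t ^ n * y * (π t ^ n)⁻¹ := fun n y => by
    induction n with
    | zero => simp
    | succ n ih =>
      rw [Function.iterate_succ_apply', pow_succ']
      exact (congrArg (fun z => π t * z * (π t)⁻¹) ih).trans (by group)
  have k2 : ∀ n x, x ∈ A → ∀ y : m.hom.range, π x = y → (fun v => ⁅v, t⁆)^[n] x ∈ A ∧
      π ((fun v => ⁅v, t⁆)^[n] x) = ((fun v => v * (f v)⁻¹)^[n] y :) := fun n => by
    induction n with
    | zero => exact fun x a y b => ⟨a, b⟩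
    | succ n ih => exact fun x a y b => ih _ (comm_mem_left h1 a) _ (by
        rw [hπ.map_comm (hn a) h2, b]
        change _ = y * (π t * y * (π t)⁻¹)⁻¹
        rw [commutatorElement_def]; group)
  obtain ⟨b, c⟩ := k2 p a ha ⟨_, i a ha⟩ rfl
  rw [eng_aux hp f (fun y => ?_) fun y => ?_] at c
  · exact (hk _ (hn b)).1 c
  all_goals obtain ⟨x, a, b⟩ := s y
  · exact Subtype.ext (by rw [Subgroup.coe_pow, ← b, ← hπ.map_pow (hn a)]; exact (hk _ (pow_mem (hn a) p)).2 (hE.2 x a))
  · refine Subtype.ext ?_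
    rw [k1, ← b, ← hπ.map_pow h2, (quot_wt hπ hk (hn a) (pow_mem h2 p)).1 (Tr.wt h3 x a), zpow_one]

/-- the commutator pairing into a central subgroup of order `p` -/
theorem pair_le (hQ : IsPGroup p Q) (hZ : Nat.card Z = p) (h1 : ∀ x ∈ Q, ∀ y ∈ Q, ⁅x, y⁆ ∈ Z) (h2 : Q ≤ Cn Z)
    (h0 : Z ≤ B) (hA : A ≤ Q) (hB : B ≤ Q) : (Cn B).relIndex A ≤ (Cn A).relIndex B := by
  have k : ∀ n X, B ⊓ Cn A ≤ X → X ≤ B → X.relIndex B = n →
      (Cn X).relIndex A ≤ (B ⊓ Cn A).relIndex X → (Cn B).relIndex A ≤ (B ⊓ Cn A).relIndex B := fun n => by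
    induction n using Nat.strong_induction_on with
    | _ n ih =>
    intro X a b c d
    rcases b.eq_or_lt with rfl | e
    · exact d
    have zX : Z ≤ X := (le_inf h0 (Cn_symm (hA.trans h2))).trans a
    have nX : B ≤ Nm X := norm_of_comm b fun x hx y hy => zX (h1 x (hB (b hx)) y (hB hy))
    obtain ⟨Y, f1, f2, f3, -⟩ := exists_line (hQ.to_le hB) (hQ.to_le hB) le_normalizer nX nX e
    obtain ⟨v, hv, hv'⟩ := exists_of_prime f3
    refine ih _ ?_ Y (a.trans f1) f2 rfl ?_
    · rw [← c, idx_mul f1 f2, f3]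
      exact lt_mul_left (Nat.pos_of_ne_zero relIndex_ne_zero') (Fact.out : p.Prime).one_lt
    rw [idx_mul a f1, f3, ← inf_relIndex_left, idx_mul (inf_le_inf_left A (centralizer_le f1)) inf_le_left,
      inf_relIndex_left, mul_comm]
    refine Nat.mul_le_mul d ?_
    rw [← hZ, ← relIndex_bot_left]
    exact idx_le_of_Cm1 le_Nm_bot (fun x hx => h1 x (hA hx.1) v (hB (f2 hv))) fun x hx g => ⟨hx.1, mem_Cn_comm.2
      fun y hy => mem_bot.1 (comm_of_sup le_Nm_bot (sup_zpowers_eq f3 f1 hv hv') (fun _ => bot_of_Cn hx.2)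
        (comm_symm g) hy)⟩
  rw [← inf_relIndex_left B]
  exact k _ _ le_rfl inf_le_left rfl (by rw [relIndex_self, relIndex_eq_one.2 (Cn_symm inf_le_right)])

end CF.FusC
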