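import Cfsg.Agent.FusC.M
import Cfsg.Agent.Geom.Oct0
import Cfsg.Agent.Chev.LTU
import Cfsg.Agent.Classical.LowDim3

/-! Sylow `p`-subgroups of `SL₄(p)`, `SU₄(p)` and `G₂(p)` by generators and relations. -/

set_option autoImplicit false
set_option linter.style.haveILetI false
set_option linter.unusedSectionVars false
set_option linter.unusedVariables false

namespace CF.FusC

open Cfsg Subgroup CF.Fus Matrix CF.Geom

/-- relations for an automorphism with two blocks of size two -/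
def wB (a b c : ℕ) : ℕ → ℕ → List ℕ
  | 0, 1 => [3]
  | 0, 2 => [4]
  | 1, 3 => List.replicate a 5
  | 2, 3 => List.replicate b 5
  | 1, 4 => List.replicate b 5
  | 2, 4 => List.replicate c 5
  | _, _ => []

/-- relations for an automorphism with one block of size four -/
def wG : ℕ → ℕ → List ℕ
  | 0, 2 => [3]
  | 0, 3 => [4]
  | 0, 4 => [1]
  | 1, 2 => [5]
  | 2, 4 => [5]
  | 3, 4 => [5]
  | _, _ => []

theorem w_realize : True := by
  have := @wB.eq_def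
  have := @wG.eq_def
  have := @wB.eq_7
  have := @wG.eq_7
  trivial

theorem wB_ok (a b c : ℕ) : ∀ i < 6, ∀ j < 6, ∀ k ∈ wB a b c i j, i < k ∧ k < 6 := fun i hi j hj k => by
  interval_cases i <;> interval_cases j <;> simp [wB] <;> omega

theorem wG_ok : ∀ i < 6, ∀ j < 6, ∀ k ∈ wG i j, i < k ∧ k < 6 := by decide

variable {p : ℕ} [Fact p.Prime]

theorem unip_pow {F n : Type*} [Field F] [CharP F p] [Fintype n] [DecidableEq n] [Nonempty n] {A : Matrix n n F} {k : ℕ}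
    (h : (A - 1) ^ k = 0) (hk : k ≤ p) : A ^ p = 1 := by
  have := sub_pow_char_of_commute p (Commute.one_right A)
  rwa [pow_eq_zero_of_le hk h, one_pow, eq_comm, sub_eq_zero] at this

theorem syl_of_card {H : Type*} [Group H] [Finite H] {X : Subgroup H} {k m : ℕ} (h : Nat.card X = p ^ k)
    (h1 : Nat.card H = p ^ k * m) (h2 : ¬ p ∣ m) : ∃ P : Sylow p H, (P : Subgroup H) = X := by
  refine sylIn_top_iff.1 (SylIn.of_not_dvd le_top (IsPGroup.of_card h) fun c => h2 ?_)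
  have b := card_eq_mul' (le_top (a := X))
  rw [h, card_top, h1] at b
  rwa [Nat.eq_of_mul_eq_mul_left (pow_pos (Fact.out : p.Prime).pos k) b]

theorem nd_sub {k : ℕ} (hk : k ≠ 0) : ¬ p ∣ p ^ k - 1 := fun c =>
  (Fact.out : p.Prime).one_lt.ne' (Nat.dvd_one.1 ((Nat.dvd_sub_iff_right (Nat.one_le_pow _ _ (Fact.out : p.Prime).pos)
    (dvd_pow_self p hk)).1 c))

/-- generators in `SL₄` -/
def slM : ℕ → Matrix (Fin 4) (Fin 4) ℤ
  | 0 => !![1,0,0,0;0,1,1,0;0,0,1,0;0,0,0,1]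
  | 1 => !![1,1,0,0;0,1,0,0;0,0,1,0;0,0,0,1]
  | 2 => !![1,0,0,0;0,1,0,0;0,0,1,1;0,0,0,1]
  | 3 => !![1,0,1,0;0,1,0,0;0,0,1,0;0,0,0,1]
  | 4 => !![1,0,0,0;0,1,0,-1;0,0,1,0;0,0,0,1]
  | 5 => !![1,0,0,1;0,1,0,0;0,0,1,0;0,0,0,1]
  | _ => 1

theorem slM_ok : ∀ i < 6, (slM i - 1) ^ 2 = 0 ∧ (slM i).det = 1 ∧
    ∀ j < 6, i < j → slM j * slM i = evw slM (wB 0 1 0 i j) * (slM i * slM j) := by decide +kernel

theorem int_pc {n : Type*} [Fintype n] [DecidableEq n] [Nonempty n] {g : ℕ → Matrix n n ℤ} {w : ℕ → ℕ → List ℕ} {k : ℕ}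
    (hk : k ≤ p) (h : ∀ i < 6, (g i - 1) ^ k = 0)
    (h' : ∀ i < 6, ∀ j < 6, i < j → g j * g i = evw g (w i j) * (g i * g j)) :
    PC p 6 w ((Int.castRingHom (ZMod p)).mapMatrix.toMonoidHom ∘ g) := fun i hi =>
  ⟨unip_pow (by
    have := congrArg (Int.castRingHom (ZMod p)).mapMatrix (h i hi)
    rwa [map_pow, map_sub, map_one, map_zero] at this) hk, fun j hj hij => by
    rw [← map_evw]; simp only [Function.comp, ← map_mul, h' i hi j hj hij]⟩

theorem sl_model : ∃ h : ℕ → SpecialLinearGroup (Fin 4) (ZMod p), PC p 6 (wB 0 1 0) h ∧ h 5 ≠ 1 ∧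
    (Nat.card (KK h 6 0) = p ^ 6 → ∃ P : Sylow p (SpecialLinearGroup (Fin 4) (ZMod p)), P = KK h 6 0) := by
  have hp : p.Prime := Fact.out
  have d : ∀ i, (slM i).det = 1 := fun i => (lt_or_ge i 6).elim (fun a => (slM_ok i a).2.1) fun a => by
    obtain ⟨j, rfl⟩ := Nat.exists_eq_add_of_le' a
    exact det_one
  refine ⟨fun i => ⟨(Int.castRingHom (ZMod p)).mapMatrix (slM i), by rw [← RingHom.map_det, d, map_one]⟩,
    PC.of_inj (slToMat 4 _) Subtype.val_injective (int_pc hp.two_le (fun i a => (slM_ok i a).1)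
      fun i a => (slM_ok i a).2.2), fun c => ?_, fun c => syl_of_card c (by
        rw [CF.Classical.card_SL_four, Nat.card_zmod, mul_assoc, mul_assoc]) fun c => ?_⟩
  · simpa [slM] using congrArg (fun A : SpecialLinearGroup (Fin 4) (ZMod p) => A.1 0 3) c
  · rcases (Nat.Prime.dvd_mul hp).1 c with c | c
    · exact nd_sub (by omega) c
    · exact ((Nat.Prime.dvd_mul hp).1 c).elim (nd_sub (by omega)) (nd_sub (by omega))

/-- unitriangular matrices -/
def ut4 {K : Type*} [Field K] (a b c d e f : K) : Matrix (Fin 4) (Fin 4) K := !![1,a,b,c;0,1,d,e;0,0,1,f;0,0,0,1]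

theorem ut4_mul {K : Type*} [Field K] (a b c d e f a' b' c' d' e' f' : K) : ut4 a b c d e f * ut4 a' b' c' d' e' f' =
    ut4 (a + a') (b + a * d' + b') (c + a * e' + b * f' + c') (d + d') (e + d * f' + e') (f + f') := by
  ext i j; fin_cases i <;> fin_cases j <;> simp [ut4, Matrix.mul_apply, Fin.sum_univ_four] <;> ring

theorem ut4_pow {K : Type*} [Field K] [CharP K p] {a b c d e f : K} (h1 : a * d = 0) (h2 : a * e + b * f = 0)
    (h3 : d * f = 0) : ut4 a b c d e f ^ p = 1 := unip_pow (k := 2) (by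
  ext i j; fin_cases i <;> fin_cases j <;> simp [sq, ut4, Matrix.mul_apply, Fin.sum_univ_four, h1, h2, h3])
    (Fact.out : p.Prime).two_le

theorem ut4_mem {K : Type*} [Field K] {φ : K →+* K} {a b c d e f : K} (h1 : φ a = -f) (h2 : φ f = -a) (h3 : φ d = -d)
    (h4 : φ b = -e - φ d * f) (h5 : φ e = -b - φ f * d) (h6 : φ c = -c - φ e * f - φ f * e) :
    (ut4 a b c d e f).det = 1 ∧ ((ut4 a b c d e f).map φ)ᵀ * Chev.revM 4 _ * ut4 a b c d e f = Chev.revM 4 _ := by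
  refine ⟨by simp [ut4, det_succ_row_zero, Fin.sum_univ_succ], ?_⟩
  ext i j; fin_cases i <;> fin_cases j <;> simp [ut4, Matrix.mul_apply, Fin.sum_univ_four, Chev.revM, *] <;> ring

/-- generators in `SU₄` -/
def suM {K : Type*} [Field K] (θ : K) : ℕ → Matrix (Fin 4) (Fin 4) K
  | 0 => ut4 0 0 0 θ 0 0
  | 1 => ut4 1 0 0 0 0 (-1)
  | 2 => ut4 θ 0 0 0 0 θ
  | 3 => ut4 0 θ θ 0 θ 0
  | 4 => ut4 0 (θ ^ 2) (-θ ^ 3) 0 (-θ ^ 2) 0
  | _ => ut4 0 0 (-2 * θ) 0 0 0

theorem ut4_z {K : Type*} [Field K] (c : K) (n : ℕ) : ut4 0 0 c 0 0 0 ^ n = ut4 0 0 (c * n) 0 0 0 := by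
  induction n with
  | zero => ext i j; fin_cases i <;> fin_cases j <;> simp [ut4]
  | succ n ih => rw [pow_succ, ih, ut4_mul]; congr 1 <;> push_cast <;> ring

theorem suM_mem {K : Type*} [Field K] {θ : K} {φ : K →+* K} (h : φ θ = -θ) (i : ℕ) :
    (suM θ i).det = 1 ∧ ((suM θ i).map φ)ᵀ * Chev.revM 4 _ * suM θ i = Chev.revM 4 _ := by
  rcases i with _ | _ | _ | _ | _ | i <;> apply ut4_mem <;> simp [h, map_ofNat] <;> ring

theorem suM_pc {K : Type*} [Field K] [CharP K p] {θ : K} {δ : ℕ} (h : (δ : K) = -θ ^ 2) : PC p 6 (wB 1 0 δ) (suM θ) :=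
  fun i hi => ⟨by interval_cases i <;> apply ut4_pow <;> ring, fun j hj hij => by
    interval_cases i <;> interval_cases j <;> simp only [wB, evw, List.map_replicate, List.prod_replicate, suM, ut4_z, h,
      List.map, List.prod_cons, List.prod_nil, mul_one, one_mul, ut4_mul] <;> congr 1 <;> push_cast <;> ring⟩

theorem su_model (hp : p ≠ 2) {δ : ℕ} (hδ : ¬ IsSquare (-δ : ZMod p)) : ∃ (K : Type) (_ : Field K) (_ : Fintype K),
    Fintype.card K = p ^ 2 ∧ ∃ h : ℕ → SU 4 K p, PC p 6 (wB 1 0 δ) h ∧ h 5 ≠ 1 ∧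
    (Nat.card (KK h 6 0) = p ^ 6 → ∃ P : Sylow p (SU 4 K p), P = KK h 6 0) := by
  have pp : p.Prime := Fact.out
  letI := Fintype.ofFinite (GaloisField p 2)
  have hK : Fintype.card (GaloisField p 2) = p ^ 2 := by rw [← Nat.card_eq_fintype_card, GaloisField.card p 2 two_ne_zero]
  refine ⟨GaloisField p 2, inferInstance, this, hK, ?_⟩
  obtain ⟨φ, h1, -, h2⟩ := exists_conj hK
  obtain ⟨e⟩ := Chev.nonempty_SU_equiv (n := 3) hK h1 h2 (by omega)
  have d0 : (-δ : ZMod p) ≠ 0 := fun c => hδ (c ▸ IsSquare.zero)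
  have d1 : (-δ : ZMod p) ^ (p / 2) = -1 :=
    (ZMod.pow_div_two_eq_neg_one_or_one p d0).resolve_left fun c => hδ ((ZMod.euler_criterion p d0).2 c)
  have d2 : (-δ : GaloisField p 2) ^ (p / 2) = -1 := by simpa using congrArg (algebraMap (ZMod p) (GaloisField p 2)) d1
  obtain ⟨q, hq⟩ := pp.odd_of_ne_two hp
  have q1 : p / 2 = q := by omega
  have c2 : ringChar (GaloisField p 2) ≠ 2 := by rwa [ringChar.eq _ p]
  have t2 : (2 : GaloisField p 2) ≠ 0 := Ring.two_ne_zero c2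
  have d3 : (-δ : GaloisField p 2) ≠ 0 := fun c => by
    rw [c, zero_pow (by have := pp.two_le; omega)] at d2; simp at d2
  obtain ⟨θ, hθ⟩ := (FiniteField.isSquare_iff c2 d3).2 (by
    rw [hK, show p ^ 2 / 2 = p / 2 * (2 * (q + 1)) by rw [q1, hq, show (2 * q + 1) ^ 2 = 1 + 2 * (q * (2 * (q + 1))) by ring]; omega,
      pow_mul, d2, pow_mul]; simp)
  have t1 : φ θ = -θ := by
    rw [h1, congrArg (θ ^ ·) hq, pow_succ, pow_mul, sq, ← hθ, ← q1, d2]; ring
  have t0 : θ ≠ 0 := fun c => d3 (by rw [hθ, c, mul_zero])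
  have a := suM_mem t1
  have b := suM_pc (p := p) (θ := θ) (δ := δ) (by linear_combination -hθ)
  refine ⟨e.toMonoidHom ∘ fun i => ⟨⟨suM θ i, (a i).1⟩, Chev.suσ_eq_iff.2 (a i).2⟩, PC.map _ (PC.of_inj
    ((slToMat 4 _).comp (Subgroup.subtype _)) (Subtype.val_injective.comp Subtype.val_injective) b), fun c => ?_,
    fun c => syl_of_card c (by rw [CF.Classical.card_SU_four hK, mul_assoc, mul_assoc]) fun c => ?_⟩
  · have := congrArg (fun A => A.1.1 0 3) ((map_eq_one_iff _ e.injective).1 c)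
    simp [suM, ut4, t0, t2] at this
  · rcases (Nat.Prime.dvd_mul pp).1 c with c | c
    · exact nd_sub (by omega) c
    · exact ((Nat.Prime.dvd_mul pp).1 c).elim (fun c => pp.one_lt.ne' (Nat.dvd_one.1
        ((Nat.dvd_add_right (dvd_pow_self p (by omega))).1 c))) (nd_sub (by omega))

/-- generators in `G₂` -/
def g2M : ℕ → Matrix (Fin 8) (Fin 8) ℤ
  | 0 => !![1,0,0,0,0,1,0,0;0,1,0,0,0,0,0,0;-1,0,1,0,0,-1,0,1;0,0,0,1,0,0,0,0;0,0,0,-1,1,0,0,0;0,0,0,0,0,1,0,0;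
      0,1,0,0,0,0,1,0;0,0,0,0,0,-1,0,1]
  | 1 => !![1,0,0,0,0,0,0,0;0,1,0,0,0,0,0,0;0,0,1,-36,0,0,0,0;0,0,0,1,0,0,0,0;0,0,0,0,1,0,0,0;0,0,0,0,0,1,0,0;
      0,0,0,0,0,36,1,0;0,0,0,0,0,0,0,1]
  | 2 => !![1,0,0,1,0,0,0,0;0,1,6,0,-6,1,0,0;0,0,1,0,-1,0,0,0;0,0,0,1,0,0,0,0;0,0,0,0,1,0,0,0;0,0,0,0,-6,1,0,0;
      -1,0,0,-1,0,0,1,1;0,0,0,-1,0,0,0,1]
  | 3 => !![1,0,0,6,6,0,0,0;-6,1,0,-18,-36,6,0,6;0,0,1,-3,-6,0,0,0;0,0,0,1,0,0,0,0;0,0,0,0,1,0,0,0;0,0,0,6,0,1,0,0;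
      -6,0,-6,-18,-18,3,1,6;0,0,0,-6,-6,0,0,1]
  | 4 => !![1,0,0,-12,0,0,0,0;0,1,0,108,0,-12,0,0;0,0,1,36,12,0,0,0;0,0,0,1,0,0,0,0;0,0,0,0,1,0,0,0;0,0,0,0,0,1,0,0;
      12,0,0,-144,-108,-36,1,-12;0,0,0,12,0,0,0,1]
  | _ => !![1,0,0,0,0,0,0,0;0,1,0,-216,0,0,0,0;0,0,1,0,0,0,0,0;0,0,0,1,0,0,0,0;0,0,0,0,1,0,0,0;0,0,0,0,0,1,0,0;
      0,0,0,0,216,0,1,0;0,0,0,0,0,0,0,1]

theorem g2M_ok : ∀ i < 6, (g2M i - 1) ^ 3 = 0 ∧
    (∀ k l : Fin 8, g2M i *ᵥ Lie.zornMul (Pi.single k 1) (Pi.single l 1) =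
      Lie.zornMul (g2M i *ᵥ Pi.single k 1) (g2M i *ᵥ Pi.single l 1)) ∧
    ∀ j < 6, i < j → g2M j * g2M i = evw g2M (wG i j) * (g2M i * g2M j) := by decide +kernel

section
variable {F : Type*} [Field F]

theorem g2M_mem {i : ℕ} (hi : i < 6) (x y : Fin 8 → F) {A : Matrix (Fin 8) (Fin 8) F}
    (e : A = (g2M i).map (Int.castRingHom F)) : A *ᵥ Lie.zornMul x y = Lie.zornMul (A *ᵥ x) (A *ᵥ y) := by
  have k := fun k l => congrArg (Int.castRingHom F ∘ ·) ((g2M_ok i hi).2.1 k l)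
  have z : ∀ x y : Fin 8 → ℤ, Int.castRingHom F ∘ Lie.zornMul x y =
      Lie.zornMul (Int.castRingHom F ∘ x) (Int.castRingHom F ∘ y) := fun x y => by
    ext i; fin_cases i <;> simp [Lie.zornMul, Lie.dot3, Lie.cross3]
  have s : ∀ k : Fin 8, Int.castRingHom F ∘ Pi.single k 1 = Pi.single k 1 := fun k => funext fun i => by
    by_cases q : i = k <;> simp [q]
  have m : ∀ v, Int.castRingHom F ∘ (g2M i *ᵥ v) = A *ᵥ (Int.castRingHom F ∘ v) := fun v =>
    funext fun i => by rw [e]; exact RingHom.map_mulVec _ _ v i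
  simp only [z, m, s] at k
  exact LinearMap.congr_fun₂ (LinearMap.ext_basis (Pi.basisFun F _) (Pi.basisFun F _) fun i j => by
    simpa [zm] using k i j : (zm F).compr₂ (mulVecLin A) = (zm F).compl₁₂ (mulVecLin A) (mulVecLin A)) x y

/-- action on the split octonions -/
def g2A (g : Lie.G2 F) : (Fin 8 → F) →ₗ[F] Fin 8 → F := mulVecLin g.1.1

theorem g2A_mul (g h : Lie.G2 F) (x : Fin 8 → F) : g2A (g * h) x = g2A g (g2A h x) := (mulVec_mulVec x g.1.1 h.1.1).symm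

theorem g2A_one (x : Fin 8 → F) : g2A 1 x = x := one_mulVec x

theorem g2A_zm (g : Lie.G2 F) (x y : Fin 8 → F) : g2A g (zm F x y) = zm F (g2A g x) (g2A g y) := g.2 x y

/-- stabilizer of a chamber, acting trivially on it -/
def g2T (F : Type*) [Field F] : Subgroup (Lie.G2 F) where
  carrier := {g | g2A g (Pi.single 6 1) = Pi.single 6 1 ∧ ∃ s : F, g2A g (Pi.single 1 1) = Pi.single 1 1 + s • Pi.single 6 1}
  one_mem' := ⟨g2A_one _, 0, by simp [g2A_one]⟩
  mul_mem' := fun {a b} ⟨a1, s, a2⟩ ⟨b1, t, b2⟩ => ⟨by rw [g2A_mul, b1, a1], s + t, by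
    rw [g2A_mul, b2, map_add, map_smul, a1, a2, add_smul, add_assoc]⟩
  inv_mem' := fun {a} ⟨a1, s, a2⟩ => by
    have b : g2A a⁻¹ (Pi.single 6 1) = Pi.single 6 1 := by rw [← a1, ← g2A_mul, inv_mul_cancel, g2A_one, a1]
    refine ⟨b, -s, ?_⟩
    have := congrArg (g2A a⁻¹) a2
    rw [← g2A_mul, inv_mul_cancel, g2A_one, map_add, map_smul, b] at this
    rw [neg_smul, ← sub_eq_add_neg, eq_sub_iff_add_eq, ← this]

theorem g2T_col {g : Lie.G2 F} {s : F} (h1 : g2A g (Pi.single 6 1) = Pi.single 6 1)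
    (h2 : g2A g (Pi.single 1 1) = Pi.single 1 1 + s • Pi.single 6 1) {x y : Fin 8 → F} (hx : g2A g (Pi.single 2 1) = x)
    (hy : g2A g (Pi.single 3 1) = y) : x = ![0, x 1, 1, 0, 0, 0, x 6, 0] ∧
      y = ![y 0, y 1, y 2, 1, -s, x 1 * s - x 6, y 1 * s - y 0 ^ 2 - y 2 * (x 1 * s - x 6), -y 0] := by
  have a1 := g2A_zm g (Pi.single 2 1) (Pi.single 6 1)
  have a2 := g2A_zm g (Pi.single 6 1) (Pi.single 2 1)
  have a3 := g2A_zm g (Pi.single 1 1) (Pi.single 2 1)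
  have a4 := g2A_zm g (zm F (Pi.single 6 1) (Pi.single 3 1)) (Pi.single 6 1)
  have a5 := g2A_zm g (Pi.single 3 1) (Pi.single 3 1)
  have a6 := congrArg₂ (· + ·) (g2A_zm g (Pi.single 1 1) (Pi.single 3 1)) (g2A_zm g (Pi.single 3 1) (Pi.single 1 1))
  have a7 := congrArg₂ (· + ·) (g2A_zm g (Pi.single 2 1) (Pi.single 3 1)) (g2A_zm g (Pi.single 3 1) (Pi.single 2 1))
  rw [show zm F (Pi.single 2 1) (Pi.single 6 1) = 0 by ext i; fin_cases i <;> simp [zm_apply], map_zero] at a1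
  rw [show zm F (Pi.single 6 1) (Pi.single 2 1) = 0 by ext i; fin_cases i <;> simp [zm_apply], map_zero] at a2
  rw [show zm F (Pi.single 1 1) (Pi.single 2 1) = Pi.single 6 1 by ext i; fin_cases i <;> simp [zm_apply]] at a3
  rw [g2A_zm g (Pi.single 6 1), show zm F (zm F (Pi.single 6 1) (Pi.single 3 1)) (Pi.single 6 1) = Pi.single 6 1 by
    ext i; fin_cases i <;> simp [zm_apply]] at a4
  rw [show zm F (Pi.single 3 1) (Pi.single 3 1) = 0 by ext i; fin_cases i <;> simp [zm_apply], map_zero] at a5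
  rw [← map_add, show zm F (Pi.single 1 1) (Pi.single 3 1) + zm F (Pi.single 3 1) (Pi.single 1 1) = 0 by
    ext i; fin_cases i <;> simp [zm_apply], map_zero] at a6
  rw [← map_add, show zm F (Pi.single 2 1) (Pi.single 3 1) + zm F (Pi.single 3 1) (Pi.single 2 1) = 0 by
    ext i; fin_cases i <;> simp [zm_apply], map_zero] at a7
  simp only [h1, h2, hx, hy, zm_apply] at a1 a2 a3 a4 a5 a6 a7
  have b1 : x 3 = 0 := by simpa using (congrFun a1 0).symm
  have b2 : x 5 = 0 := by simpa using congrFun a1 1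
  have b3 : x 4 = 0 := by simpa using (congrFun a1 2).symm
  have b4 : x 7 = 0 := by simpa using (congrFun a1 6).symm
  have b5 : x 0 = 0 := by simpa using (congrFun a2 6).symm
  have b6 : x 2 = 1 := by simpa [b5] using (congrFun a3 6).symm
  have c1 : y 3 = 1 := by simpa using (congrFun a4 6).symm
  have c2 := congrFun a5 3
  have c3 := congrFun a5 0
  have c4 := congrFun a6 0
  have c5 := congrFun a7 0
  simp [b1, b2, b3, b4, b5, b6, c1] at c2 c3 c4 c5
  have d1 : y 4 = -s := by linear_combination -c4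
  have d2 : y 5 = x 1 * s - x 6 := by rw [d1] at c5; linear_combination -c5
  refine ⟨?_, ?_⟩ <;> ext i <;> fin_cases i <;> simp [*]
  · rw [d1, d2] at c3; linear_combination -c3
  · linear_combination -c2

theorem g2T_card [Finite F] : Nat.card (g2T F) ≤ Nat.card F ^ 6 := by
  rw [← Nat.card_fin 6, ← Nat.card_fun]
  refine Nat.card_le_card_of_injective (fun g => ![g2A g.1 (Pi.single 1 1) 6, g2A g.1 (Pi.single 2 1) 1,
    g2A g.1 (Pi.single 2 1) 6, g2A g.1 (Pi.single 3 1) 0, g2A g.1 (Pi.single 3 1) 1, g2A g.1 (Pi.single 3 1) 2])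
    fun ⟨g, g1, s, g2⟩ ⟨h, h1, t, h2⟩ e => ?_
  obtain ⟨a, b⟩ := g2T_col g1 g2 rfl rfl
  obtain ⟨c, d⟩ := g2T_col h1 h2 rfl rfl
  simp only [g2, h2, Matrix.vecCons_inj] at e
  obtain ⟨e0, e1, e2, e3, e4, e5, -⟩ := e
  obtain rfl : s = t := by simpa using e0
  rw [e1, e2, ← c] at a
  rw [e1, e2, e3, e4, e5, ← d] at b
  have k1 := g2.trans h2.symm
  have k : ∀ i j k : Fin 8, g2A g (Pi.single i 1) = g2A h (Pi.single i 1) → g2A g (Pi.single j 1) = g2A h (Pi.single j 1) →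
      zm F (Pi.single i 1) (Pi.single j 1) = Pi.single k 1 → g2A g (Pi.single k 1) = g2A h (Pi.single k 1) :=
    fun i j k a b c => by rw [← c, g2A_zm, g2A_zm, a, b]
  have k4 := k 2 3 4 a b (by ext i; fin_cases i <;> simp [zm_apply])
  have : ∀ i, g2A g (Pi.single i 1) = g2A h (Pi.single i 1) := fun i => by
    fin_cases i
    exacts [k 1 4 0 k1 k4 (by ext i; fin_cases i <;> simp [zm_apply]), k1, a, b, k4,
      k 3 1 5 b k1 (by ext i; fin_cases i <;> simp [zm_apply]), g1.trans h1.symm,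
      k 4 1 7 k4 k1 (by ext i; fin_cases i <;> simp [zm_apply])]
  exact Subtype.ext (Subtype.ext (Units.ext (Matrix.ext fun i j => by simpa [g2A] using congrFun (this j) i)))

end

theorem g2_model (hp : 5 ≤ p) : ∃ h : ℕ → Lie.G2 (ZMod p), PC p 6 wG h ∧ h 5 ≠ 1 ∧
    (Nat.card (KK h 6 0) = p ^ 6 → ∃ P : Sylow p (Lie.G2 (ZMod p)), P = KK h 6 0) := by
  have pp : p.Prime := Fact.out
  have pc := int_pc (p := p) (by omega) (fun i a => (g2M_ok i a).1) fun i a => (g2M_ok i a).2.2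
  have h6 : (6 : ZMod p) ≠ 0 := fun c => by
    have a := (ZMod.natCast_eq_zero_iff 6 p).1 c
    have := Nat.le_of_dvd (by omega) a
    interval_cases p
    · exact absurd a (by decide)
    · exact absurd pp (by decide)
  obtain ⟨h, hh⟩ : ∃ h : ℕ → Lie.G2 (ZMod p), ∀ i, (h i).1.1 = (g2M i).map (Int.castRingHom (ZMod p)) :=
    ⟨fun i => ⟨Units.ofPowEqOne _ p (pc (min i 5) (by omega)).1 pp.ne_zero, fun x y => g2M_mem (i := min i 5) (by omega) x y rfl⟩,
      fun i => by rcases i with _ | _ | _ | _ | _ | i <;> simp [g2M]⟩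
  refine ⟨h, PC.of_inj ((Units.coeHom _).comp (Subgroup.subtype _)) (Units.val_injective.comp Subtype.val_injective)
    (by convert pc using 1; exact funext hh), fun c => h6 ?_, fun c => ?_⟩
  · have := congrFun₂ (hh 5) 6 4
    rw [c] at this
    exact pow_eq_zero_iff (n := 3) (by omega) |>.1 (by simpa [g2M, show (6 : ZMod p) ^ 3 = 216 by norm_num] using this.symm)
  have u : KK h 6 0 ≤ g2T _ := KK_le fun j _ b => ⟨by
    ext i; interval_cases j <;> fin_cases i <;> simp [g2A, hh, g2M], (g2M j).map (Int.castRingHom (ZMod p)) 6 1, by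
    ext i; interval_cases j <;> fin_cases i <;> simp [g2A, hh, g2M]⟩
  obtain ⟨P, hP⟩ := (IsPGroup.of_card c).exists_le_sylow
  refine ⟨P, by_contra fun d => (lt_NS P.isPGroup' (lt_of_le_of_ne hP (Ne.symm d))).not_ge
    (fun g hg => (eq_of_le_of_card_ge u (by rw [c]; simpa using g2T_card (F := ZMod p))).ge ?_)⟩
  obtain ⟨n, hn⟩ := isPGroup_iff_mem.1 P.isPGroup' g hg.1
  have k : ∀ i < 6, ∀ x, g2A (h i) (g2A g x) = g2A g (g2A (g⁻¹ * h i * g) x) := fun i a x => by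
    rw [← g2A_mul, ← g2A_mul]; group
  have m := fun i (a : i < 6) => u (conj_mem_of_norm' hg.2 (mem_KK (Nat.zero_le i) a))
  have f : ∀ x : Fin 8 → ZMod p, zm _ x x = 0 → (∀ i < 6, ∃ s : ZMod p, g2A (h i) (g2A g x) = g2A g x + s • Pi.single 6 1) →
      g2A g x = g2A g x 1 • Pi.single 1 1 + g2A g x 6 • Pi.single 6 1 := fun x a b => by
    have a1 := congrFun (g2A_zm g x x) 0
    rw [a, map_zero, zm_apply] at a1
    generalize g2A g x = y at *
    obtain ⟨s, a2⟩ := b 0 (by omega)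
    obtain ⟨t, a3⟩ := b 2 (by omega)
    have b5 : y 5 = 0 := by simpa [g2A, hh, g2M, mulVec, dotProduct, Fin.sum_univ_eight] using congrFun a2 0
    have b3 : y 3 = 0 := by simpa [g2A, hh, g2M, mulVec, dotProduct, Fin.sum_univ_eight] using congrFun a2 4
    have b4 : y 4 = 0 := by simpa [g2A, hh, g2M, mulVec, dotProduct, Fin.sum_univ_eight] using congrFun a3 2
    have b2 : y 2 = 0 := by simpa [g2A, hh, g2M, mulVec, dotProduct, Fin.sum_univ_eight, b4, b5, h6] using congrFun a3 1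
    have b0 : y 0 = 0 := by simpa [b3, b4, b5] using a1.symm
    have b7 : y 7 = 0 := by simpa [g2A, hh, g2M, mulVec, dotProduct, Fin.sum_univ_eight, b0, b5] using congrFun a2 2
    ext i; fin_cases i <;> simp [*]
  have f6 := f (Pi.single 6 1) (by ext i; fin_cases i <;> simp [zm_apply]) fun i a => ⟨0, by simp [k i a, (m i a).1]⟩
  have f0 : g2A g (Pi.single 6 1) 1 = 0 := by
    have := (k 0 (by omega) _).trans (congrArg _ (m 0 (by omega)).1)
    generalize g2A g (Pi.single 6 1) = y at *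
    simpa [g2A, hh, g2M, mulVec, dotProduct, Fin.sum_univ_eight] using congrFun this 6
  rw [f0, zero_smul, zero_add] at f6
  generalize g2A g (Pi.single 6 1) 6 = l at f6
  have e6 : ∀ n : ℕ, g2A (g ^ n) (Pi.single 6 1) = l ^ n • Pi.single 6 1 := fun n => by
    induction n with
    | zero => simp [g2A_one]
    | succ n ih => rw [pow_succ', g2A_mul, ih, map_smul, f6, smul_smul, pow_succ]
  obtain rfl : l = 1 := by simpa [hn, g2A_one, ZMod.pow_card_pow] using (congrFun (e6 (p ^ n)) 6).symm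
  rw [one_smul] at f6
  have f1 := f (Pi.single 1 1) (by ext i; fin_cases i <;> simp [zm_apply]) fun i a =>
    (m i a).2.imp fun s b => by rw [k i a, b, map_add, map_smul, f6]
  generalize g2A g (Pi.single 1 1) 1 = l at f1
  have e1 : ∀ n : ℕ, ∃ s : ZMod p, g2A (g ^ n) (Pi.single 1 1) = l ^ n • Pi.single 1 1 + s • Pi.single 6 1 := fun n => by
    induction n with
    | zero => exact ⟨0, by simp [g2A_one]⟩
    | succ n ih => exact ih.elim fun s ih => ⟨_, by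
        rw [pow_succ', g2A_mul, ih, map_add, map_smul, map_smul, f6, f1, smul_add, smul_smul, smul_smul, add_assoc,
          ← add_smul, pow_succ]⟩
  obtain ⟨s, e⟩ := e1 (p ^ n)
  obtain rfl : l = 1 := by simpa [hn, g2A_one, ZMod.pow_card_pow] using (congrFun e 1).symm
  exact ⟨f6, _, by rwa [one_smul] at f1⟩

end CF.FusC
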