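import Cfsg.Agent.FusC.N
import Cfsg.Agent.FusC.K

/-! `p`-groups with an extraspecial subgroup of index `p`. -/

set_option autoImplicit false
set_option linter.style.haveILetI false
set_option linter.unusedSectionVars false
set_option linter.unusedVariables false

namespace CF.FusC

open Cfsg Subgroup CF.Fus
open scoped commutatorElement

universe u

variable {G : Type u} [Group G] {p : ℕ} {A B C D E H K M N O P Q R S T U V W X Y Z : Subgroup G}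
  {a b c d e g k r s t u v w x y z : G} {i j l m : ℤ} {f : G → ZMod p}

/-- an extraspecial subgroup `Q` of index `p` with centre `Z`, and a logarithm on `Z` -/
structure XS (p : ℕ) (S Q Z : Subgroup G) (f : G → ZMod p) : Prop where
  pg : IsPGroup p S
  le : Q ≤ S
  idx : Q.relIndex S = p
  cz : Nat.card Z = p
  eq : Q ⊓ Cn Q = Z
  el : El p Z Q
  zs : S ⊓ Cn S = Z
  fm : ∀ a ∈ Z, ∀ b ∈ Z, f (a * b) = f a + f b
  fi : ∀ a ∈ Z, f a = 0 → a = 1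

theorem comm_mul_l (u v t : G) : ⁅u * v, t⁆ = ⁅u, ⁅v, t⁆⁆ * (⁅v, t⁆ * ⁅u, t⁆) := by
  simp only [commutatorElement_def]; group

theorem eq_mul_of_comm (h : ⁅a, b⁆ = c) : a * b = c * (b * a) := by rw [← h, commutatorElement_def]; group

variable [Fact p.Prime] [Finite G]

theorem exists_log (h : Nat.card Z = p) : ∃ f : G → ZMod p, (∀ a ∈ Z, ∀ b ∈ Z, f (a * b) = f a + f b) ∧
    ∀ a ∈ Z, f a = 0 → a = 1 := by
  classical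
  obtain ⟨e⟩ : Nonempty (Z ≃* Multiplicative (ZMod p)) := ⟨mulEquivOfPrimeCardEq h (by simp)⟩
  refine ⟨fun a => if c : a ∈ Z then (e ⟨a, c⟩).toAdd else 0, fun a ha b hb => ?_, fun a ha c => ?_⟩
  · simp only [ha, hb, mul_mem ha hb, dite_true]
    rw [← toAdd_mul, ← map_mul]; rfl
  · simp only [ha, dite_true] at c
    exact congrArg Subtype.val ((map_eq_one_iff e e.injective).1 c)

theorem eq_of_chain (hQ : IsPGroup p Q) (hi : Z.relIndex Q ≤ p ^ 4) (h1 : Z < A) (h2 : A < B) (h3 : B < C) (h4 : C < D)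
    (h5 : D ≤ Q) : D = Q := by_contra fun c => by
  have h6 := lt_of_le_of_ne h5 c
  have c4 := h4.le.trans h5
  have c3 := h3.le.trans c4
  rw [idx_mul h1.le (h2.le.trans c3), idx_mul h2.le c3, idx_mul h3.le c4, idx_mul h4.le h5] at hi
  have := (Nat.mul_le_mul (le_idx (hQ.to_le (h2.le.trans c3)) h1) (Nat.mul_le_mul (le_idx (hQ.to_le c3) h2)
    (Nat.mul_le_mul (le_idx (hQ.to_le c4) h3) (Nat.mul_le_mul (le_idx (hQ.to_le h5) h4) (le_idx hQ h6))))).trans hi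
  rw [show p * (p * (p * (p * p))) = p ^ 5 by ring] at this
  exact absurd ((Nat.pow_le_pow_iff_right (Fact.out : p.Prime).one_lt).1 this) (by omega)

theorem lt_sup_zp (h : x ∉ A) : A < A ⊔ zpowers x :=
  lt_of_le_not_ge le_sup_left fun c => h (c (mem_sup_right (mem_zpowers x)))

theorem mem_Cn_sup (h1 : g ∈ Cn A) (h2 : ⁅x, g⁆ = 1) : g ∈ Cn (A ⊔ zpowers x) :=
  mem_Cn_comm.2 fun y hy => mem_bot.1 (comm_of_sup le_Nm_bot rfl (fun _ => bot_of_Cn h1) (mem_bot.2 h2) hy)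

namespace XS

theorem zq (h : XS p S Q Z f) : Z ≤ Q := h.eq.ge.trans inf_le_left
theorem cS (h : XS p S Q Z f) : S ≤ Cn Z := Cn_symm (h.zs.ge.trans inf_le_right)
theorem nQ (h : XS p S Q Z f) : S ≤ Nm Q := norm_of_prime h.pg h.le h.idx
theorem nZ (h : XS p S Q Z f) : S ≤ Nm Z := h.cS.trans Cn_le_Nm
theorem pgQ (h : XS p S Q Z f) : IsPGroup p Q := h.pg.to_le h.le
theorem pgZ (h : XS p S Q Z f) : IsPGroup p Z := h.pgQ.to_le h.zq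
theorem i0 (h : XS p S Q Z f) : (⊥ : Subgroup G).relIndex Z = p := by rw [relIndex_bot_left, h.cz]
theorem chZ (h : XS p S Q Z f) (hk : k ∈ Nm S) : k ∈ Nm Z := h.zs ▸ norm_inf hk (norm_Cn hk)
theorem cq (h : XS p S Q Z f) (hx : x ∈ Q) (ht : t ∈ S) : ⁅x, t⁆ ∈ Q := comm_mem_left (h.nQ ht) hx
theorem zl (h : XS p S Q Z f) (hx : x ∈ Z) (ht : t ∈ S) : ⁅x, t⁆ = 1 := mem_Cn_comm.1 (h.cS ht) x hx
theorem zr (h : XS p S Q Z f) (hx : x ∈ Z) (ht : t ∈ S) : ⁅t, x⁆ = 1 :=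
  mem_bot.1 (comm_symm (mem_bot.2 (h.zl hx ht)))
theorem zp (h : XS p S Q Z f) (hx : x ∈ Z) : x ^ p = 1 := mem_bot.1 (pow_mem_of_prime le_Nm_bot h.i0 hx)
theorem zgen (h : XS p S Q Z f) (hx : x ∈ Z) (h1 : x ≠ 1) : zpowers x = Z :=
  (bot_sup_eq _).symm.trans (sup_zpowers_eq h.i0 bot_le hx (mt mem_bot.1 h1))
theorem f1 (h : XS p S Q Z f) : f 1 = 0 := by simpa using h.fm 1 (one_mem _) 1 (one_mem _)
theorem finv (h : XS p S Q Z f) (ha : a ∈ Z) : f a⁻¹ = -f a := by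
  have := h.fm _ (Z.inv_mem ha) a ha
  rw [inv_mul_cancel, h.f1] at this; linear_combination -this
theorem fpow (h : XS p S Q Z f) (ha : a ∈ Z) (n : ℕ) : f (a ^ n) = n * f a := by
  induction n with
  | zero => simp [h.f1]
  | succ n ih => rw [pow_succ, h.fm _ (pow_mem ha n) a ha, ih]; push_cast; ring
theorem ext (h : XS p S Q Z f) (ha : a ∈ Z) (hb : b ∈ Z) (e : f a = f b) : a = b :=
  inv_mul_eq_one.1 (h.fi _ (mul_mem (Z.inv_mem ha) hb) (by rw [h.fm _ (Z.inv_mem ha) b hb, h.finv ha, e]; ring))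
theorem one (h : XS p S Q Z f) (hx : x ∈ Q) (hy : y ∈ Q) : ⁅x, y⁆ = 1 ↔ f ⁅x, y⁆ = 0 :=
  ⟨fun e => e ▸ h.f1, h.fi _ (h.el.1 x hx y hy)⟩
theorem cz' (h : XS p S Q Z f) (hx : x ∈ Z) (ht : t ∈ S) : Commute x t :=
  commutatorElement_eq_one_iff_commute.1 (h.zl hx ht)
theorem anti (h : XS p S Q Z f) (hx : x ∈ Q) (hy : y ∈ Q) : f ⁅x, y⁆ = -f ⁅y, x⁆ := by
  rw [← commutatorElement_inv, h.finv (h.el.1 y hy x hx)]
theorem ml (h : XS p S Q Z f) (hx : x ∈ Q) (hy : y ∈ Q) (hv : v ∈ Q) : f ⁅x * y, v⁆ = f ⁅x, v⁆ + f ⁅y, v⁆ := by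
  rw [comm_mul_l, h.zr (h.el.1 y hy v hv) (h.le hx), one_mul, h.fm _ (h.el.1 y hy v hv) _ (h.el.1 x hx v hv), add_comm]
theorem mr (h : XS p S Q Z f) (hx : x ∈ Q) (hy : y ∈ Q) (hv : v ∈ Q) : f ⁅v, x * y⁆ = f ⁅v, x⁆ + f ⁅v, y⁆ := by
  rw [h.anti hv (mul_mem hx hy), h.ml hx hy hv, h.anti hv hx, h.anti hv hy]; ring
theorem pl (h : XS p S Q Z f) (hx : x ∈ Q) (hv : v ∈ Q) (n : ℕ) : f ⁅x ^ n, v⁆ = n * f ⁅x, v⁆ := by
  induction n with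
  | zero => simp [h.f1]
  | succ n ih => rw [pow_succ, h.ml (pow_mem hx n) hx hv, ih]; push_cast; ring
theorem pr (h : XS p S Q Z f) (hx : x ∈ Q) (hv : v ∈ Q) (n : ℕ) : f ⁅v, x ^ n⁆ = n * f ⁅v, x⁆ := by
  rw [h.anti hv (pow_mem hx n), h.pl hx hv, h.anti hv hx]; ring
theorem il (h : XS p S Q Z f) (hx : x ∈ Q) (hv : v ∈ Q) : f ⁅x⁻¹, v⁆ = -f ⁅x, v⁆ := by
  have := h.ml (Q.inv_mem hx) hx hv
  rw [inv_mul_cancel, commutatorElement_one_left, h.f1] at this; linear_combination -this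
theorem ir (h : XS p S Q Z f) (hx : x ∈ Q) (hv : v ∈ Q) : f ⁅v, x⁻¹⁆ = -f ⁅v, x⁆ := by
  rw [h.anti hv (Q.inv_mem hx), h.il hx hv, h.anti hv hx]
theorem self (h : XS p S Q Z f) : f ⁅x, x⁆ = 0 := by rw [commutatorElement_self, h.f1]
theorem z0 (h : XS p S Q Z f) (hx : x ∈ Z) (ht : t ∈ Q) : f ⁅x, t⁆ = 0 := by rw [h.zl hx (h.le ht), h.f1]
theorem z0' (h : XS p S Q Z f) (hx : x ∈ Z) (ht : t ∈ Q) : f ⁅t, x⁆ = 0 := by rw [h.zr hx (h.le ht), h.f1]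

theorem inv (h : XS p S Q Z f) (ht : t ∈ S) (hu : u ∈ Q) (hv : v ∈ Q) :
    f ⁅⁅u, t⁆, ⁅v, t⁆⁆ = f ⁅⁅u, t⁆, v⁆ + f ⁅u, ⁅v, t⁆⁆ := by
  have a := conj_comm t u v
  have b := h.cq hu ht
  have c := h.cq hv ht
  rw [mem_Cn.1 (h.cS ht) _ (h.el.1 u hu v hv), show t * u * t⁻¹ = ⁅u, t⁆⁻¹ * u by
    simp only [commutatorElement_def]; group, show t * v * t⁻¹ = ⁅v, t⁆⁻¹ * v by
    simp only [commutatorElement_def]; group] at a
  have := congrArg f a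
  rw [h.ml (Q.inv_mem b) hu (mul_mem (Q.inv_mem c) hv), h.il b (mul_mem (Q.inv_mem c) hv), h.mr (Q.inv_mem c) hv b,
    h.mr (Q.inv_mem c) hv hu, h.ir c b, h.ir c hu] at this
  linear_combination -this

/-- the form `(u, v) ↦ ⁅⁅u, t⁆, v⁆` is additive in `u` -/
theorem nl (h : XS p S Q Z f) (ht : t ∈ S) (hx : x ∈ Q) (hy : y ∈ Q) (hv : v ∈ Q) :
    f ⁅⁅x * y, t⁆, v⁆ = f ⁅⁅x, t⁆, v⁆ + f ⁅⁅y, t⁆, v⁆ := by
  have a := h.cq hx ht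
  have b := h.cq hy ht
  rw [comm_mul_l, h.ml (h.zq (h.el.1 _ hx _ b)) (mul_mem b a) hv, h.z0 (h.el.1 _ hx _ b) hv, h.ml b a hv]; ring

theorem np (h : XS p S Q Z f) (ht : t ∈ S) (hx : x ∈ Q) (hv : v ∈ Q) (n : ℕ) :
    f ⁅⁅x ^ n, t⁆, v⁆ = n * f ⁅⁅x, t⁆, v⁆ := by
  induction n with
  | zero => simp [h.f1]
  | succ n ih => rw [pow_succ, h.nl ht (pow_mem hx n) hx hv, ih]; push_cast; ring

theorem perp (h : XS p S Q Z f) (h1 : Z ≤ U) (h2 : U ≤ Q) : (Cn U).relIndex Q = Z.relIndex U := by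
  have c := h.le.trans h.cS
  rw [← show U ⊓ Cn Q = Z from le_antisymm ((inf_le_inf_right _ h2).trans h.eq.le)
    (le_inf h1 (h.eq.ge.trans inf_le_right)), inf_relIndex_left]
  exact le_antisymm (pair_le h.pgQ h.cz h.el.1 c h1 le_rfl h2) (pair_le h.pgQ h.cz h.el.1 c h.zq h2 le_rfl)

theorem cl2 (h : XS p S Q Z f) : Cl2 p ⊥ Q := cl2_of_mid le_Nm_bot h.el.1 (fun _ a => mem_bot.2 (h.zp a))
  fun _ a _ b => mem_bot.2 (h.zl a (h.le b))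

theorem gen (h : XS p S Q Z f) (ht : t ∈ S) (ht' : t ∉ Q) {g : ℕ → G} (h0 : g 0 = t) (h1 : ∀ i < 6, g i ∈ S)
    (h2 : Q ≤ KK g 6 0) : KK g 6 0 = S :=
  le_antisymm (KK_le fun j _ => h1 j) (le_of_prime h.idx h.le h2 ht ht' (h0 ▸ mem_KK le_rfl (by omega)))

theorem iso (h : XS p S Q Z f) {H : Type} [Group H] [Finite H] {w : ℕ → ℕ → List ℕ} {g : ℕ → G} {k : ℕ → H}
    (hw : ∀ i < 6, ∀ j < 6, ∀ k ∈ w i j, i < k ∧ k < 6) (hc : Nat.card S = p ^ 6)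
    (hg : PC p 6 w g ∧ KK g 6 0 = S ∧ g 5 ∈ Z) (hk : PC p 6 w k ∧ k 5 ≠ 1 ∧
      (Nat.card (KK k 6 0) = p ^ 6 → ∃ P : Sylow p H, P = KK k 6 0)) : ∃ P : Sylow p H, Nonempty (S ≃* P) := by
  obtain ⟨e⟩ := hg.1.iso hk.1 hw hg.2.1 hc (by omega : 5 < 6)
    (fun x a b c => (h.zgen (h.zs.le ⟨a, b⟩) c).ge hg.2.2) hk.2.1
  obtain ⟨P, hP⟩ := hk.2.2 ((Nat.card_congr e.toEquiv).symm.trans hc)
  exact ⟨P, ⟨e.trans (MulEquiv.subgroupCongr hP.symm)⟩⟩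

theorem gen4 (h : XS p S Q Z f) (hi : Z.relIndex Q ≤ p ^ 4) (ha : a ∈ Q) (hb : b ∈ Q) (hc : c ∈ Q) (hd : d ∈ Q)
    (h1 : ⁅a, b⁆ = 1) (h2 : ⁅a, c⁆ ≠ 1) (h3 : ⁅b, d⁆ ≠ 1) (h4 : ⁅a, d⁆ = 1) (h5 : ⁅c, b⁆ = 1) :
    Z ⊔ zpowers a ⊔ zpowers b ⊔ zpowers c ⊔ zpowers d = Q := by
  have k := fun x (hx : x ∈ Q) => h.cS (h.le hx)
  refine eq_of_chain h.pgQ hi (lt_sup_zp fun e => h2 (h.zl e (h.le hc))) (lt_sup_zp fun e => h3
    (mem_Cn_comm.1 (mem_Cn_sup (k d hd) h4) _ e)) (lt_sup_zp fun e => h2 ?_) (lt_sup_zp fun e => h3 ?_)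
    (sup_le (sup_le (sup_le (sup_le h.zq (zpowers_le.2 ha)) (zpowers_le.2 hb)) (zpowers_le.2 hc)) (zpowers_le.2 hd))
  · exact mem_bot.1 (comm_symm (bot_of_Cn (mem_Cn_sup (mem_Cn_sup (k a ha) (commutatorElement_self a))
      (mem_bot.1 (comm_symm (mem_bot.2 h1)))) e))
  · exact mem_bot.1 (comm_symm (bot_of_Cn (mem_Cn_sup (mem_Cn_sup (mem_Cn_sup (k b hb) h1)
      (commutatorElement_self b)) h5) e))

theorem pcB (h : XS p S Q Z f) (he : ∀ x ∈ Q, x ^ p = 1) (ht : t ∈ S) (ht' : t ∉ Q) (tp : t ^ p = 1) (ha : a ∈ Q)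
    (hb : b ∈ Q) (hz : z ∈ Z) (h1 : ⁅⁅a, t⁆, t⁆ = 1) (h2 : ⁅⁅b, t⁆, t⁆ = 1) (h3 : ⁅b, a⁆ = 1) {α β γ : ℕ}
    (f1 : f ⁅⁅a, t⁆, a⁆ = α * f z) (f2 : f ⁅⁅a, t⁆, b⁆ = β * f z) (f3 : f ⁅⁅b, t⁆, b⁆ = γ * f z)
    (hg : ∀ K, z ∈ K → a ∈ K → b ∈ K → ⁅a, t⁆ ∈ K → ⁅b, t⁆ ∈ K → Q ≤ K) :
    ∃ g, PC p 6 (wB α β γ) g ∧ KK g 6 0 = S ∧ g 5 ∈ Z := by
  have c := h.cq ha ht
  have d := h.cq hb ht
  have e1 := h.inv ht c hb
  have e2 := h.inv ht ha hb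
  rw [h1, commutatorElement_one_left, commutatorElement_one_left, h.f1, zero_add] at e1
  rw [← e1, h.anti ha d, f2] at e2
  have k : ∀ {x y : G} {n : ℕ}, x ∈ Q → y ∈ Q → f ⁅x, y⁆ = n * f z → x * y = z ^ n * (y * x) := fun a b c =>
    eq_mul_of_comm (h.ext (h.el.1 _ a _ b) (pow_mem hz _) (c.trans (h.fpow hz _).symm))
  have k0 : ∀ {x : G}, x ∈ S → z * x = x * z := fun a => (h.cz' hz a).eq
  have k1 : ∀ {x y : G}, ⁅x, y⁆ = 1 → x * y = y * x := commutatorElement_eq_one_iff_mul_comm.1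
  let g : ℕ → G := fun | 0 => t | 1 => a | 2 => b | 3 => ⁅a, t⁆ | 4 => ⁅b, t⁆ | _ => z
  have m : ∀ i < 6, i ≠ 0 → g i ∈ Q := fun i hi => by interval_cases i <;> simp [g, ha, hb, c, d, h.zq hz]
  refine ⟨g, fun i hi => ⟨if e : i = 0 then e ▸ tp else he _ (m i hi e), fun j hj hij => ?_⟩, h.gen ht ht' rfl
    (fun i hi => if e : i = 0 then e ▸ ht else h.le (m i hi e)) (hg _ (mem_KK (j := 5) (by omega) (by omega))
      (mem_KK (j := 1) (by omega) (by omega)) (mem_KK (j := 2) (by omega) (by omega))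
      (mem_KK (j := 3) (by omega) (by omega)) (mem_KK (j := 4) (by omega) (by omega))), hz⟩
  interval_cases i <;> interval_cases j <;>
    simp only [g, wB, evw, List.map_replicate, List.prod_replicate, List.map, List.prod_cons, List.prod_nil, mul_one,
      one_mul]
  exacts [eq_mul_of_comm rfl, eq_mul_of_comm rfl, k1 h1, k1 h2, k0 ht, k1 h3, k c ha f1,
    k d ha (by linear_combination e2), k0 (h.le ha), k c hb f2, k d hb f3, k0 (h.le hb),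
    k1 ((h.one d c).2 (by rw [h.anti d c, ← e1, neg_zero])), k0 (h.le c), k0 (h.le d)]

theorem relG (h : XS p S Q Z f) (ht : t ∈ S) (hx : x ∈ Q) (h1 : ⁅x, t⁆ = a) (h2 : ⁅a, t⁆ = b) (h3 : ⁅b, t⁆ = c)
    (h4 : ⁅c, t⁆ = 1) : f ⁅b, c⁆ = 0 ∧ f ⁅a, c⁆ = 0 ∧ f ⁅b, a⁆ = f ⁅x, c⁆ ∧ f ⁅b, x⁆ = f ⁅x, c⁆ := by
  have ha := h1 ▸ h.cq hx ht
  have hb := h2 ▸ h.cq ha ht
  have hc := h3 ▸ h.cq hb ht
  have e1 := h.inv ht ha hc
  have e2 := h.inv ht hx hc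
  have e3 := h.inv ht hx hb
  have e4 := h.inv ht hx ha
  simp only [h1, h2, h3, h4, commutatorElement_one_right, h.f1, h.self] at e1 e2 e3 e4
  rw [h.anti hb ha, h.anti hb hx]
  exact ⟨by linear_combination -e1, by linear_combination -e2, by linear_combination e3 + e2,
    by linear_combination e3 + e2 + e4⟩

theorem pcG (h : XS p S Q Z f) (hp : p ≠ 2) (hi : Z.relIndex Q ≤ p ^ 4) (he : ∀ x ∈ Q, x ^ p = 1) (ht : t ∈ S)
    (ht' : t ∉ Q) (tp : t ^ p = 1) (hx : x ∈ Q) (h1 : ⁅⁅⁅x, t⁆, t⁆, t⁆ ∉ Z) (h2 : ⁅⁅⁅⁅x, t⁆, t⁆, t⁆, t⁆ = 1) :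
    ∃ g, PC p 6 wG g ∧ KK g 6 0 = S ∧ g 5 ∈ Z := by
  have k : ∀ x ∈ Q, ∀ a b c, ⁅x, t⁆ = a → ⁅a, t⁆ = b → ⁅b, t⁆ = c → c ∉ Z → ⁅c, t⁆ = 1 →
      Z ⊔ zpowers c ⊔ zpowers b ⊔ zpowers a ⊔ zpowers x = Q ∧ f ⁅x, c⁆ ≠ 0 := fun x hx a b c e1 e2 e3 e4 e5 => by
    have ha := e1 ▸ h.cq hx ht
    have hb := e2 ▸ h.cq ha ht
    have hc := e3 ▸ h.cq hb ht
    have n : ∀ {W y}, Z ≤ W → W ≤ Q → y ∈ Q → W ⊔ zpowers y ≤ Nm W := fun a b c =>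
      h.el.norm_mid a b |>.trans' (sup_le b (zpowers_le.2 c))
    have l1 : Z ⊔ zpowers c ≤ Q := sup_le h.zq (zpowers_le.2 hc)
    have l2 := sup_le l1 (zpowers_le.2 hb)
    have l3 := sup_le l2 (zpowers_le.2 ha)
    have t1 : ∀ v ∈ Z ⊔ zpowers c, ⁅v, t⁆ ∈ Z := fun _ => comm_of_sup (n le_rfl h.zq hc) rfl
      (fun _ => comm_mem_left (h.nZ ht)) (e5 ▸ one_mem _)
    have t2 : ∀ v ∈ Z ⊔ zpowers c ⊔ zpowers b, ⁅v, t⁆ ∈ Z ⊔ zpowers c := fun _ => comm_of_sup (n le_sup_left l1 hb) rfl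
      (fun _ a => mem_sup_left (t1 _ a)) (e3 ▸ mem_sup_right (mem_zpowers _))
    have t3 : ∀ v ∈ Z ⊔ zpowers c ⊔ zpowers b ⊔ zpowers a, ⁅v, t⁆ ∈ Z ⊔ zpowers c ⊔ zpowers b := fun _ =>
      comm_of_sup (n (le_sup_of_le_left le_sup_left) l2 ha) rfl (fun _ a => mem_sup_left (t2 _ a))
        (e2 ▸ mem_sup_right (mem_zpowers _))
    have n1 : b ∉ Z ⊔ zpowers c := fun d => e4 (e3 ▸ t1 _ d)
    have n2 : a ∉ Z ⊔ zpowers c ⊔ zpowers b := fun d => n1 (e2 ▸ t2 _ d)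
    have q := eq_of_chain h.pgQ hi (lt_sup_zp e4) (lt_sup_zp n1) (lt_sup_zp n2) (lt_sup_zp fun d => n2 (e1 ▸ t3 _ d))
      (sup_le l3 (zpowers_le.2 hx))
    obtain ⟨r1, r2, -⟩ := h.relG ht hx e1 e2 e3 e5
    exact ⟨q, fun d => e4 (h.eq.le ⟨hc, q ▸ mem_Cn_sup (mem_Cn_sup (mem_Cn_sup (mem_Cn_sup (h.cS (h.le hc))
      (commutatorElement_self c)) ((h.one hb hc).2 r1)) ((h.one ha hc).2 r2)) ((h.one hx hc).2 d)⟩)⟩
  obtain ⟨x, hx, a, b, c, e1, e2, e3, e4, e5, e6⟩ : ∃ x ∈ Q, ∃ a b c, ⁅x, t⁆ = a ∧ ⁅a, t⁆ = b ∧ ⁅b, t⁆ = c ∧ c ∉ Z ∧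
      ⁅c, t⁆ = 1 ∧ f ⁅a, x⁆ = 0 := by
    obtain ⟨r1, r2, r3, r4⟩ := h.relG ht hx rfl rfl rfl h2
    have r5 := (k x hx _ _ _ rfl rfl rfl h1 h2).2
    have ha := h.cq hx ht
    have hb := h.cq ha ht
    have hc := h.cq hb ht
    obtain ⟨n, hn⟩ := ZMod.natCast_zmod_surjective (f ⁅⁅x, t⁆, x⁆ / (2 * f ⁅x, ⁅⁅⁅x, t⁆, t⁆, t⁆⁆))
    have y := mul_mem hx (pow_mem hb n)
    refine ⟨_, y, _, _, _, rfl, ?_, rfl, h1, h2, ?_⟩
    · have c := comm_zpow_left (commutatorElement_eq_one_iff_commute.1 ((h.one hb hc).2 r1)).symm n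
      rw [zpow_natCast, zpow_natCast] at c
      rw [comm_mul_l, c, comm_mul_l, comm_mul_l _ ⁅x, t⁆, h.zl (h.el.1 _ hx _ (pow_mem hc n)) ht,
        h.zl (h.el.1 _ hx _ (pow_mem hc n)) (h.le ?_), ((commutatorElement_eq_one_iff_commute.1 h2).pow_left n).commutator_eq,
        ((commutatorElement_eq_one_iff_commute.1 ((h.one hb hc).2 r1)).symm.pow_left n).commutator_eq]
      · simp
      · exact mul_mem (h.zq (h.el.1 _ (pow_mem hc n) _ hb)) (mul_mem hb (h.cq (pow_mem hc n) ht))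
    · have t2 : (2 : ZMod p) ≠ 0 := fun c => not_dvd_two hp ((ZMod.intCast_zmod_eq_zero_iff_dvd 2 p).1 (by simpa using c))
      rw [h.nl ht hx (pow_mem hb n) y, h.np ht hb y, h.mr hx (pow_mem hb n) ha, h.mr hx (pow_mem hb n) hc, h.pr hb ha,
        h.pr hb hc, h.anti ha hb, h.anti hc hb, h.anti hc hx, r1, r3, hn]
      field_simp; ring
  obtain ⟨q, r5⟩ := k x hx a b c e1 e2 e3 e4 e5
  obtain ⟨r1, r2, r3, r4⟩ := h.relG ht hx e1 e2 e3 e5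
  have ha := e1 ▸ h.cq hx ht
  have hb := e2 ▸ h.cq ha ht
  have hc := e3 ▸ h.cq hb ht
  have hz := h.el.1 x hx c hc
  have k0 : ∀ {y : G}, y ∈ S → ⁅x, c⁆ * y = y * ⁅x, c⁆ := fun a => (h.cz' hz a).eq
  have k1 : ∀ {x y : G}, ⁅x, y⁆ = 1 → x * y = y * x := commutatorElement_eq_one_iff_mul_comm.1
  let g : ℕ → G := fun | 0 => t | 1 => c | 2 => x | 3 => a | 4 => b | _ => ⁅x, c⁆
  have m : ∀ i < 6, i ≠ 0 → g i ∈ Q := fun i hi => by interval_cases i <;> simp [g, ha, hb, hc, hx, h.zq hz]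
  refine ⟨g, fun i hi => ⟨if e : i = 0 then e ▸ tp else he _ (m i hi e), fun j hj hij => ?_⟩, h.gen ht ht' rfl
    (fun i hi => if e : i = 0 then e ▸ ht else h.le (m i hi e)) (q.ge.trans (sup_le (sup_le (sup_le (sup_le
      ((h.zgen hz (mt (h.one hx hc).1 r5)).ge.trans (zpowers_le.2 (mem_KK (j := 5) (by omega) (by omega))))
      (zpowers_le.2 (mem_KK (j := 1) (by omega) (by omega)))) (zpowers_le.2 (mem_KK (j := 4) (by omega) (by omega))))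
      (zpowers_le.2 (mem_KK (j := 3) (by omega) (by omega)))) (zpowers_le.2 (mem_KK (j := 2) (by omega) (by omega))))), hz⟩
  interval_cases i <;> interval_cases j <;>
    simp only [g, wG, evw, List.map, List.prod_cons, List.prod_nil, mul_one, one_mul]
  exacts [k1 e5, eq_mul_of_comm e1, eq_mul_of_comm e2, eq_mul_of_comm e3, k0 ht, eq_mul_of_comm rfl,
    k1 ((h.one ha hc).2 r2), k1 ((h.one hb hc).2 r1), k0 (h.le hc), k1 ((h.one ha hx).2 e6),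
    eq_mul_of_comm (h.ext (h.el.1 _ hb _ hx) hz r4), k0 (h.le hx), eq_mul_of_comm (h.ext (h.el.1 _ hb _ ha) hz r3),
    k0 (h.le ha), k0 (h.le hb)]

end XS

end CF.FusC
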