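import Cfsg.Agent.FusC.O
import Cfsg.Agent.FusC.L
import Cfsg.Agent.Fus.Xsp

/-! An essential subgroup moving the centre: the case of a conjugate inside the extraspecial subgroup. -/

set_option autoImplicit false
set_option linter.style.haveILetI false
set_option linter.unusedSectionVars false
set_option linter.unusedVariables false

namespace CF.FusC

open Cfsg Subgroup CF.Fus
open scoped commutatorElement

universe u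

variable {G : Type u} [Group G] {p : ℕ} {A B C D E H K M N O P Q R S T U V W X Y Z : Subgroup G}
  {a b c d e g k r s t u v w x y z : G} {i j l m : ℤ} {f : G → ZMod p}

theorem comm_one_symm (h : ⁅a, b⁆ = 1) : ⁅b, a⁆ = 1 := mem_bot.1 (comm_symm (mem_bot.2 h))

variable [Fact p.Prime] [Finite G]

theorem two_ne (hp : p ≠ 2) : (2 : ZMod p) ≠ 0 := fun c =>
  not_dvd_two hp ((ZMod.intCast_zmod_eq_zero_iff_dvd 2 p).1 (by simpa using c))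

theorem exists_nat_lin (a : ZMod p) {b : ZMod p} (h : b ≠ 0) : ∃ n : ℕ, a + n * b = 0 :=
  let ⟨n, hn⟩ := ZMod.natCast_zmod_surjective (-a / b)
  ⟨n, by rw [hn]; field_simp; ring⟩

namespace XS

theorem sup (h : XS p S Q Z f) (ht : t ∈ S) (ht' : t ∉ Q) : Q ⊔ zpowers t = S := sup_zpowers_eq h.idx h.le ht ht'
theorem nm (h : XS p S Q Z f) (h1 : Z ≤ W) (h2 : W ≤ Q) : Q ≤ Nm W := h.el.norm_mid h1 h2

theorem mem_K (h : XS p S Q Z f) (h1 : Z ≤ W) (h2 : S ≤ Nm W) (ht : t ∈ S) (ht' : t ∉ Q) :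
    x ∈ Cm Q S W ↔ x ∈ Q ∧ ⁅x, t⁆ ∈ W :=
  (mem_Cm (h.le.trans h2)).trans (and_congr_right fun hx => ⟨fun c => c t ht, fun c _ hs => comm_symm
    (comm_of_sup h2 (h.sup ht ht') (fun y hy => h1 (h.el.1 y hy x hx)) (comm_symm c) hs)⟩)

theorem zK (h : XS p S Q Z f) : Z ≤ Cm Q S Z := le_Cm (h.le.trans h.nZ) h.zq h.nZ

theorem cN (h : XS p S Q Z f) (ht : t ∈ S) (hx : x ∈ Q) (hu : u ∈ Q) (e : ⁅u, t⁆ ∈ Z) : ⁅⁅x, t⁆, u⁆ = 1 := by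
  have := h.inv ht hx hu
  rw [h.z0' e (h.cq hx ht), h.z0' e hx, add_zero] at this
  exact (h.one (h.cq hx ht) hu).2 this.symm

theorem chQ (h : XS p S Q Z f) (hi : p < (Cm Q S Z).relIndex Q) (hk : k ∈ Nm S) : k ∈ Nm Q := by_contra fun c => by
  have a : Cj k Q ≤ S := Cj_le hk h.le
  obtain ⟨t, ht, ht'⟩ := SetLike.not_le_iff_exists.1 fun d : Cj k Q ≤ Q => c (norm_of_Cj_le d)
  have b := (h.el.img (mulOn_cj k Q)).1
  rw [img_cj_eq_self.2 (h.chZ hk)] at b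
  refine hi.not_ge ((relIndex_le_of_le_left (H := Q ⊓ Cj k Q) (fun u hu => (h.mem_K le_rfl h.nZ (a ht) ht').2 ⟨hu.1, b u hu.2 t ht⟩)
    relIndex_ne_zero').trans ((idx_inf_le (B := Cj k Q) h.le).trans_eq ?_))
  rw [idx_Cj' hk, h.idx]

theorem perp' (h : XS p S Q Z f) (h1 : Z ≤ U) (h2 : U ≤ Q) : Z.relIndex (Q ⊓ Cn U) = U.relIndex Q := by
  have a := idx_mul (le_inf h.zq (Cn_symm (h2.trans (h.le.trans h.cS)))) (inf_le_left : Q ⊓ Cn U ≤ Q)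
  rw [idx_mul h1 h2, inf_relIndex_left, h.perp h1 h2, mul_comm] at a
  exact (Nat.eq_of_mul_eq_mul_right (Nat.pos_of_ne_zero relIndex_ne_zero') a).symm

theorem surjJ (h : XS p S Q Z f) (ht : t ∈ S) (ht' : t ∉ Q) (hu : u ∈ Q) (hc : u ∈ Cn (Cm Q S Z)) :
    ∃ x ∈ Q, ∃ ζ ∈ Z, u = ζ * ⁅x, t⁆ := by
  obtain ⟨x, hx, e⟩ := surj_Cm1 (A := Q ⊓ Cn (Cm Q S Z)) (K := Cm Q S Z) (v := t) (h.le.trans h.nZ)
    (fun x hx => ⟨h.cq hx ht, mem_Cn_comm.2 fun u hu => comm_one_symm (h.cN ht hx (Cm_le hu)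
      ((h.mem_K le_rfl h.nZ ht ht').1 hu).2)⟩) (fun x hx c => (h.mem_K le_rfl h.nZ ht ht').2 ⟨hx, c⟩)
    (h.perp' h.zK Cm_le).le (Subgroup.inv_mem _ ⟨hu, hc⟩)
  exact ⟨x, hx, _, Z.inv_mem e, by simp only [commutatorElement_def]; group⟩

theorem ab_idx (h : XS p S Q Z f) (h1 : Z ≤ U) (h2 : U ≤ Q) (h3 : U ≤ Cn U) : Z.relIndex U ≤ U.relIndex Q :=
  (relIndex_le_of_le_right (le_inf h2 h3) relIndex_ne_zero').trans_eq (h.perp' h1 h2)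

theorem comm_pow (h : XS p S Q Z f) (hp : p ≠ 2) (hx : x ∈ Q) (ht : t ∈ S) : ⁅x, t⁆ ^ p = 1 := by
  have := h.cl2.comm_pow hp hx (h.nQ ht)
  rwa [h.zl (h.el.2 x hx) ht, inv_one, one_mul, mem_bot] at this

theorem cz1 (h : XS p S Q Z f) (hz : z ∈ Z) (hu : u ∈ S) (ht : t ∈ S) : ⁅z * u, t⁆ = ⁅u, t⁆ := by
  rw [(h.cz' hz hu).eq, comm_mul_cancel (h.cz' hz ht)]

theorem n2_mul (h : XS p S Q Z f) (ht : t ∈ S) (hu : u ∈ Q) (hv : v ∈ Q) (h1 : ⁅⁅u, t⁆, t⁆ = 1)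
    (h2 : ⁅⁅v, t⁆, t⁆ = 1) : ⁅⁅u * v, t⁆, t⁆ = 1 := by
  rw [comm_mul_l, comm_mul_l, comm_mul_l ⁅v, t⁆, h1, h2, h.zl (h.el.1 _ hu _ (h.cq hv ht)) ht]; simp

theorem n2_pow (h : XS p S Q Z f) (ht : t ∈ S) (hu : u ∈ Q) (h1 : ⁅⁅u, t⁆, t⁆ = 1) (n : ℕ) : ⁅⁅u ^ n, t⁆, t⁆ = 1 := by
  induction n with
  | zero => simp
  | succ n ih => rw [pow_succ]; exact h.n2_mul ht (pow_mem hu n) hu ih h1

theorem nn0 (h : XS p S Q Z f) (ht : t ∈ S) (hu : u ∈ Q) (hv : v ∈ Q) (h1 : ⁅⁅u, t⁆, t⁆ = 1) :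
    f ⁅⁅u, t⁆, ⁅v, t⁆⁆ = 0 := by
  have := h.inv ht (h.cq hu ht) hv
  rw [h1, commutatorElement_one_left, commutatorElement_one_left, h.f1, zero_add] at this
  exact this.symm

theorem sym (h : XS p S Q Z f) (ht : t ∈ S) (hu : u ∈ Q) (hv : v ∈ Q) (h1 : ⁅⁅u, t⁆, t⁆ = 1) :
    f ⁅⁅v, t⁆, u⁆ = f ⁅⁅u, t⁆, v⁆ := by
  have := h.inv ht hu hv
  rw [h.nn0 ht hu hv h1, h.anti hu (h.cq hv ht)] at this
  linear_combination this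

theorem shift (h1 : ⁅u, t⁆ = 1) (n : ℕ) : ⁅b * u ^ n, t⁆ = ⁅b, t⁆ :=
  comm_mul_cancel ((commutatorElement_eq_one_iff_commute.1 h1).pow_left n)

theorem hyp (h : XS p S Q Z f) (hp : p ≠ 2) (hi : Z.relIndex Q ≤ p ^ 4) (he : ∀ x ∈ Q, x ^ p = 1) (ht : t ∈ S)
    (ht' : t ∉ Q) (tp : t ^ p = 1) (hx : x ∈ Q) (hb : b ∈ Q) (h1 : ⁅⁅x, t⁆, t⁆ = 1) (h2 : ⁅⁅b, t⁆, t⁆ = 1)
    (h3 : ⁅⁅b, t⁆, b⁆ = 1) (h4 : ⁅⁅x, t⁆, b⁆ ≠ 1) : ∃ g, PC p 6 (wB 0 1 0) g ∧ KK g 6 0 = S ∧ g 5 ∈ Z := by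
  have nb := h.cq hb ht
  rw [h.one nb hb] at h3
  rw [Ne, h.one (h.cq hx ht) hb] at h4
  obtain ⟨x, hx, h1, h4, h5⟩ : ∃ x ∈ Q, ⁅⁅x, t⁆, t⁆ = 1 ∧ f ⁅⁅x, t⁆, b⁆ ≠ 0 ∧ f ⁅⁅x, t⁆, x⁆ = 0 := by
    obtain ⟨n, hn⟩ := exists_nat_lin (f ⁅⁅x, t⁆, x⁆) (mul_ne_zero (two_ne hp) h4)
    have c := pow_mem hb n
    refine ⟨x * b ^ n, mul_mem hx c, h.n2_mul ht hx c h1 (h.n2_pow ht hb h2 n), ?_, ?_⟩
    · rwa [h.nl ht hx c hb, h.np ht hb hb, h3, mul_zero, add_zero]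
    · rw [h.nl ht hx c (mul_mem hx c), h.np ht hb (mul_mem hx c), h.mr hx c nb, h.mr hx c (h.cq hx ht), h.pr hb nb,
        h.pr hb (h.cq hx ht), h3, h.sym ht hx hb h1]
      linear_combination hn
  have nx := h.cq hx ht
  obtain ⟨n, hn⟩ := exists_nat_lin (f ⁅b, x⁆) ((h.sym ht hx hb h1).trans_ne h4)
  have c := mul_mem hb (pow_mem nb n)
  have e : ⁅b * ⁅b, t⁆ ^ n, t⁆ = ⁅b, t⁆ := shift h2 n
  have e1 : f ⁅⁅x, t⁆, b * ⁅b, t⁆ ^ n⁆ = f ⁅⁅x, t⁆, b⁆ := by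
    rw [h.mr hb (pow_mem nb n) nx, h.pr nb nx, h.nn0 ht hx hb h1, mul_zero, add_zero]
  have e2 : f ⁅⁅b, t⁆, b * ⁅b, t⁆ ^ n⁆ = 0 := by rw [h.mr hb (pow_mem nb n) nb, h.pr nb nb, h.self, h3]; ring
  have e3 : ⁅b * ⁅b, t⁆ ^ n, x⁆ = 1 := (h.one c hx).2 (by rw [h.ml hb (pow_mem nb n) hx, h.pl nb hx, hn])
  generalize b * ⁅b, t⁆ ^ n = b' at *
  have hz := h.el.1 _ nx _ c
  have z1 : ⁅⁅x, t⁆, b'⁆ ≠ 1 := mt (h.one nx c).1 (e1 ▸ h4)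
  refine h.pcB he ht ht' tp hx c hz h1 (e ▸ h2) e3 (by simpa using h5) (by simp) (by simpa [e] using e2)
    fun K a1 a2 a3 a4 a5 => (h.gen4 hi hx c nb nx (comm_one_symm e3) (fun d => h4 ?_) (mt comm_one_symm z1)
      (comm_one_symm ((h.one nx hx).2 h5)) ((h.one nb c).2 e2)).ge.trans (sup_le (sup_le (sup_le (sup_le
      ((h.zgen hz z1).ge.trans (zpowers_le.2 a1)) (zpowers_le.2 a2)) (zpowers_le.2 a3)) (zpowers_le.2 (e ▸ a5)))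
      (zpowers_le.2 a4))
  rw [← h.sym ht hx hb h1, ← h.one nb hx]; exact comm_one_symm d

theorem aniso (h : XS p S Q Z f) (hi : Z.relIndex Q ≤ p ^ 4) (he : ∀ x ∈ Q, x ^ p = 1) (ht : t ∈ S)
    (ht' : t ∉ Q) (tp : t ^ p = 1) (hx : x ∈ Q) (hb : b ∈ Q) (h1 : ⁅⁅x, t⁆, t⁆ = 1) (h2 : ⁅⁅b, t⁆, t⁆ = 1)
    (h3 : f ⁅⁅x, t⁆, b⁆ = 0) (h4 : f ⁅⁅x, t⁆, x⁆ ≠ 0) (h5 : f ⁅⁅b, t⁆, b⁆ ≠ 0) {δ : ℕ}
    (h6 : f ⁅⁅b, t⁆, b⁆ = δ * f ⁅⁅x, t⁆, x⁆) : ∃ g, PC p 6 (wB 1 0 δ) g ∧ KK g 6 0 = S ∧ g 5 ∈ Z := by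
  have nb := h.cq hb ht
  have nx := h.cq hx ht
  obtain ⟨n, hn⟩ := exists_nat_lin (f ⁅b, x⁆) h4
  have c := mul_mem hb (pow_mem nx n)
  have e : ⁅b * ⁅x, t⁆ ^ n, t⁆ = ⁅b, t⁆ := shift h1 n
  have e1 : f ⁅⁅x, t⁆, b * ⁅x, t⁆ ^ n⁆ = 0 := by rw [h.mr hb (pow_mem nx n) nx, h.pr nx nx, h.self, h3]; ring
  have e2 : f ⁅⁅b, t⁆, b * ⁅x, t⁆ ^ n⁆ = f ⁅⁅b, t⁆, b⁆ := by
    rw [h.mr hb (pow_mem nx n) nb, h.pr nx nb, h.nn0 ht hb hx h2, mul_zero, add_zero]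
  have e3 : ⁅b * ⁅x, t⁆ ^ n, x⁆ = 1 := (h.one c hx).2 (by rw [h.ml hb (pow_mem nx n) hx, h.pl nx hx, hn])
  generalize b * ⁅x, t⁆ ^ n = b' at *
  have hz := h.el.1 _ nx _ hx
  have z1 : ⁅⁅x, t⁆, x⁆ ≠ 1 := mt (h.one nx hx).1 h4
  exact h.pcB he ht ht' tp hx c hz h1 (e ▸ h2) e3 (by simp) (by simpa using e1) (by rw [e, e2, h6])
    fun K a1 a2 a3 a4 a5 => (h.gen4 hi hx c nx nb (comm_one_symm e3) (mt comm_one_symm z1)
      (fun d => h5 (e2 ▸ (h.one nb c).1 (comm_one_symm d))) (comm_one_symm ((h.one nb hx).2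
        ((h.sym ht hx hb h1).trans h3))) ((h.one nx c).2 e1)).ge.trans (sup_le (sup_le (sup_le (sup_le
      ((h.zgen hz z1).ge.trans (zpowers_le.2 a1)) (zpowers_le.2 a2)) (zpowers_le.2 a3)) (zpowers_le.2 a4))
      (zpowers_le.2 (e ▸ a5)))

end XS

/-- an essential subgroup in whose normalizer the stabilizer of `Z` is strongly embedded -/
structure ZE (p : ℕ) (S Q Z E : Subgroup G) (f : G → ZMod p) : Prop extends XS p S Q Z f where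
  odd : p ≠ 2
  big : p ^ 4 ≤ Z.relIndex Q
  sat : Sat (FT S) p
  ess : (FT S).IsEssential p E
  se : ∀ k ∈ Nm E, ∀ x ∈ NS S E, x ∉ E → k * x * k⁻¹ ∈ Nm Z → k ∈ Nm Z

theorem XS.exists_ze (h : XS p S Q Z f) (hF : Sat (FT S) p) (hc : (FT S).core = ⊥) (hp : p ≠ 2)
    (hb : p ^ 4 ≤ Z.relIndex Q) : ∃ E g, ZE p S Q Z E f ∧ g ∈ Nm E ∧ g ∉ Nm Z := by_contra fun c => by
  have zE : ∀ P, P = S ∨ (FT S).IsEssential p P → Z ≤ P := fun P hP =>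
    hP.elim (fun e => e ▸ h.zq.trans h.le) fun e => h.zs.ge.trans (hF.center_lt_ess e).le
  have := hF.alperin' (M := fun P φ => Z ≤ P → ∀ x ∈ Z, φ x ∈ Z)
    (fun _ a b e d x hx => e x (d hx) ▸ a (d.trans b) x hx)
    (fun a _ b d e z1 x hx => d (fun y hy => ?_) _ (b z1 x hx)) fun P hP ih α hα z1 x hx => ?_
  · refine not_le_of_prime h.i0 (eq_bot_of_ess hF hc fun P hP => ⟨zE P hP, fun g hg => ?_⟩).le
    have a : P ≤ S := hP.elim Eq.le fun e => (hF.ess_lt e).le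
    exact norm_of_cA_mem_stab (zE P hP) hg (mem_stab_of_maps (zE P hP) (this P _ (mor_fn a (cA_mem a hg)) (zE P hP)))
  · obtain ⟨x, hx, rfl⟩ := ((a.mono z1).piso.mul.mem_img).1
      ((piso_self_of_maps (a.mono z1).piso.mul (a.mono z1).piso.inj (b z1)).img_eq.ge hy)
    exact e x (z1 hx)
  · have a : P ≤ S := hP.elim Eq.le fun e => (hF.ess_lt e).le
    obtain ⟨g, hg, rfl⟩ := (aut_iff a).1 hα
    rw [fn_cA hg (z1 hx)]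
    refine conj_mem_of_norm (hP.elim (fun e => h.chZ (e ▸ hg)) fun hE => by_contra fun d =>
      c ⟨P, g, ⟨h, hp, hb, hF, hE, fun k hk x hx hx' e => ?_⟩, hg, d⟩) hx
    have hs := hF.ess_syl hE
    have l : Gam ((FT S).autGroup P) (autInducedBy S P) (Inn P) ≤ stab P Z :=
      (hF.Gam_le_HF (hF.fc_of_fn (hF.ess_fn hE))).trans fun β hβ => HF_induction (C := (· ∈ stab P Z)) (one_mem _)
        (fun _ _ _ _ => mul_mem) (fun β R φ h1 h2 h3 => mem_stab_of_maps z1 fun y hy =>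
          h3 y (z1 hy) ▸ ih R φ (card_lt_of_lt h1) h2 (z1.trans h1.le) y hy) hβ
    obtain ⟨n, hn⟩ := isPGroup_iff_mem.1 hs.pg _ (cA_mem_autInducedBy (P := P) hx.1)
    have b := mul_mem (mul_mem hk hx.2) (Subgroup.inv_mem _ hk)
    obtain ⟨γ, h1, h2⟩ := (hs.mono (le_inf hs.le ((le_Gam hs.le (hF.ess_Gam hE).1).trans l)) inf_le_left).exists_conj_elt
      ⟨cA_mem a b, cA_mem_stab z1 b e⟩ (k := n) (by rw [cA_conj hk hx.2, conj_pow, hn]; simp)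
    refine norm_of_cA_mem_stab z1 hk (((stab P Z).mul_mem_cancel_left h1.2).1 (l (mem_Gam_of_elt hs (Inn_norm _)
      (Inn_le_autInducedBy a) (cA_mem_autInducedBy hx.1) (mt (mem_of_cA_mem_Inn a (hF.ess_centric hE) hx) hx')
      (mul_mem h1.1 (cA_mem a hk)) ?_)))
    rw [cA_conj hk hx.2] at h2
    simpa only [mul_inv_rev, mul_assoc] using h2

namespace ZE

theorem eS (h : ZE p S Q Z E f) : E ≤ S := (h.sat.ess_lt h.ess).le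
theorem pgE (h : ZE p S Q Z E f) : IsPGroup p E := h.pg.to_le h.eS
theorem zE (h : ZE p S Q Z E f) : Z ≤ E := h.zs.ge.trans (h.sat.center_lt_ess h.ess).le
theorem cE (h : ZE p S Q Z E f) (hg : g ∈ Nm E) : E ≤ Cn (Cj g Z) := Cn_symm (Cj_le (norm_Cn hg)
  (Cn_symm (h.eS.trans h.cS)))
theorem zE' (h : ZE p S Q Z E f) (hg : g ∈ Nm E) : Cj g Z ≤ E := Cj_le hg h.zE

theorem nab (h : ZE p S Q Z E f) (h1 : Z ≤ U) (h2 : U ≤ Q) (hi : U.relIndex Q ≤ p) : ¬ U ≤ Cn U := fun c => by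
  have a := h.big
  rw [idx_mul h1 h2] at a
  have := a.trans (Nat.mul_le_mul ((h.ab_idx h1 h2 c).trans hi) hi)
  rw [← sq] at this
  exact absurd ((Nat.pow_le_pow_iff_right (Fact.out : p.Prime).one_lt).1 this) (by omega)

theorem nq (h : ZE p S Q Z E f) (hg : g ∈ Nm E) (hg' : g ∉ Nm Z) : ¬ E ≤ Q := fun c => by
  rcases eq_or_lt_of_le c with rfl | e
  · exact hg' (h.eq ▸ norm_inf hg (norm_Cn hg))
  · have := h.sat.sq_of_ess h.ess h.cz h.zs.ge (commutator_le.2 h.el.1) h.le e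
    rw [show CS Q Q = Z from h.eq] at this
    exact absurd ((Nat.pow_le_pow_iff_right (Fact.out : p.Prime).one_lt).1 (h.big.trans this)) (by omega)

theorem mem (h : ZE p S Q Z E f) (hk : k ∈ Nm E) (hk' : k ∉ Nm Z) (hx : x ∈ NS S E) (e : k⁻¹ * x * k ∈ Nm Z) :
    x ∈ E := by_contra fun c =>
  hk' ((Nm Z).inv_mem_iff.1 (h.se _ (Subgroup.inv_mem _ hk) x hx c (by rwa [inv_inv])))

theorem cj (h : ZE p S Q Z E f) (hz : z ∈ Z) (h1 : z ≠ 1) : Cj k Z = zpowers (k * z * k⁻¹) := by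
  rw [← h.zgen hz h1, Cj_zpowers]

theorem nz (h : ZE p S Q Z E f) (hz : z ∈ Z) (h1 : z ≠ 1) (e : k * z * k⁻¹ ∈ Z) : k ∈ Nm Z :=
  norm_of_Cj_le (h.cj hz h1 ▸ zpowers_le.2 e)

theorem zz (h : ZE p S Q Z E f) (hk : k ∉ Nm Z) (h1 : u ∈ Z) (h2 : u ∈ Cj k Z) : u = 1 := by_contra fun c => by
  obtain ⟨x, hx, rfl⟩ := exists_of_Cj h2
  exact hk (h.nz hx (fun d => c (by simp [d])) h1)

theorem cen (h : ZE p S Q Z E f) (hk : k ∈ Nm E) (hk' : k ∉ Nm Z) (hx : x ∈ S) (e : x ∈ Cn (Cj k Z)) : x ∈ E :=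
  le_of_NS_le (R := S ⊓ Cn (Cj k Z)) h.pg h.eS inf_le_left ((le_inf h.eS (h.cE hk)).trans le_normalizer)
    (fun y hy => h.mem hk hk' ⟨hy.1.1, hy.2⟩ (Cn_le_Nm (by simpa using cent_cj_inv k hy.1.2))) ⟨hx, e⟩

theorem caseA (h : ZE p S Q Z E f) (hg : g ∈ Nm E) (hg' : g ∉ Nm Z) (hq : Cj g Z ≤ Q) :
    Nat.card S = p ^ 6 ∧ ((∃ g, PC p 6 (wB 0 1 0) g ∧ KK g 6 0 = S ∧ g 5 ∈ Z) ∨
      (p ≠ 3 ∧ ∃ g, PC p 6 wG g ∧ KK g 6 0 = S ∧ g 5 ∈ Z)) := by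
  have hp := h.odd
  have pp : p.Prime := Fact.out
  obtain ⟨z, hz, z1⟩ := exists_of_prime h.i0
  rw [mem_bot] at z1
  have y1 : g * z * g⁻¹ ∉ Z := mt (h.nz hz z1) hg'
  have y2 := hq (conj_mem_Cj hz)
  have iY : Z.relIndex (Z ⊔ Cj g Z) = p := h.cj hz z1 ▸ relIndex_sup_zpowers (h.nZ (h.le y2)) (h.el.2 _ y2) y1
  have yQ : Z ⊔ Cj g Z ≤ Q := sup_le h.zq hq
  have yE : Z ⊔ Cj g Z ≤ E := sup_le h.zE (h.zE' hg)
  have cY : E ≤ Cn (Z ⊔ Cj g Z) := Cn_symm (sup_le (Cn_symm (h.eS.trans h.cS)) (Cn_symm (h.cE hg)))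
  have zY : Z ≤ Z ⊔ Cj g Z := le_sup_left
  have zY' : Cj g Z ≤ Z ⊔ Cj g Z := le_sup_right
  have mE : ∀ x ∈ Q, x ∈ Cn (Z ⊔ Cj g Z) → x ∈ E := fun x a b => h.cen hg hg' (h.le a) (centralizer_le zY' b)
  have zF : Z ≤ Fr E → Z ⊔ Cj g Z ≤ Fr E := fun a => sup_le a (Cj_le (norm_Fr hg) a)
  generalize Z ⊔ Cj g Z = Y at *
  have l1 : E ⊓ Q ≤ E := inf_le_left
  have l2 : E ⊓ Q ≤ Q := inf_le_right
  have l3 : Y ≤ E ⊓ Q := le_inf yE yQ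
  have mD : ∀ x ∈ E, x ∈ Q → x ∈ E ⊓ Q := fun x a b => ⟨a, b⟩
  have i1 : (E ⊓ Q).relIndex Q = p := by
    rw [show E ⊓ Q = Q ⊓ Cn Y from le_antisymm (le_inf l2 (l1.trans cY)) fun x a => ⟨mE x a.1 a.2, a.1⟩,
      inf_relIndex_left, h.perp zY yQ, iY]
  have i2 := idx_inf h.pg h.eS h.idx (h.nq hg hg')
  have nD : ∀ k ∈ Nm E, k ∈ Nm Q → k ∈ Nm (E ⊓ Q) := fun _ => norm_inf
  generalize E ⊓ Q = D at *
  have i3 : E.relIndex S = p := by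
    have := idx_mul l1 h.eS
    rw [idx_mul l2 h.le, i1, i2, h.idx] at this
    exact (Nat.eq_of_mul_eq_mul_left pp.pos this).symm
  have nE := norm_of_prime h.pg h.eS i3
  have eD := h.el.mono le_rfl l2
  have eD' := eD.img (mulOn_cj g D)
  have l4 : Cj g D ≤ E := Cj_le hg l1
  have i4 : (Cj g D).relIndex E = p := (idx_Cj' hg).trans i2
  have na := h.nab (zY.trans l3) l2 i1.le
  have na' : ¬ Cj g D ≤ Cn (Cj g D) := fun c => na fun x hx => by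
    simpa [mul_assoc] using cent_cj_inv g (c (conj_mem_Cj hx))
  have l5 : Z ≤ Cj g D := (h.zgen hz z1).ge.trans (zpowers_le.2 (by_contra fun c => na fun u hu =>
    mem_Cn_comm.2 fun v hv => h.zz hg' (eD.1 v hv u hu) (comm_of_cyc ((h.cE hg).trans Cn_le_Nm)
      (sup_zpowers_eq i4 l4 (h.zE hz) c) (fun a ha w hw => comm_symm (comm_of_sup ((h.cE hg).trans Cn_le_Nm)
        (sup_zpowers_eq i4 l4 (h.zE hz) c) (fun y hy => eD'.1 y hy a ha)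
        (h.zl hz (h.eS (l4 ha)) ▸ one_mem _) hw)) (l1 hv) (l1 hu))))
  have eA : El p ⊥ (D ⊓ Cj g D) := ((eD.mono le_rfl inf_le_left).inf (eD'.mono le_rfl inf_le_right)).mono
    (fun u hu => h.zz hg' hu.1 hu.2) le_rfl
  have aA := le_Cn_of_bot eA.1
  have n1 : ¬ D ≤ Cj g D := fun c => na (by rwa [inf_eq_left.2 c] at aA)
  have n2 : ¬ Cj g D ≤ D := fun c => na' (by rwa [inf_eq_right.2 c] at aA)
  have i5 := idx_inf h.pgE l1 i4 n1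
  have i5' := inf_comm (Cj g D) D ▸ idx_inf h.pgE l4 i2 n2
  have l6 : Y ≤ D ⊓ Cj g D := le_inf l3 (((eq_or_eq_of_prime (C := Y ⊓ Cj g D) iY (le_inf zY l5)
    inf_le_left).resolve_left fun c => y1 (c.le ⟨zY' (conj_mem_Cj hz), conj_mem_Cj (l3 (zY hz))⟩)).ge.trans inf_le_right)
  have l7 : D ⊓ Cj g D ≤ D := inf_le_left
  have l8 : D ⊓ Cj g D ≤ Cj g D := inf_le_right
  have mA : ∀ X, X ≤ D → g ∈ Nm X → X ≤ D ⊓ Cj g D := fun X a b => le_inf a ((le_Cj b le_rfl).trans (img_mono a))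
  generalize D ⊓ Cj g D = A at *
  have zA := zY.trans l6
  have aQ := l7.trans l2
  have i6 : A.relIndex Q = p ^ 2 := by rw [idx_mul l7 l2, i5, i1, sq]
  have i7 : Z.relIndex A = p ^ 2 := le_antisymm (i6 ▸ h.ab_idx zA aQ aA) (Nat.le_of_mul_le_mul_right (by
    rw [← pow_add, ← i6, ← idx_mul zA aQ]; exact h.big) (pow_pos pp.pos 2))
  have i8 : Z.relIndex Q = p ^ 4 := by rw [idx_mul zA aQ, i6, i7, ← pow_add]
  have i9 : Y.relIndex A = p := by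
    rw [idx_mul zY l6, iY, sq] at i7
    exact Nat.eq_of_mul_eq_mul_left pp.pos i7
  have mA' : Q ⊓ Cn A ≤ A := by
    have := h.perp' zA aQ
    rw [idx_mul zA (le_inf aQ aA), i6, i7] at this
    exact relIndex_eq_one.1 (Nat.eq_of_mul_eq_mul_left (pow_pos pp.pos 2) (this.trans (mul_one _).symm))
  have eY : Q ⊓ Cn D = Y := ((eq_or_eq_of_prime ((h.perp' (zY.trans l3) l2).trans i1) zY
    (le_inf yQ (Cn_symm (l1.trans cY)))).resolve_left fun c => y1 (c.le (zY' (conj_mem_Cj hz)))).symm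
  refine ⟨by rw [card_eq_mul' (h.zq.trans h.le), idx_mul h.zq h.le, h.cz, i8, h.idx]; ring, ?_⟩
  have eF := el_Fr h.pgE
  replace zF : Y ≤ Fr E := zF (by_contra fun c => na fun u hu => mem_Cn_comm.2 fun v hv => by_contra fun d =>
    c ((h.zgen (eD.1 v hv u hu) d).ge.trans (zpowers_le.2 (eF.1 v (l1 hv) u (l1 hu)))))
  have := ess_dich h.sat hp h.ess ((relIndex_le_of_le_left zF relIndex_ne_zero').trans_eq (by
    rw [idx_mul l6 (l7.trans l1), idx_mul l7 l1, i9, i5, i2]; ring))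
  rw [show NS S E = S from le_antisymm NS_le (le_inf le_rfl nE)] at this
  obtain ⟨x, hx, hx'⟩ := exists_of_prime i1
  have xE : x ∉ E := fun c => hx' (mD x c hx)
  obtain ⟨C, D', q⟩ := this.resolve_left fun j =>
    let ⟨e, a, b⟩ := j.j3 x (h.le hx) xE
    b (zF (zY (h.el.1 _ (comm_mem_right (h.nQ (h.eS a)) hx) x hx)))
  obtain rfl : D = D' := (eq_or_eq_of_prime i2 (fun e a => by_contra fun c => q.nd e (l1 a) c x (h.le hx) xE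
    (q.fc (zF (zY (h.el.1 e (l2 a) x hx))))) q.de).resolve_right (lt_of_prime q.de q.i1).ne |>.symm
  obtain rfl : A = C := (eq_or_eq_of_prime q.i2 (mA C q.cd (q.nc hg)) l7).resolve_right (lt_of_prime l7 i5).ne
  have nY : E ≤ Nm Y := cY.trans Cn_le_Nm
  have k1 : ∀ b ∈ A, b ∉ Y → ∀ t ∈ Cj g D, t ∉ D → ⁅b, t⁆ ∈ Cj g Z ∧ ⁅b, t⁆ ∉ Z := fun b a1 a2 t a3 a4 =>
    ⟨eD'.1 b (l8 a1) t a3, fun c => na' (ab_of_cyc (sup_zpowers_eq i5' l8 a3 fun d => a4 (l7 d)) (Cn_symm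
      ((le_Cn_of_bot fun u hu v hv => comm_of_sup le_Nm_bot (sup_zpowers_eq i5' l8 a3 fun d => a4 (l7 d))
        (fun w hw => eA.1 w hw v hv) (comm_symm (bot_of_Cn (sup_zpowers_eq i9 l6 a1 a2 ▸ mem_Cn_sup (cY (l4 a3))
          (h.zz hg' c (eD'.1 b (l8 a1) t a3))) hv)) hu))))⟩
  obtain ⟨t, ht, ht'⟩ := SetLike.not_le_iff_exists.1 n2
  obtain ⟨b, hb, hb'⟩ := exists_of_prime i9
  have tE := l4 ht
  have tS := h.eS tE
  have tQ : t ∉ Q := fun c => ht' (mD t tE c)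
  have a1 : ⁅x, t⁆ ∈ D := mD _ (comm_mem_right (nE (h.le hx)) tE) (h.cq hx tS)
  have a2 : ⁅x, t⁆ ∉ A := fun c => q.nd t tE ht' x (h.le hx) xE (comm_symm c)
  have a3 : ⁅⁅x, t⁆, b⁆ ≠ 1 := fun c => a2 (mA' ⟨l2 a1, sup_zpowers_eq i9 l6 hb hb' ▸
    mem_Cn_sup (cY (l1 a1)) (comm_one_symm c)⟩)
  have s1 := sup_zpowers_eq i5 l7 a1 a2
  have s2 := sup_zpowers_eq i2 l1 tE ht'
  have pD : ∀ u ∈ D, u ^ p = 1 := fun u hu => (show D ≤ h.cl2.Pw hp le_rfl from s1 ▸ sup_le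
    (fun v hv => ⟨aQ hv, eA.2 v hv⟩) (zpowers_le.2 ⟨l2 a1, h.comm_pow hp hx tS⟩)) hu |>.2
  have pD' : ∀ u ∈ Cj g D, u ^ p = 1 := fun u hu => by
    obtain ⟨v, hv, rfl⟩ := exists_of_Cj hu
    rw [conj_pow, pD v hv]; simp
  have mK := fun x => h.mem_K (x := x) le_rfl h.nZ tS tQ
  obtain ⟨τ, t1, t2, t3, -, w1, w2, w3⟩ := q.neg
  have t4 := h.chQ (by
    have c1 : Cm Q S Z < D := lt_of_le_not_ge (fun u hu => mD u (by_contra fun c => q.nd t tE ht' u (h.le (Cm_le hu)) c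
      (comm_symm (zA ((mK u).1 hu).2))) (Cm_le hu)) fun c => (k1 b hb hb' t ht ht').2 ((mK b).1 (c (l7 hb))).2
    rw [idx_mul c1.le l2, i1]
    exact (lt_mul_iff_one_lt_left pp.pos).2 (pp.one_lt.trans_le (le_idx q.pgD c1))) t3
  have t5 : τ ∈ Nm Y := eY ▸ norm_inf t4 (norm_Cn (nD τ t2 t4))
  have c1 : ∀ u ∈ A, ∀ y ∈ E, ⁅u, y⁆ ∈ Y := fun u hu y hy => comm_symm (comm_of_sup nY s2
    (fun v hv => zY (eD.1 v hv u (l7 hu))) (zY' (eD'.1 t ht u (l8 hu))) hy)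
  have w4 : WtOn τ A Y 1 := by
    by_cases c : ⁅⁅x, t⁆, t⁆ ∈ Y
    · have c2 : ∀ u ∈ E, ∀ v ∈ E, ⁅u, v⁆ ∈ Y := fun _ a _ => comm_of_cyc nY s2 (fun u hu v hv =>
        comm_of_sup (l1.trans nY) s1 (fun w hw => c1 w hw v hv) (comm_symm (comm_of_sup nY s2
          (fun w hw => zY (eD.1 w hw _ a1)) (comm_symm c) hv)) hu) a
      exact (Tr.wt (q.tl t1)).mono le_rfl (El.Fr_le ⟨c2, fun u => (cl2_of_comm nY c2).pow_of_sup hp s2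
        (fun v hv => pD v hv ▸ one_mem _) (pD' t ht ▸ one_mem _)⟩ le_rfl)
    · obtain ⟨k, hk⟩ := exists_wt q.pgC l6 i9 (q.nc t2) t5
      exact hk.congr (fun v hv => eA.2 v hv ▸ one_mem _) (by simpa using (wt_dvd q.pgC (l1.trans nY) nY t5 l7 l1 c1
        (fun u hu v hv => zY (eD.1 u hu v hv)) (fun _ a _ b => q.dc a (h.eS b)) (fun u a v b => c1 u a v (l1 b)) c1
        w1 w2 hk a1 tE c).neg_right)
  obtain ⟨ν, w5⟩ := exists_wt h.pgZ bot_le h.i0 (h.chZ t3) mem_Nm_bot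
  have d1 := wt_dvd h.pgZ le_Nm_bot le_Nm_bot mem_Nm_bot l7 l6 eA.1 (fun u a v b => comm_symm (bot_of_Cn (cY (l1 a)) b))
    (fun u a v b => eD.1 u a v (l7 b)) (fun u a v b => mem_bot.2 (h.zl a (h.le (l2 b))))
    (fun u a v b => mem_bot.2 (h.zl a (h.le (aQ b)))) w1 w4 w5 a1 hb (mt mem_bot.1 a3)
  have he : ∀ u ∈ Q, u ^ p = 1 := fun u hu => mem_bot.1 (Wt.mem h.pgZ (h.el.2 u hu) (wt_pow hp h.cl2 l2
    (fun v hv => mem_bot.2 (pD v hv)) hu (mD _ (w3.inf h.le t4 u hu).2 (w3.inf h.le t4 u hu).1)) (w5 _ (h.el.2 u hu))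
    fun c => neg_two hp (by simpa using d1.add c))
  by_cases c : ⁅⁅x, t⁆, t⁆ ∈ Y
  · have c2 : ⁅⁅x, t⁆, t⁆ ∈ Z := by_contra fun d => xE (mE x hx (sup_zpowers_eq iY zY c d ▸
      mem_Cn_sup (h.cS (h.le hx)) (comm_one_symm ((h.one hx (yQ c)).2 (by
        have := h.inv tS hx (l2 a1)
        rw [h.self, comm_one_symm (mem_Cn_comm.1 (cY (l1 a1)) _ c), h.f1] at this
        linear_combination -this)))))
    obtain ⟨n, hn⟩ := exists_nat_lin (f ⁅⁅x, t⁆, t⁆) (mt (h.one (l2 a1) (aQ hb)).2 a3)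
    have b1 := aQ (pow_mem hb n)
    have b2 := mul_mem ht (l8 (pow_mem hb n))
    have b3 : t * b ^ n ∉ D := fun d => ht' ((D.mul_mem_cancel_right (l7 (pow_mem hb n))).1 d)
    have e1 : ∀ u ∈ Q, ⁅u, t * b ^ n⁆ = ⁅u, t⁆ * ⁅u, b ^ n⁆ := fun u hu =>
      comm_mul_right' (h.cz' (h.el.1 u hu _ b1) tS)
    have e2 : ∀ v ∈ S, ⁅⁅x, t * b ^ n⁆, v⁆ = ⁅⁅x, t⁆, v⁆ := fun v hv => by
      rw [e1 x hx, comm_mul_cancel (h.cz' (h.el.1 x hx _ b1) hv)]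
    refine Or.inl (h.hyp hp i8.le he (h.eS (l4 b2)) (fun d => b3 (mD _ (l4 b2) d)) (pD' _ b2) hx (aQ hb) ?_
      (mem_Cn_comm.1 (h.cE hg (l4 b2)) _ (k1 b hb hb' _ b2 b3).1)
      (mem_Cn_comm.1 (h.cE hg (l1 (l7 hb))) _ (k1 b hb hb' _ b2 b3).1) (e2 b (h.le (aQ hb)) ▸ a3))
    have := h.el.1 _ (l2 a1) _ b1
    rw [e2 _ (h.eS (l4 b2)), e1 _ (l2 a1)]
    exact h.fi _ (mul_mem c2 this) (by rw [h.fm _ c2 _ this, h.pr (aQ hb) (l2 a1), hn])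
  · have c2 := k1 _ (q.dc a1 tS) c t ht ht'
    refine Or.inr ⟨fun d => c2.2 ?_, h.pcG hp i8.le he tS tQ (pD' t ht) hx c2.2
      (mem_Cn_comm.1 (h.cE hg tE) _ c2.1)⟩
    have := eng_mem hp h.el h.zq (h.nQ tS) (h.nZ tS) (pD' t ht ▸ one_mem _) hx
    subst d
    exact this

end ZE

end CF.FusC
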