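import Cfsg.Agent.FusC.P

/-! An essential subgroup moving the centre out of the extraspecial subgroup. -/

set_option autoImplicit false
set_option linter.style.haveILetI false
set_option linter.unusedSectionVars false
set_option linter.unusedVariables false

namespace CF.FusC

open Cfsg Subgroup CF.Fus
open scoped commutatorElement

universe u

variable {G : Type u} [Group G] {p : ℕ} {A B C D E H K M N O P Q R S T U V W X Y Z : Subgroup G}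
  {a b c d e g k n r s t u v w x y z ζ : G} {i j l m : ℤ} {f φ : G → ZMod p}

theorem conj_eq_comm (a y : G) : a * y * a⁻¹ = ⁅a, y⁆ * y := by simp only [commutatorElement_def]; group

theorem ac_inv (hE : E ≤ Cn E) (ha : a ∈ E) (hb : b ∈ E) (hu : u ∈ E) (hy : y ∈ E) :
    u * (a * a * (b * u)) = (a * (b * u) * y) * (a * (b * u) * y) * (y * y * b)⁻¹ := by
  letI : CommGroup E := { (inferInstance : Group E) with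
    mul_comm := fun x y => Subtype.ext (commute_of_Cn (hE y.2) x.2).eq }
  rw [eq_mul_inv_iff_mul_eq]
  lift a to E using ha
  lift b to E using hb
  lift u to E using hu
  lift y to E using hy
  exact_mod_cast (by simp only [mul_comm, mul_left_comm] :
    u * (a * a * (b * u)) * (y * y * b) = a * (b * u) * y * (a * (b * u) * y))

variable [Fact p.Prime] [Finite G]

theorem exists_sq_sum (hp : p ≠ 2) {α β : ZMod p} (h1 : α ≠ 0) (h2 : β ≠ 0) (γ : ZMod p) :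
    ∃ i j : ℕ, i ^ 2 * α + j ^ 2 * β + γ = 0 := by
  obtain ⟨a, b, e⟩ := FiniteField.exists_root_sum_quadratic (f := Polynomial.C α * Polynomial.X ^ 2)
    (g := Polynomial.C β * Polynomial.X ^ 2 + Polynomial.C γ) (Polynomial.degree_C_mul_X_pow 2 h1)
    (by rw [Polynomial.degree_add_C] <;> rw [Polynomial.degree_C_mul_X_pow 2 h2] <;> norm_num)
    (by rw [ZMod.card]; exact (Fact.out : p.Prime).eq_two_or_odd.resolve_left hp)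
  obtain ⟨i, rfl⟩ := ZMod.natCast_zmod_surjective a
  obtain ⟨j, rfl⟩ := ZMod.natCast_zmod_surjective b
  exact ⟨i, j, by simp at e; linear_combination e⟩

theorem XS.fz (h : XS p S Q Z f) (ha : a ∈ Z) (i : ℤ) : f (a ^ i) = i * f a := by
  obtain ⟨n, rfl | rfl⟩ := i.eq_nat_or_neg <;> simp [h.fpow ha, h.finv (pow_mem ha n)]

theorem XS.pz (h : XS p S Q Z f) (hx : x ∈ Q) (hv : v ∈ Q) (i : ℤ) : f ⁅v, x ^ i⁆ = i * f ⁅v, x⁆ := by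
  obtain ⟨n, rfl | rfl⟩ := i.eq_nat_or_neg <;> simp [h.pr hx hv, h.ir (pow_mem hx n) hv]

theorem XS.qm (h : XS p S Q Z f) (ht : t ∈ S) (ha : a ∈ Q) (hb : b ∈ Q) (h1 : ⁅⁅a, t⁆, t⁆ = 1) :
    f ⁅⁅a * b, t⁆, a * b⁆ = f ⁅⁅a, t⁆, a⁆ + f ⁅⁅b, t⁆, b⁆ + 2 * f ⁅⁅a, t⁆, b⁆ := by
  rw [h.nl ht ha hb (mul_mem ha hb), h.mr ha hb (h.cq ha ht), h.mr ha hb (h.cq hb ht), h.sym ht ha hb h1]; ring

theorem XS.bp (h : XS p S Q Z f) (ht : t ∈ S) (ha : a ∈ Q) (hb : b ∈ Q) (i j : ℕ) :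
    f ⁅⁅a ^ i, t⁆, b ^ j⁆ = i * j * f ⁅⁅a, t⁆, b⁆ := by
  rw [h.np ht ha (pow_mem hb j), h.pr hb (h.cq ha ht), mul_assoc]

/-- no conjugate of `Z` other than `Z` lies in `Q` -/
structure ZB (p : ℕ) (S Q Z E : Subgroup G) (f : G → ZMod p) (g z y : G) : Prop extends ZE p S Q Z E f where
  gE : g ∈ Nm E
  gZ : g ∉ Nm Z
  hz : z ∈ Z
  z1 : z ≠ 1
  ey : g * z * g⁻¹ = y
  nb : ∀ k ∈ Nm E, ∀ u ∈ Z, u ≠ 1 → k * u * k⁻¹ ∈ Q → k ∈ Nm Z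

namespace ZB

theorem ez (h : ZB p S Q Z E f g z y) : Cj g Z = zpowers y := h.ey ▸ h.cj h.hz h.z1
theorem yZ (h : ZB p S Q Z E f g z y) : y ∈ Cj g Z := h.ey ▸ conj_mem_Cj h.hz
theorem yE (h : ZB p S Q Z E f g z y) : y ∈ E := h.zE' h.gE h.yZ
theorem yS (h : ZB p S Q Z E f g z y) : y ∈ S := h.eS h.yE
theorem yQ (h : ZB p S Q Z E f g z y) : y ∉ Q := fun c => h.gZ (h.nb g h.gE z h.hz h.z1 (h.ey ▸ c))
theorem yp (h : ZB p S Q Z E f g z y) : y ^ p = 1 := by rw [← h.ey, conj_pow, h.zp h.hz]; simp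
theorem cy (h : ZB p S Q Z E f g z y) (hx : x ∈ E) : ⁅x, y⁆ = 1 :=
  comm_one_symm (mem_Cn_comm.1 (h.cE h.gE hx) y h.yZ)
theorem cy' (h : ZB p S Q Z E f g z y) (hx : x ∈ S) (e : ⁅x, y⁆ = 1) : x ∈ E :=
  h.cen h.gE h.gZ hx (h.ez ▸ Cn_symm (zpowers_le.2 (mem_Cn_comm.2 fun _ a =>
    mem_bot.1 ((zpowers_le.2 ⟨mem_Nm_bot, e⟩ : _ ≤ Cm1 y ⊥) a).2)) (mem_zpowers x))
theorem zD (h : ZB p S Q Z E f g z y) : Z ≤ E ⊓ Q := le_inf h.zE h.zq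
theorem iD (h : ZB p S Q Z E f g z y) : (E ⊓ Q).relIndex E = p := idx_inf h.pg h.eS h.idx fun c => h.yQ (c h.yE)
theorem sE (h : ZB p S Q Z E f g z y) : E ⊓ Q ⊔ zpowers y = E := sup_zpowers_eq h.iD inf_le_left h.yE fun c => h.yQ c.2
theorem zq1 (h : ZB p S Q Z E f g z y) (h1 : u ∈ Cj g Z) (h2 : u ∈ Q) : u = 1 := by_contra fun c => by
  obtain ⟨x, hx, rfl⟩ := exists_of_Cj h1
  exact h.gZ (h.nb g h.gE x hx (fun d => c (by simp [d])) h2)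

theorem eE (h : ZB p S Q Z E f g z y) : El p ⊥ E := by
  have n := h.eS.trans h.nZ
  have a : ∀ u ∈ E, ∀ v ∈ E, ⁅u, v⁆ ∈ Z := fun _ a _ => comm_of_cyc n h.sE (fun u hu v hv => comm_symm
    (comm_of_sup n h.sE (fun w hw => h.el.1 w hw.2 u hu.2) (comm_one_symm (h.cy hu.1) ▸ one_mem _) hv)) a
  have b : El p Z E := ⟨a, fun _ => (cl2_of_comm n a).pow_of_sup h.odd h.sE (fun u hu => h.el.2 u hu.2)
    (h.yp ▸ one_mem _)⟩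
  have c := b.img (mulOn_cj g E)
  rw [img_cj_eq_self.2 h.gE] at c
  exact (b.inf c).mono (fun u hu => h.zz h.gZ hu.1 hu.2) le_rfl

theorem ab (h : ZB p S Q Z E f g z y) : E ≤ Cn E := le_Cn_of_bot h.eE.1
theorem c1 (h : ZB p S Q Z E f g z y) (ha : a ∈ E) (hb : b ∈ E) : Commute a b := commute_of_Cn (h.ab hb) ha

theorem ns (h : ZB p S Q Z E f g z y) (hw : w ∈ Q) (e : ⁅w, y⁆ ∈ E) : w ∈ NS S E :=
  ⟨h.le hw, (mem_Tr_of_le le_rfl fun _ => comm_of_sup le_normalizer h.sE (fun u hu => h.zE (h.el.1 u hu.2 w hw))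
    (comm_symm e)).1⟩

/-- the case of a transvection with centre `Z` -/
theorem caseBa (h : ZB p S Q Z E f g z y) (hx : x ∈ Q) (hx' : x ∉ E) (e : ⁅x, y⁆ ∈ Z) : E ⊓ Q ≤ Z := by
  have xN := h.ns hx (h.zE e)
  have x1 : g * x * g⁻¹ ∈ Nm E := mul_mem (mul_mem h.gE xN.2) (Subgroup.inv_mem _ h.gE)
  have x2 : ∀ u ∈ E, ⁅u, g * x * g⁻¹⁆ ∈ Cj g Z := fun u hu => by
    obtain ⟨v, hv, rfl⟩ := exists_of_Cj ((Cj_eq h.gE).ge hu)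
    exact conj_comm g v x ▸ conj_mem_Cj (comm_of_sup (h.eS.trans h.nZ) h.sE (fun u hu => h.el.1 u hu.2 x hx)
      (comm_symm e) hv)
  have x3 : ∀ k ∈ Nm E, ∀ u ∈ Z, u ≠ 1 → ⁅k * u * k⁻¹, g * x * g⁻¹⁆ = 1 → k⁻¹ * g ∈ Nm Z := fun k hk u hu u1 c =>
    h.se _ (mul_mem (Subgroup.inv_mem _ hk) h.gE) x xN hx' (h.zgen hu u1 ▸ norm_zpowers (by
      rw [show k⁻¹ * g * x * (k⁻¹ * g)⁻¹ * u * (k⁻¹ * g * x * (k⁻¹ * g)⁻¹)⁻¹ =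
        k⁻¹ * (⁅k * u * k⁻¹, g * x * g⁻¹⁆⁻¹ * (k * u * k⁻¹)) * k by simp only [commutatorElement_def]; group, c]; group))
  have c0 : ⁅x, y⁆ ≠ 1 := mt (h.cy' (h.le hx)) hx'
  have c1 : ⁅⁅x, y⁆, g * x * g⁻¹⁆ ≠ 1 := fun c => h.gZ (by simpa using x3 1 (one_mem _) _ e c0 (by simpa using c))
  have key : ∀ w ∈ Q, ⁅w, y⁆ ∈ E → ⁅w, y⁆ ∈ Z := fun w hw u => by
    obtain ⟨n, hn⟩ := (sup_zpowers_eq (A := ⊥) ((idx_Cj'' mem_Nm_bot).trans h.i0) bot_le (x2 _ (h.zE e)) c1).ge.trans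
      (bot_sup_eq _).le (Subgroup.inv_mem _ (x2 _ u))
    have a1 : ⁅w * x ^ n, y⁆ = ⁅x, y⁆ ^ n * ⁅w, y⁆ := by
      rw [comm_mul_l, comm_zpow_left (h.cz' e (h.le hx)), h.zr (zpow_mem e n) (h.le hw), one_mul]
    have a2 := mul_mem hw (zpow_mem hx n)
    have a3 := h.ns a2 (a1 ▸ mul_mem (h.zE (zpow_mem e n)) u)
    have a4 := x3 _ (mul_mem a3.2 h.gE) z h.hz h.z1 (by
      rw [show w * x ^ n * g * z * (w * x ^ n * g)⁻¹ = w * x ^ n * (g * z * g⁻¹) * (w * x ^ n)⁻¹ by group, h.ey,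
        conj_eq_comm, comm_mul_cancel (commute_of_Cn (cent_cj g (h.cS (h.le hx))) h.yZ), a1, comm_mul_l,
        comm_zpow_left (h.c1 (comm_mem_left x1 (h.zE e)) (h.zE e)), (h.c1 (h.zE (zpow_mem e n))
          (comm_mem_left x1 u)).commutator_eq]
      simp only at hn
      rw [hn, one_mul, mul_inv_cancel])
    have a5 := h.cy (h.mem h.gE h.gZ a3 (by simpa [mul_assoc] using Subgroup.inv_mem _ a4))
    rw [a1, mul_eq_one_iff_eq_inv'] at a5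
    exact a5 ▸ Z.inv_mem (zpow_mem e n)
  have mK := fun x => h.mem_K (x := x) le_rfl h.nZ h.yS h.yQ
  have dK : E ⊓ Q ≤ Cm Q S Z := fun u hu => (mK u).2 ⟨hu.2, h.cy hu.1 ▸ one_mem _⟩
  have i1 : (E ⊓ Q).relIndex (Cm Q S Z) ≤ p := h.i0 ▸ idx_le_of_Cm1 le_Nm_bot (fun u hu => ((mK u).1 hu).2)
    fun u hu c => ⟨h.cy' (h.le (Cm_le hu)) c, Cm_le hu⟩
  have aD : E ⊓ Q ≤ Cn (E ⊓ Q) := inf_le_left.trans (h.ab.trans (centralizer_le (inf_le_left : E ⊓ Q ≤ E)))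
  have k2 : ∀ u ∈ Q ⊓ Cn (Cm Q S Z), u ∈ E → u ∈ Z := fun u a b => by
    obtain ⟨w, hw, ζ, hζ, rfl⟩ := h.surjJ h.yS h.yQ a.1 a.2
    exact mul_mem hζ (key w hw ((E.mul_mem_cancel_left (h.zE hζ)).1 b))
  obtain ⟨v, v1, v2, -, v3⟩ := exists_fix_mod (A := Q ⊓ Cn (Cm Q S Z)) h.pg (inf_le_left.trans h.le)
    (fun s hs => norm_inf (h.nQ hs) (norm_Cn (norm_Cm (h.le.trans h.nZ) (h.nQ hs) (le_normalizer hs) (h.nZ hs)))) h.nZ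
    fun c => h.nab h.zD inf_le_right (by rwa [le_antisymm Cm_le (relIndex_eq_one.1 ((h.perp' h.zK Cm_le).symm.trans
      (relIndex_eq_one.2 c)))] at i1) aD
  have v4 := (mK v).2 ⟨v1.1, v3 y h.yS⟩
  have v5 : v ∉ E ⊓ Q := fun c => v2 (k2 v v1 c.1)
  exact fun u hu => k2 u ⟨hu.2, sup_zpowers_eq (relIndex_eq_prime (h.pgQ.to_le Cm_le) (fun c => v5 (c v4)) i1) dK v4 v5 ▸
    mem_Cn_sup (aD hu) (comm_one_symm (mem_Cn_comm.1 v1.2 u (dK hu)))⟩ hu.1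

theorem iH (h : ZB p S Q Z E f g z y) : (Cj g (E ⊓ Q)).relIndex E = p := (idx_Cj' h.gE).trans h.iD
theorem hE (h : ZB p S Q Z E f g z y) : Cj g (E ⊓ Q) ≤ E := Cj_le h.gE inf_le_left
theorem yH (h : ZB p S Q Z E f g z y) : y ∈ Cj g (E ⊓ Q) := h.ey ▸ conj_mem_Cj (h.zD h.hz)

theorem nbH (h : ZB p S Q Z E f g z y) (hk : k ∈ Nm E) (hu : u ∈ Z) (u1 : u ≠ 1) (e : k * u * k⁻¹ ∈ Cj g (E ⊓ Q)) :
    g⁻¹ * k ∈ Nm Z :=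
  h.nb _ (mul_mem (Subgroup.inv_mem _ h.gE) hk) u hu u1 (by simpa [mul_assoc] using (mem_img_cj.1 e).2)

theorem zH (h : ZB p S Q Z E f g z y) (hu : u ∈ Z) (e : u ∈ Cj g (E ⊓ Q)) : u = 1 := by_contra fun c =>
  h.gZ (by simpa using h.nbH (one_mem _) hu c (by simpa using e))

theorem split (h : ZB p S Q Z E f g z y) (he : e ∈ E) : ∃ ζ ∈ Z, ζ⁻¹ * e ∈ Cj g (E ⊓ Q) := by
  obtain ⟨a, ha, ζ, hζ, rfl⟩ := (mem_sup_of_norm (h.hE.trans (h.eS.trans (h.zgen h.hz h.z1 ▸ h.nZ)))).1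
    ((sup_zpowers_eq h.iH h.hE (h.zE h.hz) (mt (h.zH h.hz) h.z1)).ge he)
  rw [h.zgen h.hz h.z1] at hζ
  exact ⟨ζ, hζ, by rwa [(h.c1 (h.hE ha) (h.zE hζ)).eq, inv_mul_cancel_left]⟩

theorem exists_phi (h : ZB p S Q Z E f g z y) : ∃ φ : G → ZMod p, (∀ a ∈ E, ∀ b ∈ E, φ (a * b) = φ a + φ b) ∧
    (∀ a ∈ Z, φ a = f a) ∧ ∀ a ∈ E, φ a = 0 ↔ a ∈ Cj g (E ⊓ Q) := by
  choose! π h1 h2 using fun e => h.split (e := e)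
  have k : ∀ e ∈ E, ∀ ζ ∈ Z, ζ⁻¹ * e ∈ Cj g (E ⊓ Q) → ζ = π e := fun e a ζ b c =>
    inv_mul_eq_one.1 (h.zH (mul_mem (Z.inv_mem b) (h1 e a)) (by simpa using mul_mem c (Subgroup.inv_mem _ (h2 e a))))
  refine ⟨fun e => f (π e), fun a ha b hb => ?_, fun a ha => congrArg f (k a (h.zE ha) a ha (by simp)).symm,
    fun a ha => ⟨fun c => by simpa [h.fi _ (h1 a ha) c] using h2 a ha,
      fun c => (congrArg f (k a ha 1 (one_mem _) (by simpa using c))).symm.trans h.f1⟩⟩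
  beta_reduce
  rw [← h.fm _ (h1 a ha) _ (h1 b hb), k _ (mul_mem ha hb) _ (mul_mem (h1 a ha) (h1 b hb))]
  have := mul_mem (h2 b hb) (h2 a ha)
  rwa [mul_assoc, ((h.c1 hb (h.hE (h2 a ha))).eq), mul_assoc, ← mul_assoc, ← mul_inv_rev] at this

end ZB

/-- no element of `Q` induces a transvection with centre `Z` -/
structure ZC (p : ℕ) (S Q Z E : Subgroup G) (f : G → ZMod p) (g z y : G) (φ : G → ZMod p) : Prop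
    extends ZB p S Q Z E f g z y where
  nt : ∀ x ∈ Q, ⁅x, y⁆ ∈ Z → x ∈ E
  pm : ∀ a ∈ E, ∀ b ∈ E, φ (a * b) = φ a + φ b
  pf : ∀ a ∈ Z, φ a = f a
  p0 : ∀ a ∈ E, φ a = 0 ↔ a ∈ Cj g (E ⊓ Q)

namespace ZC

theorem eK (h : ZC p S Q Z E f g z y φ) : Cm Q S Z = E ⊓ Q := Subgroup.ext fun x =>
  (h.mem_K le_rfl h.nZ h.yS h.yQ).trans ⟨fun a => ⟨h.nt x a.1 a.2, a.1⟩, fun a => ⟨a.2, h.cy a.1 ▸ one_mem _⟩⟩

theorem nD (h : ZC p S Q Z E f g z y φ) : S ≤ Nm (E ⊓ Q) := fun _ hs =>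
  h.eK ▸ norm_Cm (h.le.trans h.nZ) (h.nQ hs) (le_normalizer hs) (h.nZ hs)

theorem surj (h : ZC p S Q Z E f g z y φ) (hu : u ∈ E ⊓ Q) : ∃ w ∈ Q, ⁅w, y⁆ ∈ E ∧ ∃ ζ ∈ Z, u = ζ * ⁅w, y⁆ := by
  obtain ⟨w, hw, ζ, hζ, rfl⟩ := h.surjJ h.yS h.yQ hu.2
    (h.eK ▸ centralizer_le (inf_le_left : E ⊓ Q ≤ E) (h.ab hu.1))
  exact ⟨w, hw, (E.mul_mem_cancel_left (h.zE hζ)).1 hu.1, ζ, hζ, rfl⟩

theorem dec (h : ZC p S Q Z E f g z y φ) (h1 : X ≤ E) (h2 : ¬ X ≤ Q) : ∃ d ∈ E ⊓ Q, d * y ∈ X := by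
  obtain ⟨a, ha, b, hb, e⟩ := (mem_sup_of_norm (inf_le_left.trans (h.ab.trans ((centralizer_le h1).trans
    Cn_le_Nm)))).1 (((eq_or_eq_of_prime h.iD le_sup_left (sup_le inf_le_left h1)).resolve_left fun c =>
      h2 ((le_sup_right.trans c.le).trans inf_le_right)).ge h.yE)
  exact ⟨a⁻¹, Subgroup.inv_mem _ ha, by rwa [← e, inv_mul_cancel_left]⟩

theorem dec' (h : ZC p S Q Z E f g z y φ) (hk : k ∈ Nm E) (hk' : k ∉ Nm Z) :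
    ∃ d ∈ E ⊓ Q, ∃ u ∈ Z, u ≠ 1 ∧ k * u * k⁻¹ = d * y := by
  obtain ⟨d, a, b⟩ := h.dec (h.zE' hk) fun c => hk' (h.nb k hk z h.hz h.z1 (c (conj_mem_Cj h.hz)))
  obtain ⟨u, hu, e⟩ := exists_of_Cj b
  refine ⟨d, a, u, hu, fun c => h.yQ ((Q.mul_mem_cancel_left a.2).1 ?_), e⟩
  rw [← e, c]; simp

theorem p1 (h : ZC p S Q Z E f g z y φ) : φ 1 = 0 := (h.p0 1 (one_mem _)).2 (one_mem _)
theorem py (h : ZC p S Q Z E f g z y φ) : φ y = 0 := (h.p0 y h.yE).2 h.yH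
theorem ppow (h : ZC p S Q Z E f g z y φ) (ha : a ∈ E) (n : ℕ) : φ (a ^ n) = n * φ a := by
  induction n with
  | zero => simp [h.p1]
  | succ n ih => rw [pow_succ, h.pm _ (pow_mem ha n) a ha, ih]; push_cast; ring

theorem F0 (h : ZC p S Q Z E f g z y φ) (ha : a ∈ Q) (e : ⁅a, y⁆ ∈ E) (h1 : φ ⁅a, y⁆ = 0) : a ∈ E :=
  have n := h.ns ha e
  h.mem h.gE h.gZ n (mul_assoc _ a g ▸ h.nbH (mul_mem n.2 h.gE) h.hz h.z1 (by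
    rw [show a * g * z * (a * g)⁻¹ = a * (g * z * g⁻¹) * a⁻¹ by group, h.ey, conj_eq_comm]
    exact mul_mem ((h.p0 _ e).1 h1) h.yH))

theorem Wm (h : ZC p S Q Z E f g z y φ) (ha : a ∈ Q) (hb : b ∈ Q) (e1 : ⁅a, y⁆ ∈ E) (e2 : ⁅b, y⁆ ∈ E) :
    ⁅a * b, y⁆ ∈ E := comm_mul_l a b y ▸ mul_mem (h.zE (h.el.1 a ha _ (h.cq hb h.yS))) (mul_mem e2 e1)

theorem Wp (h : ZC p S Q Z E f g z y φ) (ha : a ∈ Q) (e1 : ⁅a, y⁆ ∈ E) (n : ℕ) : ⁅a ^ n, y⁆ ∈ E := by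
  induction n with
  | zero => simp
  | succ n ih => rw [pow_succ]; exact h.Wm (pow_mem ha n) ha ih e1

theorem Lm (h : ZC p S Q Z E f g z y φ) (ha : a ∈ Q) (hb : b ∈ Q) (e1 : ⁅a, y⁆ ∈ E) (e2 : ⁅b, y⁆ ∈ E) :
    2 * φ ⁅a * b, y⁆ + f ⁅⁅a * b, y⁆, a * b⁆ = 2 * φ ⁅a, y⁆ + f ⁅⁅a, y⁆, a⁆ + (2 * φ ⁅b, y⁆ + f ⁅⁅b, y⁆, b⁆) := by
  have c := h.el.1 a ha _ (h.cq hb h.yS)
  rw [h.qm h.yS ha hb (h.cy e1), comm_mul_l, h.pm _ (h.zE c) _ (mul_mem e2 e1), h.pm _ e2 _ e1, h.pf _ c,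
    h.anti ha (h.cq hb h.yS), h.sym h.yS ha hb (h.cy e1)]
  ring

theorem Lp (h : ZC p S Q Z E f g z y φ) (ha : a ∈ Q) (e1 : ⁅a, y⁆ ∈ E) (n : ℕ) :
    2 * φ ⁅a ^ n, y⁆ + f ⁅⁅a ^ n, y⁆, a ^ n⁆ = n * (2 * φ ⁅a, y⁆ + f ⁅⁅a, y⁆, a⁆) := by
  induction n with
  | zero => simp [h.p1, h.f1]
  | succ n ih => rw [pow_succ, h.Lm (pow_mem ha n) ha (h.Wp ha e1 n) e1, ih]; push_cast; ring

theorem L0 (h : ZC p S Q Z E f g z y φ) (ha : a ∈ Q) (e1 : ⁅a, y⁆ ∈ E) (h1 : f ⁅⁅a, y⁆, a⁆ ≠ 0) :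
    2 * φ ⁅a, y⁆ + f ⁅⁅a, y⁆, a⁆ = 0 := by
  obtain ⟨n, hn⟩ := exists_nat_lin (-(2 * φ ⁅a, y⁆ + f ⁅⁅a, y⁆, a⁆)) h1
  have a1 := h.Lp ha e1 n
  have a2 := h.bp h.yS ha ha n n
  have a3 := h.cy (h.F0 (pow_mem ha n) (h.Wp ha e1 n) ((mul_eq_zero.1 (show 2 * φ ⁅a ^ n, y⁆ = 0 by
    linear_combination a1 - a2 - n * hn)).resolve_left (two_ne h.odd)))
  rw [a3, commutatorElement_one_left, h.f1, eq_comm, mul_eq_zero, mul_self_eq_zero] at a2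
  rw [a2.resolve_right h1] at hn
  linear_combination -hn

/-- an isotropic element generating `N_Q(E)` modulo `E ∩ Q` is impossible -/
theorem rank1 (h : ZC p S Q Z E f g z y φ) (ha : a ∈ Q) (e : ⁅a, y⁆ ∈ E) (ha' : a ∉ E) (h1 : f ⁅⁅a, y⁆, a⁆ = 0)
    (h2 : ∀ w ∈ Q, ⁅w, y⁆ ∈ E → w ∈ E ⊓ Q ⊔ zpowers a) : False := by
  have u1 := h.cq ha h.yS
  have u2 := (h.one u1 ha).2 h1
  have n := h.ns ha e
  have a1 : a ∈ Cn (E ⊓ Q) := mem_Cn_comm.2 fun d hd => by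
    obtain ⟨w, hw, b, ζ, hζ, rfl⟩ := h.surj hd
    rw [h.cz1 hζ (h.eS b) n.1, h.one (h.cq hw h.yS) ha, h.sym h.yS ha hw (h.cy e), ← h.one u1 hw]
    exact comm_one_symm (mem_Cn_comm.1 (mem_Cn_sup (centralizer_le (inf_le_left : E ⊓ Q ≤ E) (h.ab e))
      (comm_one_symm u2)) w (h2 w hw b))
  have i1 := relIndex_sup_zpowers (A := ⊥) mem_Nm_bot (h.eE.2 _ e) fun c => ha' (h.cy' n.1 c)
  have l1 : ⊥ ⊔ zpowers ⁅a, y⁆ ≤ E ⊓ Q := sup_le bot_le (zpowers_le.2 ⟨e, u1⟩)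
  have m1 : ⁅a, y⁆ ∈ ⊥ ⊔ zpowers ⁅a, y⁆ := mem_sup_right (mem_zpowers _)
  generalize ⊥ ⊔ zpowers ⁅a, y⁆ = U at *
  have k1 : ∀ k ∈ Nm E, k ∉ Nm Z → k * z * k⁻¹ ∈ U ⊔ zpowers y := fun k hk hk' => by
    obtain ⟨d, hd, u, hu, u0, b⟩ := h.dec' hk hk'
    obtain ⟨i, hi⟩ := exists_nat_lin (φ d) (mt (h.F0 ha e) ha')
    have c : a ^ i * k * u * (a ^ i * k)⁻¹ = d * y * ⁅a, y⁆ ^ i := by
      have := comm_zpow_left (commutatorElement_eq_one_iff_commute.1 u2) i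
      rw [zpow_natCast, zpow_natCast] at this
      rw [show a ^ i * k * u * (a ^ i * k)⁻¹ = a ^ i * (k * u * k⁻¹) * (a ^ i)⁻¹ by group, b,
        show a ^ i * (d * y) * (a ^ i)⁻¹ = a ^ i * d * (a ^ i)⁻¹ * (a ^ i * y * (a ^ i)⁻¹) by group,
        mem_Cn.1 (pow_mem a1 i) d hd, conj_eq_comm, this, (h.c1 (pow_mem e i) h.yE).eq, mul_assoc]
    have c1 := h.nbH (mul_mem (pow_mem n.2 i) hk) hu u0 (c ▸ (h.p0 _ (mul_mem (mul_mem hd.1 h.yE) (pow_mem e i))).1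
      (by rw [h.pm _ (mul_mem hd.1 h.yE) _ (pow_mem e i), h.pm _ hd.1 _ h.yE, h.py, h.ppow e, add_zero, hi]))
    have c2 : d * y * ⁅a, y⁆ ^ i ∈ zpowers y := by
      rw [← c, ← h.ez, mem_img_cj]; simpa [mul_assoc] using conj_mem_of_norm c1 hu
    exact (h.cj hu u0).le.trans (zpowers_le.2 (b ▸ (Subgroup.mul_mem_cancel_right _ (mem_sup_left (pow_mem m1 i))).1
      (mem_sup_right c2))) (conj_mem_Cj h.hz)
  have b1 : g * a * g⁻¹ ∈ Cn (Cj g (E ⊓ Q)) := cent_cj g a1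
  have b2 : ⁅g * a * g⁻¹, z⁆ ∈ Cj g (E ⊓ Q) := by
    obtain ⟨v, hv, b⟩ := exists_of_Cj ((Cj_eq h.gE).ge (h.zE h.hz))
    exact b ▸ conj_comm g a v ▸ conj_mem_Cj ⟨comm_mem_right n.2 hv, h.cq ha (h.eS hv)⟩
  have b3 : ∀ x ∈ NS S E, x ∉ E → g * x * g⁻¹ * z * (g * x * g⁻¹)⁻¹ ∈ U ⊔ zpowers y := fun x c d =>
    k1 _ (mul_mem (mul_mem h.gE c.2) (Subgroup.inv_mem _ h.gE)) (mt (h.se g h.gE x c d) h.gZ)
  have b4 := b3 a n ha'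
  have b5 := b3 _ (zpow_mem n 2) fun c => ha' (mem_of_zpow_mem' h.pg n.1 c (not_dvd_two h.odd))
  rw [show g * a ^ (2 : ℤ) * g⁻¹ * z * (g * a ^ (2 : ℤ) * g⁻¹)⁻¹ = g * a * g⁻¹ * ⁅g * a * g⁻¹, z⁆ * (g * a * g⁻¹)⁻¹ *
    (g * a * g⁻¹ * z * (g * a * g⁻¹)⁻¹) by simp only [commutatorElement_def, zpow_two]; group, mem_Cn.1 b1 _ b2,
    Subgroup.mul_mem_cancel_right _ b4] at b5
  rw [conj_eq_comm, Subgroup.mul_mem_cancel_left _ b5] at b4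
  have i2 := relIndex_sup_zpowers (A := U) (Cn_le_Nm (centralizer_le (l1.trans inf_le_left) (h.ab h.yE)))
    (h.yp ▸ one_mem _) fun c => h.yQ (l1 c).2
  have b6 := ((eq_or_eq_of_prime (C := (U ⊔ zpowers y) ⊓ Q) i2 (le_inf le_sup_left (l1.trans inf_le_right))
    inf_le_left).resolve_right fun c => h.yQ (c.ge (mem_sup_right (mem_zpowers y))).2).le ⟨b4, h.zq h.hz⟩
  exact ha' (h.nt a ha (le_of_prime i1 bot_le bot_le b6 h.z1 h.hz m1))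

theorem aniso (h : ZC p S Q Z E f g z y φ) (ha : a ∈ Q) (e : ⁅a, y⁆ ∈ E) (h1 : f ⁅⁅a, y⁆, a⁆ = 0) : a ∈ E := by
  by_contra ha'
  refine h.rank1 ha e ha' h1 fun w hw e' => by_contra fun c => ?_
  have a1 : 2 * φ ⁅a, y⁆ + f ⁅⁅a, y⁆, a⁆ ≠ 0 := by
    rw [h1, add_zero]; exact mul_ne_zero (two_ne h.odd) (mt (h.F0 ha e) ha')
  obtain ⟨n, hn⟩ := exists_nat_lin (2 * φ ⁅w, y⁆ + f ⁅⁅w, y⁆, w⁆) a1
  have b1 := mul_mem hw (pow_mem ha n)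
  have b2 := h.Wm hw (pow_mem ha n) e' (h.Wp ha e n)
  have b3 := (h.Lm hw (pow_mem ha n) e' (h.Wp ha e n)).trans (by rw [h.Lp ha e n, hn])
  have b4 : w * a ^ n ∉ E := fun d => c ((Subgroup.mul_mem_cancel_right _ (pow_mem (mem_sup_right (mem_zpowers a)) n)).1
    (mem_sup_left ⟨d, b1⟩))
  generalize w * a ^ n = b at *
  have k : ∀ i : ℕ, i * (2 * f ⁅⁅a, y⁆, b⁆ + i * f ⁅⁅b, y⁆, b⁆) = 0 := fun i => by
    have c1 := h.qm h.yS ha (pow_mem b1 i) (h.cy e)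
    have c2 := h.Lm ha (pow_mem b1 i) e (h.Wp b1 b2 i)
    rw [h.Lp b1 b2, b3, mul_zero, add_zero] at c2
    rw [by_contra fun d => a1 (c2 ▸ h.L0 (mul_mem ha (pow_mem b1 i)) (h.Wm ha (pow_mem b1 i) e (h.Wp b1 b2 i)) d), h1,
      h.bp h.yS b1 b1, h.pr b1 (h.cq ha h.yS)] at c1
    linear_combination -c1
  have k1 := k 1
  have k2 := (mul_eq_zero.1 (k 2)).resolve_left (by simpa using two_ne h.odd)
  refine b4 (h.F0 b1 b2 ((mul_eq_zero.1 ?_).resolve_left (two_ne h.odd)))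
  push_cast at k1 k2
  linear_combination b3 + k1 - k2

theorem eC (h : ZC p S Q Z E f g z y φ) : Q ⊓ Cn (E ⊓ Q) = E ⊓ Q := by
  refine le_antisymm (by_contra fun c => ?_)
    (le_inf inf_le_right (inf_le_left.trans (h.ab.trans (centralizer_le (inf_le_left : E ⊓ Q ≤ E)))))
  obtain ⟨v, v1, v2, -, v3⟩ := exists_fix_mod h.pg (inf_le_left.trans h.le)
    (fun s hs => norm_inf (h.nQ hs) (norm_Cn (h.nD hs))) h.nD c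
  have a := v3 y h.yS
  exact v2 ⟨h.aniso v1.1 a.1 ((h.one a.2 v1.1).1 (mem_Cn_comm.1 v1.2 _ a)), v1.1⟩

theorem Wa (h : ZC p S Q Z E f g z y φ) (hx : x ∈ Q) : ⁅x, y⁆ ∈ E :=
  (h.eC.le ⟨h.cq hx h.yS, mem_Cn_comm.2 fun u hu => comm_one_symm (h.cN h.yS hx hu.2 (h.cy hu.1 ▸ one_mem _))⟩).1

theorem nE (h : ZC p S Q Z E f g z y φ) : S ≤ Nm E :=
  h.sup h.yS h.yQ ▸ sup_le (fun _ hx => (h.ns hx (h.Wa hx)).2) (zpowers_le.2 (le_normalizer h.yE))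

theorem iQ (h : ZC p S Q Z E f g z y φ) : Z.relIndex (E ⊓ Q) = (E ⊓ Q).relIndex Q := by
  have := h.perp' h.zD inf_le_right
  rwa [h.eC] at this

theorem orth (h : ZC p S Q Z E f g z y φ) (hb : b ∈ Q) : ∃ a ∈ Q, a ∉ E ∧ f ⁅⁅b, y⁆, a⁆ = 0 := by_contra fun c =>
  have u := h.cq hb h.yS
  h.nab h.zD inf_le_right (h.i0 ▸ idx_le_of_Cm1 le_Nm_bot (fun x hx => h.el.1 x hx _ u) fun x hx d =>
    ⟨by_contra fun e => c ⟨x, hx, e, (h.one u hx).1 (comm_one_symm d)⟩, hx⟩) (h.eC.ge.trans inf_le_right)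

theorem q2 (h : ZC p S Q Z E f g z y φ) (ha : a ∈ Q) (hb : b ∈ Q) (e : f ⁅⁅a, y⁆, b⁆ = 0) (i j : ℕ) :
    f ⁅⁅a ^ i * b ^ j, y⁆, a ^ i * b ^ j⁆ = i ^ 2 * f ⁅⁅a, y⁆, a⁆ + j ^ 2 * f ⁅⁅b, y⁆, b⁆ := by
  rw [h.qm h.yS (pow_mem ha i) (pow_mem hb j) (h.cy (h.Wa (pow_mem ha i))), h.bp h.yS ha ha, h.bp h.yS hb hb,
    h.bp h.yS ha hb, e]
  ring

theorem dim (h : ZC p S Q Z E f g z y φ) (ha : a ∈ Q) (hb : b ∈ Q) (ha' : a ∉ E) (hb' : b ∉ E)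
    (e : f ⁅⁅a, y⁆, b⁆ = 0) : (E ⊓ Q).relIndex Q = p ^ 2 := by
  have u1 := h.cq ha h.yS
  have u2 := h.cq hb h.yS
  refine le_antisymm ?_ (sq_le_idx h.pgQ fun c => h.nab h.zD inf_le_right c (h.eC.ge.trans inf_le_right))
  rw [idx_mul (B := Q ⊓ Cm1 ⁅a, y⁆ ⊥) (le_inf inf_le_right fun x hx => ⟨mem_Nm_bot, h.eE.1 x hx.1 _ (h.Wa ha)⟩)
    inf_le_left, sq]
  refine Nat.mul_le_mul (h.i0 ▸ idx_le_of_Cm1 le_Nm_bot (fun x hx => h.el.1 x hx.1 _ u2) fun c hc d => ⟨?_, hc.1⟩)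
    (h.i0 ▸ idx_le_of_Cm1 le_Nm_bot (fun x hx => h.el.1 x hx _ u1) fun c hc d => ⟨hc, mem_Nm_bot, d⟩)
  obtain ⟨i, j, e1⟩ := exists_sq_sum h.odd (mt (h.aniso ha (h.Wa ha)) ha') (mt (h.aniso hb (h.Wa hb)) hb') (f ⁅⁅c, y⁆, c⁆)
  have v := mul_mem (pow_mem ha i) (pow_mem hb j)
  have e2 : f ⁅⁅a ^ i * b ^ j, y⁆, c⁆ = 0 := by
    rw [h.nl h.yS (pow_mem ha i) (pow_mem hb j) hc.1, h.np h.yS ha hc.1, h.np h.yS hb hc.1, comm_one_symm hc.2.2,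
      comm_one_symm d, h.f1]; ring
  have e3 := h.nl h.yS v hc.1 hc.1
  rw [h.cy (h.aniso (mul_mem v hc.1) (h.Wa (mul_mem v hc.1)) (by
    rw [h.qm h.yS v hc.1 (h.cy (h.Wa v)), h.q2 ha hb e, e2, e1]; ring)), e2, commutatorElement_one_left, h.f1] at e3
  exact h.aniso hc.1 (h.Wa hc.1) (by linear_combination -e3)

theorem pair (h : ZC p S Q Z E f g z y φ) : ∃ a ∈ Q, ∃ b ∈ Q, a ∉ E ∧ b ∉ E ∧ f ⁅⁅a, y⁆, b⁆ = 0 :=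
  let ⟨a, ha, ha', _⟩ := h.orth (one_mem _)
  let ⟨b, hb, hb', e⟩ := h.orth ha
  ⟨a, ha, b, hb, ha', hb', e⟩

theorem L1 (h : ZC p S Q Z E f g z y φ) (ha : a ∈ Q) : 2 * φ ⁅a, y⁆ + f ⁅⁅a, y⁆, a⁆ = 0 := by
  by_cases c : a ∈ E
  · simp [h.cy c, h.p1, h.f1]
  · exact h.L0 ha (h.Wa ha) (mt (h.aniso ha (h.Wa ha)) c)

theorem tr (h : ZC p S Q Z E f g z y φ) (hk : k ∈ Nm E) (hk' : k ∉ Nm Z) : ∃ v ∈ Q, g⁻¹ * (v * k) ∈ Nm Z := by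
  obtain ⟨d, hd, u, hu, u0, e⟩ := h.dec' hk hk'
  obtain ⟨w, hw, -, ζ, hζ, rfl⟩ := h.surj hd
  obtain ⟨a, ha, b, hb, ha', hb', e1⟩ := h.pair
  obtain ⟨i, j, e2⟩ := exists_sq_sum h.odd (mt (h.aniso ha (h.Wa ha)) ha') (mt (h.aniso hb (h.Wa hb)) hb') (-(2 * f ζ))
  have v := mul_mem (pow_mem ha i) (pow_mem hb j)
  have e3 := h.L1 v
  rw [← h.q2 ha hb e1] at e2
  generalize a ^ i * b ^ j = c at *
  have v' := mul_mem v (Q.inv_mem hw)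
  refine ⟨_, v', h.nbH (mul_mem (h.nE (h.le v')) hk) hu u0 ?_⟩
  rw [show c * w⁻¹ * k * u * (c * w⁻¹ * k)⁻¹ = c * w⁻¹ * (k * u * k⁻¹) * (c * w⁻¹)⁻¹ by group, e,
    show c * w⁻¹ * (ζ * ⁅w, y⁆ * y) * (c * w⁻¹)⁻¹ = c * w⁻¹ * ζ * (c * w⁻¹)⁻¹ * (⁅c, y⁆ * y) by
      simp only [commutatorElement_def]; group, mem_Cn.1 (h.cS (h.le v')) ζ hζ]
  have m := mul_mem (h.Wa v) h.yE
  rw [← h.p0 _ (mul_mem (h.zE hζ) m), h.pm _ (h.zE hζ) _ m, h.pm _ (h.Wa v) _ h.yE, h.py, h.pf ζ hζ]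
  exact (mul_eq_zero.1 (by linear_combination e3 - e2)).resolve_left (two_ne h.odd)

theorem stab (h : ZC p S Q Z E f g z y φ) (hk : k ∈ Nm E) (hk' : k ∈ Nm Z) : k ∈ Nm (E ⊓ Q) := by
  have l : Cj k (E ⊓ Q) ≤ E := Cj_le hk inf_le_left
  refine norm_of_Cj_le (le_inf l (by_contra fun c => h.gZ ?_))
  obtain ⟨d, hd, e⟩ := h.dec l c
  obtain ⟨w, hw, -, ζ, hζ, rfl⟩ := h.surj hd
  rw [mul_assoc, Subgroup.mul_mem_cancel_left _ (le_Cj hk' h.zD hζ), ← conj_eq_comm, ← h.ey] at e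
  have := h.nb _ (mul_mem (mul_mem (Subgroup.inv_mem _ hk) (h.nE (h.le hw))) h.gE) z h.hz h.z1
    (by simpa [mul_assoc] using (mem_img_cj.1 e).2)
  exact (Subgroup.mul_mem_cancel_left _ (mul_mem (Subgroup.inv_mem _ hk') (h.nZ (h.le hw)))).1 this

/-- an element inducing a reflection -/
theorem refl (h : ZC p S Q Z E f g z y φ) (hw : w ∈ Q) (hw' : w ∉ E) : ∃ n ∈ Nm E, n * g ∈ Nm Z ∧
    (∀ c ∈ E ⊓ Q, c ∈ Cj g (E ⊓ Q) → ⁅w, c⁆ = 1 → n * c * n⁻¹ = c) ∧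
    ∀ u ∈ Cj g (E ⊓ Q), ∀ ζ ∈ Z, ⁅w, y⁆ = ζ * u → u * (n * u * n⁻¹) ∈ Z := by
  have w1 := h.nE (h.le hw)
  have g1 := Subgroup.inv_mem _ h.gE
  obtain ⟨v₁, a1, a2⟩ := h.tr (mul_mem (mul_mem g1 w1) h.gE) (mt (h.mem h.gE h.gZ ⟨h.le hw, w1⟩) hw')
  obtain ⟨v₂, b1, b2⟩ := h.tr g1 (mt (Subgroup.inv_mem_iff _).1 h.gZ)
  have v := mul_mem (Q.inv_mem b1) a1
  have n1 : g * (v₂⁻¹ * v₁) * g⁻¹ * w * g ∈ Nm Z := by
    simpa [mul_assoc] using mul_mem (Subgroup.inv_mem _ b2) a2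
  have k1 : ∀ e ∈ Cj g (E ⊓ Q), ⁅g * (v₂⁻¹ * v₁) * g⁻¹, e⁆ ∈ Cj g Z := fun e he => by
    obtain ⟨d, hd, rfl⟩ := exists_of_Cj he
    exact conj_comm g _ d ▸ conj_mem_Cj (h.el.1 _ v d hd.2)
  have k2 : g * (v₂⁻¹ * v₁) * g⁻¹ ∈ Cn (Cj g Z) := cent_cj g (h.cS (h.le v))
  have n2 : g * (v₂⁻¹ * v₁) * g⁻¹ ∈ Nm E := mul_mem (mul_mem h.gE (h.nE (h.le v))) g1
  generalize g * (v₂⁻¹ * v₁) * g⁻¹ = s at *
  have n3 := mul_mem n2 w1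
  have k3 : ∀ e ∈ Cj g (E ⊓ Q), s * w * e * (s * w)⁻¹ ∈ Q := fun e he => by
    simpa [mul_assoc] using (conj_mem_of_norm (h.stab (mul_mem n3 h.gE) n1) (mem_img_cj.1 he)).2
  have k4 : ∀ e, s * w * e * (s * w)⁻¹ = s * (⁅w, e⁆ * e) * s⁻¹ := fun e => by rw [← conj_eq_comm]; group
  refine ⟨_, n3, n1, fun c c1 c2 c3 => ?_, fun u hu ζ hζ e => ?_⟩
  · have := k3 c c2
    rw [k4, c3, one_mul, conj_eq_comm] at this ⊢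
    rw [h.zq1 (k1 c c2) ((Q.mul_mem_cancel_right c1.2).1 this), one_mul]
  have u1 : u ∈ Q := (Q.mul_mem_cancel_left (h.zq hζ)).1 (e ▸ h.cq hw h.yS)
  have u2 := h.hE hu
  have e1 : ⁅w, u⁆ = ζ * ζ := h.ext (h.el.1 w hw u u1) (mul_mem hζ hζ) (by
    have := h.L1 hw
    rw [e, h.pm _ (h.zE hζ) _ u2, (h.p0 u u2).2 hu, h.pf ζ hζ, h.cz1 hζ (h.le u1) (h.le hw), h.anti u1 hw] at this
    rw [h.fm ζ hζ ζ hζ]; linear_combination -this)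
  have e2 : s * w * y * (s * w)⁻¹ ∈ Z := by
    simpa [← h.ey, mul_assoc] using conj_mem_of_norm n1 h.hz
  have e3 := mul_mem u1 (k3 u hu)
  rw [k4, e, show s * (ζ * u * y) * s⁻¹ = s * ζ * s⁻¹ * (s * u * s⁻¹) * (s * y * s⁻¹) by group, mem_Cn.1 k2 y h.yZ,
    conj_eq_comm s u] at e2
  rw [k4, e1, show s * (ζ * ζ * u) * s⁻¹ = s * ζ * s⁻¹ * (s * ζ * s⁻¹) * (s * u * s⁻¹) by group, conj_eq_comm s u,
    ac_inv h.ab (conj_mem_of_norm n2 (h.zE hζ)) (h.zE' h.gE (k1 u hu)) u2 h.yE] at e3 ⊢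
  rw [h.zq1 (Subgroup.inv_mem _ (mul_mem (mul_mem h.yZ h.yZ) (k1 u hu)))
    ((Q.mul_mem_cancel_left (h.zq (mul_mem e2 e2))).1 e3), mul_one]
  exact mul_mem e2 e2

theorem expo (h : ZC p S Q Z E f g z y φ) (hx : x ∈ Q) : x ^ p = 1 := by
  obtain ⟨a, ha, b, hb, ha', hb', e⟩ := h.pair
  have i2 := h.dim ha hb ha' hb' e
  have k : ∀ a ∈ Q, ∃ u ∈ E ⊓ Q, u ∈ Cj g (E ⊓ Q) ∧ (∃ ζ ∈ Z, ⁅a, y⁆ = ζ * u) ∧ ∀ b ∈ Q, ⁅b, u⁆ = 1 ↔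
      f ⁅⁅a, y⁆, b⁆ = 0 := fun a ha => by
    obtain ⟨ζ, hζ, c⟩ := h.split (h.Wa ha)
    have d := h.cq ha h.yS
    refine ⟨_, mul_mem (h.zD (Z.inv_mem hζ)) ⟨h.Wa ha, d⟩, c, ⟨ζ, hζ, by simp⟩, fun b hb => ?_⟩
    rw [← h.one d hb, ← h.cz1 (Z.inv_mem hζ) (h.le d) (h.le hb)]
    exact ⟨comm_one_symm, comm_one_symm⟩
  obtain ⟨u, u1, u2, ⟨ζ, hζ, u3⟩, u4⟩ := k a ha
  obtain ⟨v, v1, v2, ⟨ξ, hξ, v3⟩, v4⟩ := k b hb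
  obtain ⟨n, n1, n2, n3, n4⟩ := h.refl ha ha'
  obtain ⟨m, m1, m2, m3, m4⟩ := h.refl hb hb'
  have u5 := (u4 b hb).2 e
  have v5 := (v4 a ha).2 ((h.sym h.yS ha hb (h.cy (h.Wa ha))).trans e)
  have k1 : n * m⁻¹ ∈ Nm Z := by simpa using mul_mem n2 (Subgroup.inv_mem _ m2)
  have k2 := mul_mem n1 (Subgroup.inv_mem _ m1)
  have k3 := h.stab k2 k1
  have l1 : Z < Z ⊔ zpowers u := lt_sup_zp fun c => ha' (h.nt a ha (u3 ▸ mul_mem hζ c))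
  have l2 : v ∉ Z ⊔ zpowers u := fun c => hb' (h.aniso hb (h.Wa hb) ((v4 b hb).1 (comm_one_symm
    (mem_Cn_comm.1 (mem_Cn_sup (h.cS (h.le hb)) (comm_one_symm u5)) v c))))
  have l3 : Z ⊔ zpowers u ≤ E ⊓ Q := sup_le h.zD (zpowers_le.2 u1)
  have w1 : WtOn (n * m⁻¹) (E ⊓ Q) Z (-1) := fun c hc => by
    refine ((sup_zpowers_eq (relIndex_eq_of_sq (h.pgE.to_le inf_le_left) l1 (lt_of_le_not_ge l3 fun d => l2 (d v1))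
      (h.iQ.trans i2).le).2 l3 v1 l2).ge.trans (sup_le (sup_le (fun _ d => ⟨h.zD d, ?_⟩) (zpowers_le.2 ⟨u1, ?_⟩))
      (zpowers_le.2 ⟨v1, ?_⟩) : _ ≤ Ev ((inf_le_right.trans h.le).trans h.nZ) (fun _ a _ b => h.el.1 _ a.2 _ b.2) k1 (-1))
      hc).2
    · exact mul_mem (Z.inv_mem (zpow_mem d _)) (conj_mem_of_norm k1 d)
    · rw [Wt, show n * m⁻¹ * u * (n * m⁻¹)⁻¹ = n * (m⁻¹ * u * m) * n⁻¹ by group, show m⁻¹ * u * m = u by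
        conv_lhs => rw [← m3 u u1 u2 u5]
        group]
      simpa using n4 u u2 ζ hζ u3
    · have := conj_mem_of_norm k1 (m4 v v2 ξ hξ v3)
      rw [show n * m⁻¹ * (v * (m * v * m⁻¹)) * (n * m⁻¹)⁻¹ = n * m⁻¹ * v * (n * m⁻¹)⁻¹ * (n * v * n⁻¹) by group,
        n3 v v1 v2 v5, (h.c1 (conj_mem_of_norm k2 v1.1) v1.1).eq] at this
      simpa [Wt] using this
  have e1 : NS S E = S := le_antisymm NS_le (le_inf le_rfl h.nE)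
  have f1 := h.eE.Fr_le le_rfl
  obtain ⟨r, r1, r2⟩ := ext_norm h.sat (h.sat.ess_fn h.ess) k2 (by
    rw [← le_antisymm (syl_ch h.sat (h.sat.ess_fn h.ess) h.zD inf_le_left (NS_le.trans h.nZ) (NS_le.trans h.nD))
      (sup_le (fun s hs => ⟨⟨mem_Tr_of_le inf_le_left fun c d => ⟨comm_mem_left hs.2 d, comm_symm (comm_of_cyc h.nQ
        (h.sup h.yS h.yQ) (fun _ a _ => h.cq a) hs.1 (h.eS d))⟩, mem_Tr_of_le h.zD fun c d =>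
        ((mem_Cm (h.le.trans h.nZ)).1 (h.eK.ge d)).2 s hs.1⟩, Tr.mono (mem_Tr_bot.2 (h.cS hs.1)) le_rfl bot_le
        (f1.trans bot_le)⟩) (Cn_le_Ch (f1.trans bot_le) h.zD inf_le_left))]
    exact norm_Ch k2 k3 k1)
  rw [e1] at r1
  replace w1 := w1.of_eq fun c hc => same_of_Cn r2 hc.1
  have r3 := h.chQ (by rw [h.eK, i2]; exact lt_self_pow₀ (Fact.out : p.Prime).one_lt one_lt_two) r1
  obtain ⟨ν, w2⟩ := exists_wt h.pgZ bot_le h.i0 (h.chZ r1) mem_Nm_bot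
  have x1 := conj_mem_of_norm r3 hx
  have w3 : Wt r (E ⊓ Q) x (-ν) := h.eC.le ⟨mul_mem (Q.inv_mem (zpow_mem hx _)) x1, mem_Cn_comm.2 fun c hc => by
    have c1 := h.el.1 c hc.2 x hx
    have c2 := congrArg f (inv_mul_eq_one.1 (mem_bot.1 (w2 _ c1)))
    have c3 := w1 c hc
    rw [h.fz c1, conj_comm, ← mul_inv_cancel_left (c ^ (-1 : ℤ)) (r * c * r⁻¹), comm_mul_cancel (h.cz' c3 (h.le x1)),
      zpow_neg_one, h.il hc.2 x1] at c2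
    rw [h.one hc.2 (mul_mem (Q.inv_mem (zpow_mem hx _)) x1), h.mr (Q.inv_mem (zpow_mem hx _)) x1 hc.2,
      h.ir (zpow_mem hx _) hc.2, h.pz hx hc.2]
    push_cast; linear_combination c2⟩
  exact mem_bot.1 (Wt.mem h.pgZ (h.el.2 x hx) (wt_pow h.odd h.cl2 inf_le_right (fun c d => h.eE.2 c d.1) hx w3)
    (w2 _ (h.el.2 x hx)) fun c => ((Nat.prime_iff_prime_int.1 Fact.out).dvd_or_dvd
      (show (p : ℤ) ∣ 2 * ν by rwa [two_mul, ← sub_neg_eq_add])).elim (not_dvd_two h.odd)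
      (w2.unit h.i0 le_Nm_bot mem_Nm_bot))

theorem caseB (h : ZC p S Q Z E f g z y φ) : Nat.card S = p ^ 6 ∧ ∃ δ : ℕ, ¬ IsSquare (-δ : ZMod p) ∧
    ∃ g, PC p 6 (wB 1 0 δ) g ∧ KK g 6 0 = S ∧ g 5 ∈ Z := by
  obtain ⟨a, ha, b, hb, ha', hb', e⟩ := h.pair
  have i2 := h.dim ha hb ha' hb' e
  have i4 : Z.relIndex Q = p ^ 4 := by rw [idx_mul h.zD inf_le_right, h.iQ, i2, ← pow_add]
  have q1 := mt (h.aniso ha (h.Wa ha)) ha'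
  have q2 := mt (h.aniso hb (h.Wa hb)) hb'
  obtain ⟨δ, hδ⟩ := ZMod.natCast_zmod_surjective (f ⁅⁅b, y⁆, b⁆ / f ⁅⁅a, y⁆, a⁆)
  replace hδ : f ⁅⁅b, y⁆, b⁆ = δ * f ⁅⁅a, y⁆, a⁆ := by rw [hδ, div_mul_cancel₀ _ q1]
  refine ⟨by rw [card_eq_mul' (h.zq.trans h.le), idx_mul h.zq h.le, h.cz, i4, h.idx]; ring, δ, fun ⟨s, hs⟩ => q2 ?_,
    h.toXS.aniso i4.le (fun _ => h.expo) h.yS h.yQ h.yp ha hb (h.cy (h.Wa ha)) (h.cy (h.Wa hb)) e q1 q2 hδ⟩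
  obtain ⟨i, rfl⟩ := ZMod.natCast_zmod_surjective s
  have v := mul_mem (pow_mem ha i) (pow_mem hb 1)
  have c := h.nl h.yS (pow_mem ha i) (pow_mem hb 1) hb
  rw [h.cy (h.aniso v (h.Wa v) (by rw [h.q2 ha hb e, hδ]; linear_combination -f ⁅⁅a, y⁆, a⁆ * hs)),
    commutatorElement_one_left, h.f1, h.np h.yS ha hb, e, pow_one] at c
  linear_combination -c

end ZC

end CF.FusC
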