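import Cfsg.Agent.FusC.Q
import Cfsg.Agent.Fus.Pearl

/-! Pearls in a group with an extraspecial subgroup of index `p`. -/

set_option autoImplicit false
set_option linter.style.haveILetI false
set_option linter.unusedSectionVars false
set_option linter.unusedVariables false

namespace CF.FusC

open Cfsg Subgroup CF.Fus
open scoped commutatorElement

universe u

variable {G : Type u} [Group G] {p : ℕ} {A B C D E H K M N O P Q R S T U V W X Y Z : Subgroup G}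
  {a b c d e g k n r s t u v w x y z ζ τ : G} {l m : ℤ} {f φ : G → ZMod p} {i j : ℕ}

/-- the upper central series above `Z`, inside `Q` -/
def WW (S Q Z : Subgroup G) : ℕ → Subgroup G
  | 0 => Z
  | i + 1 => Cm Q S (WW S Q Z i)

variable [Fact p.Prime] [Finite G]

theorem ext_ch' (hF : Sat (FT S) p) (hP : (FT S).IsFullyNormalized P) (h1 : Fr P ≤ Y) (h2 : Y ≤ P)
    (i1 : (Fr P).relIndex Y ≤ p) (i2 : Y.relIndex P ≤ p) (n2 : NS S P ≤ Nm Y) (hg : g ∈ Nm P) (hg' : g ∈ Nm Y)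
    (hc : Cop p g) : ∃ n ∈ Nm (NS S P), Cop p n ∧ n⁻¹ * g ∈ Cn P := by
  have n1 : NS S P ≤ Nm (Fr P) := fun _ a => norm_Fr a.2
  refine ext_cop hF hP hg hc ?_
  rw [← le_antisymm (syl_ch hF hP h1 h2 n1 n2) (sup_le (le_Ch_of_idx (hF.pgroup NS_le) (hF.pgroup hP.1) le_rfl h1 h2
    (by rw [relIndex_self]; exact (Fact.out : p.Prime).pos) i1 i2 n1 n2 NS_le_norm) (Cn_le_Ch le_rfl h1 h2))]
  exact norm_Ch hg hg' (norm_Fr hg)

namespace XS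

theorem Wb (h : XS p S Q Z f) (i : ℕ) : Z ≤ WW S Q Z i ∧ WW S Q Z i ≤ Q ∧
    ∀ k ∈ Nm S, k ∈ Nm Q → k ∈ Nm (WW S Q Z i) := by
  induction i with
  | zero => exact ⟨le_rfl, h.zq, fun _ a _ => h.chZ a⟩
  | succ i ih =>
    have a := h.nm ih.1 ih.2.1
    exact ⟨ih.1.trans (le_Cm a ih.2.1 fun s hs => ih.2.2 s (le_normalizer hs) (h.nQ hs)), Cm_le,
      fun k b c => norm_Cm a c b (ih.2.2 k b c)⟩

theorem Wz (h : XS p S Q Z f) : Z ≤ WW S Q Z i := (h.Wb i).1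
theorem Wq (h : XS p S Q Z f) : WW S Q Z i ≤ Q := (h.Wb i).2.1
theorem Wn (h : XS p S Q Z f) : S ≤ Nm (WW S Q Z i) := fun s hs => (h.Wb i).2.2 s (le_normalizer hs) (h.nQ hs)
theorem Ws (h : XS p S Q Z f) : WW S Q Z i ≤ WW S Q Z (i + 1) := le_Cm (h.le.trans h.Wn) h.Wq h.Wn
theorem mem_W (h : XS p S Q Z f) (ht : t ∈ S) (ht' : t ∉ Q) : x ∈ WW S Q Z (i + 1) ↔ x ∈ Q ∧ ⁅x, t⁆ ∈ WW S Q Z i :=
  h.mem_K h.Wz h.Wn ht ht'
theorem Wc (h : XS p S Q Z f) (hx : x ∈ WW S Q Z (i + 1)) (hs : s ∈ S) : ⁅x, s⁆ ∈ WW S Q Z i :=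
  ((mem_Cm (h.le.trans h.Wn)).1 hx).2 s hs
theorem Wne (h : XS p S Q Z f) (hij : i ≤ j) (e : WW S Q Z j ≠ Q) : WW S Q Z i ≠ Q := fun c =>
  e (le_antisymm h.Wq (c.ge.trans (monotone_nat_of_le_succ (f := WW S Q Z) (fun _ => h.Ws) hij)))

theorem Wit (h : XS p S Q Z f) (ht : t ∈ S) (ht' : t ∉ Q) (n : ℕ) : ∀ x ∈ Q,
    (fun v => ⁅v, t⁆)^[n] x ∈ Z → x ∈ WW S Q Z n := by
  induction n with
  | zero => exact fun _ _ => id
  | succ n ih => exact fun x hx c => (h.mem_W ht ht').2 ⟨hx, ih _ (h.cq hx ht) c⟩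

theorem fn (h : XS p S Q Z f) (hb : p ^ 4 ≤ Z.relIndex Q) (hE : (FT S).IsCentric E) (hc : Nat.card E = p ^ 2)
    (h1 : E ≤ T) (h2 : T < S) : (FT S).IsFullyNormalized T := fn_iff.2 ⟨h2.le, fun T' φ hφ => by
  have pp : p.Prime := Fact.out
  have a1 := centric_CS_le (centric_iso hE (hφ.restrict h1))
  have a2 := ((hφ.restrict h1).card_eq.symm.trans hc)
  have a3 := hφ.piso.img_le h1
  have a4 : T' ≤ S := hφ.le'
  generalize img φ E = E' at *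
  have a5 : Z ≤ E' := (le_inf (h.zq.trans h.le) (Cn_symm ((a3.trans a4).trans h.cS))).trans a1
  have i1 : Z.relIndex E' = p := Nat.eq_of_mul_eq_mul_left pp.pos (by rw [← sq, ← a2, card_eq_mul' a5, h.cz])
  obtain ⟨y, y1, y2⟩ := exists_of_prime i1
  have k : ∀ x ∈ S, ⁅x, y⁆ ∈ (⊥ : Subgroup G) → x ∈ E' := fun x a b =>
    a1 ⟨a, sup_zpowers_eq i1 a5 y1 y2 ▸ mem_Cn_sup (h.cS a) (comm_one_symm b)⟩
  have y3 : y ∉ Q := fun c => by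
    rw [idx_mul (le_inf h.zq a5) inf_le_left, inf_relIndex_left] at hb
    have := hb.trans (Nat.mul_le_mul ((relIndex_le_of_le_right inf_le_right relIndex_ne_zero').trans i1.le)
      (h.i0 ▸ idx_le_of_Cm1 le_Nm_bot (fun x hx => h.el.1 x hx y c) fun x hx => k x (h.le hx)))
    rw [← sq] at this
    exact absurd ((Nat.pow_le_pow_iff_right pp.one_lt).1 this) (by omega)
  have b1 := idx_le_of_Cm1 (P := NS S T') (A := T' ⊓ Q) le_Nm_bot (fun x hx => ⟨comm_mem_right hx.2 (a3 y1),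
    comm_of_cyc h.nQ (h.sup (a4 (a3 y1)) y3) (fun _ a _ => h.cq a) hx.1 (a4 (a3 y1))⟩) fun x hx => k x hx.1
  have b2 := card_eq_mul' (inf_le_left : T' ⊓ Q ≤ T')
  rw [idx_inf h.pg a4 h.idx fun c => y3 (c (a3 y1)), ← hφ.card_eq] at b2
  rw [relIndex_bot_left] at b1
  rw [card_eq_mul' (a3.trans (le_NS a4)), card_eq_mul' (le_NS h2.le), a2, b2]
  refine (Nat.mul_le_mul_left _ b1).trans (le_of_eq_of_le (by ring)
    (Nat.mul_le_mul_left _ (le_idx (h.pg.to_le NS_le) (lt_NS h.pg h2))))⟩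

end XS

/-- a pearl -/
structure PL (p : ℕ) (S Q Z E : Subgroup G) (f : G → ZMod p) (g z y : G) : Prop extends ZB p S Q Z E f g z y where
  dz : E ⊓ Q ≤ Z

namespace PL

theorem c0 (h : PL p S Q Z E f g z y) (hx : x ∈ Q) (e : ⁅x, y⁆ ∈ (⊥ : Subgroup G)) : x ∈ Z :=
  h.dz ⟨h.cy' (h.le hx) e, hx⟩

theorem eT (h : PL p S Q Z E f g z y) : Z ⊔ zpowers y = E := le_antisymm h.dz h.zD ▸ h.sE

theorem iZ (h : PL p S Q Z E f g z y) : Z.relIndex E = p := le_antisymm h.dz h.zD ▸ h.iD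

theorem card (h : PL p S Q Z E f g z y) : Nat.card E = p ^ 2 := by rw [card_eq_mul' h.zE, h.cz, h.iZ, sq]

theorem ile (h : PL p S Q Z E f g z y) (i : ℕ) : (WW S Q Z i).relIndex (WW S Q Z (i + 1)) ≤ p := by
  induction i with
  | zero => exact h.i0 ▸ idx_le_of_Cm1 le_Nm_bot (fun x hx => h.Wc hx h.yS) fun x hx => h.c0 (h.Wq hx)
  | succ i ih =>
    exact (idx_le_of_Cm1 ((h.Wq.trans h.le).trans h.Wn) (fun x hx => h.Wc hx h.yS) fun x hx c =>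
      (h.mem_W h.yS h.yQ).2 ⟨h.Wq hx, c⟩).trans ih

theorem ieq (h : PL p S Q Z E f g z y) (e : WW S Q Z i ≠ Q) : (WW S Q Z i).relIndex (WW S Q Z (i + 1)) = p :=
  relIndex_eq_prime (h.pgQ.to_le h.Wq) (lt_Cm h.pg h.pgQ h.nQ h.Wn (h.le.trans h.Wn) (lt_of_le_of_ne h.Wq e)).not_ge
    (h.ile i)

theorem ipow (h : PL p S Q Z E f g z y) (i : ℕ) : (∀ j < i, WW S Q Z j ≠ Q) → Z.relIndex (WW S Q Z i) = p ^ i := by
  induction i with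
  | zero => exact fun _ => relIndex_self _
  | succ i ih => exact fun a => by rw [idx_mul h.Wz h.Ws, ih fun j c => a j (by omega), h.ieq (a i (by omega)), pow_succ]

theorem exists_r (h : PL p S Q Z E f g z y) : ∃ r, 3 ≤ r ∧ r + 1 ≤ p ∧ WW S Q Z r ≠ Q ∧ WW S Q Z (r + 1) = Q ∧
    Z.relIndex Q = p ^ (r + 1) := by
  classical
  have a : WW S Q Z p = Q := le_antisymm h.Wq fun x hx => h.Wit h.yS h.yQ p x hx
    (eng_mem h.odd h.el h.zq (h.nQ h.yS) (h.nZ h.yS) (h.yp ▸ one_mem _) hx)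
  have b := Nat.find_spec (⟨p, a⟩ : ∃ r, WW S Q Z r = Q)
  have c := fun j => Nat.find_min (m := j) (⟨p, a⟩ : ∃ r, WW S Q Z r = Q)
  have d := Nat.find_min' (⟨p, a⟩ : ∃ r, WW S Q Z r = Q) a
  generalize Nat.find (⟨p, a⟩ : ∃ r, WW S Q Z r = Q) = r at *
  have e := h.ipow r c
  rw [b] at e
  have := (Nat.pow_le_pow_iff_right (Fact.out : p.Prime).one_lt).1 (e ▸ h.big)
  obtain ⟨r, rfl⟩ : ∃ s, r = s + 1 := ⟨r - 1, by omega⟩
  exact ⟨r, by omega, d, c r (by omega), b, e⟩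

theorem gen (h : PL p S Q Z E f g z y) (e : WW S Q Z (i + 1) ≠ Q) :
    ∃ w ∈ WW S Q Z (i + 2), WW S Q Z i ⊔ zpowers ⁅w, y⁆ = WW S Q Z (i + 1) :=
  let ⟨w, a, b⟩ := exists_of_prime (h.ieq e)
  ⟨w, a, sup_zpowers_eq (h.ieq (h.Wne (Nat.le_succ i) e)) h.Ws (h.Wc a h.yS) fun c =>
    b ((h.mem_W h.yS h.yQ).2 ⟨h.Wq a, c⟩)⟩

theorem cW (h : PL p S Q Z E f g z y) (i : ℕ) : WW S Q Z i ≠ Q → WW S Q Z i ≤ Cn (WW S Q Z 1) := by
  induction i with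
  | zero => exact fun _ => Cn_symm ((h.Wq.trans h.le).trans h.cS)
  | succ i ih =>
    intro e
    obtain ⟨w, a, b⟩ := h.gen e
    exact b ▸ sup_le (ih (h.Wne (Nat.le_succ i) e)) (zpowers_le.2 (mem_Cn_comm.2 fun u hu =>
      comm_one_symm (h.cN h.yS (h.Wq a) (h.Wq hu) (h.Wc hu h.yS))))

theorem tS (h : PL p S Q Z E f g z y) : WW S Q Z i ⊔ zpowers y ≤ S := sup_le (h.Wq.trans h.le) (zpowers_le.2 h.yS)

theorem eT' (h : PL p S Q Z E f g z y) : E ≤ WW S Q Z i ⊔ zpowers y := h.eT.ge.trans (sup_le_sup_right h.Wz _)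

theorem iT (h : PL p S Q Z E f g z y) : (WW S Q Z i).relIndex (WW S Q Z i ⊔ zpowers y) = p :=
  relIndex_sup_zpowers (h.Wn h.yS) (h.yp ▸ one_mem _) fun c => h.yQ (h.Wq c)

theorem inf (h : PL p S Q Z E f g z y) (h1 : WW S Q Z i ≤ K) (h2 : y ∉ K) :
    (WW S Q Z i ⊔ zpowers y) ⊓ K = WW S Q Z i :=
  (eq_or_eq_of_prime h.iT (le_inf le_sup_left h1) inf_le_left).resolve_right fun c =>
    h2 (c.ge (mem_sup_right (mem_zpowers y))).2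

theorem lt (h : PL p S Q Z E f g z y) (e : WW S Q Z i ≠ Q) : WW S Q Z i ⊔ zpowers y < S :=
  lt_of_le_of_ne h.tS fun c => e (by rw [← h.inf h.Wq h.yQ, c, inf_eq_right.2 h.le])

theorem ns (h : PL p S Q Z E f g z y) : NS S (WW S Q Z i ⊔ zpowers y) = WW S Q Z (i + 1) ⊔ zpowers y := by
  have a : y ∈ NS S (WW S Q Z i ⊔ zpowers y) := le_NS h.tS (mem_sup_right (mem_zpowers y))
  refine le_antisymm ((sup_zpowers_eq (idx_inf h.pg NS_le h.idx fun c => h.yQ (c a)) inf_le_left a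
    fun c => h.yQ c.2).ge.trans (sup_le_sup_right (fun x hx => (h.mem_W h.yS h.yQ).2 ⟨hx.2, (h.inf h.Wq h.yQ).le
      ⟨comm_mem_right hx.1.2 (mem_sup_right (mem_zpowers y)), h.cq hx.2 h.yS⟩⟩) _))
    (sup_le (fun x hx => ⟨h.le (h.Wq hx), (mem_Tr_of_le le_sup_left fun u hu => comm_symm (h.Wc hx (h.tS hu))).1⟩)
      (zpowers_le.2 a))

theorem fr (h : PL p S Q Z E f g z y) (i : ℕ) : WW S Q Z i ≠ Q → WW S Q Z i ≤ Fr (WW S Q Z (i + 1) ⊔ zpowers y) := by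
  have k : ∀ i, ∀ w ∈ WW S Q Z i, ⁅w, y⁆ ∈ Fr (WW S Q Z i ⊔ zpowers y) := fun i w a =>
    (el_Fr (h.pg.to_le h.tS)).1 w (mem_sup_left a) y (mem_sup_right (mem_zpowers y))
  induction i with
  | zero =>
    intro e
    obtain ⟨w, a, b⟩ := exists_of_prime (h.ieq e)
    exact (h.zgen (h.Wc a h.yS) fun c => b (h.c0 (h.Wq a) c)).ge.trans (zpowers_le.2 (k 1 w a))
  | succ i ih =>
    intro e
    obtain ⟨w, a, b⟩ := h.gen e
    exact b ▸ sup_le ((ih (h.Wne (Nat.le_succ i) e)).trans (Fr_mono (h.pg.to_le h.tS) (sup_le_sup_right h.Ws _)))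
      (zpowers_le.2 (k _ w a))

theorem fn (h : PL p S Q Z E f g z y) (e : WW S Q Z i ≠ Q) : (FT S).IsFullyNormalized (WW S Q Z i ⊔ zpowers y) :=
  h.toXS.fn h.big (h.sat.ess_iff.1 h.ess).1 h.card h.eT' (h.lt e)

theorem ch (h : PL p S Q Z E f g z y) (h2 : WW S Q Z 2 ≠ Q) (hk : k ∈ Nm S) : k ∈ Nm Q := h.chQ (by
  rw [show Cm Q S Z = WW S Q Z 1 from rfl, idx_mul (h.Ws (i := 1)) h.Wq, h.ieq (h.Wne one_le_two h2)]
  exact (lt_mul_iff_one_lt_right (Fact.out : p.Prime).pos).2 ((Fact.out : p.Prime).one_lt.trans_le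
    (le_idx h.pgQ (lt_of_le_of_ne h.Wq h2)))) hk

theorem base (h : PL p S Q Z E f g z y) (h1 : WW S Q Z 1 ≠ Q) (hl : (p : ℤ) ∣ l * m - 1) :
    ∃ τ ∈ Nm (WW S Q Z 1 ⊔ zpowers y), τ ∈ Nm (WW S Q Z 1) ∧ Cop p τ ∧ WtOn τ Z ⊥ l ∧ WtOn τ E Z m := by
  have pp : p.Prime := Fact.out
  have e1 : NS S E = WW S Q Z 1 ⊔ zpowers y := h.eT ▸ h.ns (i := 0)
  have := ess_dich h.sat h.odd h.ess ((relIndex_le_of_le_left bot_le relIndex_ne_zero').trans (by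
    rw [relIndex_bot_left, h.card]; exact Nat.pow_le_pow_right pp.pos (by omega)))
  rw [e1] at this
  obtain ⟨s, s1, s2⟩ := SetLike.exists_of_lt (e1 ▸ h.sat.ess_NS h.ess)
  obtain ⟨C, D, q⟩ := this.resolve_left fun j =>
    let ⟨e, a, b⟩ := j.j3 s s1 s2
    b (h.zl (Tr.comm (le_Tr_of_idx j.pg h.pgE h.zE h.iZ.le j.nm (h.tS.trans h.nZ) s1) a) (h.tS s1) ▸ one_mem _)
  obtain rfl : C = ⊥ := card_eq_one.1 (Nat.eq_of_mul_eq_mul_right (pow_pos pp.pos 2)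
    (by rw [← q.card, h.card, one_mul]))
  obtain rfl : Z = D := ((eq_or_eq_of_prime h.iZ (fun e a => by_contra fun c => q.nd e (h.zE a) c s s1 s2
    (h.zl a (h.tS s1))) q.de).resolve_right (lt_of_prime q.de q.i1).ne).symm
  have e2 : (WW S Q Z 1 ⊔ zpowers y) ⊓ Cn (WW S Q Z 1 ⊔ zpowers y) = Z := le_antisymm
    (fun u a => q.cen a.1 fun v b => comm_symm (bot_of_Cn a.2 b)) (le_inf q.dn (Cn_symm (h.tS.trans h.cS)))
  obtain ⟨A, n⟩ := exists_nn h.sat h.odd h.ess e1 (h.fn h1) (h.lt h1) q (fun k a => e2 ▸ norm_inf a (norm_Cn a))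
    ((relIndex_le_of_le_left bot_le relIndex_ne_zero').trans h.i0.le)
  obtain ⟨w, w1, w2⟩ := exists_of_prime (h.ieq h1)
  obtain rfl : A = WW S Q Z 1 := (eq_or_eq_of_prime (h.ieq (h.Wne zero_le_one h1)) n.da ((le_inf n.an fun a b =>
    by_contra fun c => w2 ((h.mem_W (h.tS (n.an b)) c).2 ⟨h.Wq w1,
      Tr.comm' (n.t2 (h.ns.ge (mem_sup_left w1))) b⟩)).trans (h.inf h.Wq h.yQ).le)).resolve_left
    (lt_of_prime n.da n.i1).ne'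
  obtain ⟨τ, -, a, b, c, d⟩ := q.tor l m hl
  exact ⟨τ, a, n.na a, b, c, d⟩

theorem tower (h : PL p S Q Z E f g z y) (h2 : WW S Q Z 2 ≠ Q) (t1 : τ ∈ Nm (WW S Q Z 1 ⊔ zpowers y))
    (t2 : τ ∈ Nm (WW S Q Z 1)) (t3 : Cop p τ) (i : ℕ) : WW S Q Z i ≠ Q → ∃ σ ∈ Nm (WW S Q Z (i + 1) ⊔ zpowers y),
      σ ∈ Nm (WW S Q Z (i + 1)) ∧ Cop p σ ∧ σ⁻¹ * τ ∈ Cn (WW S Q Z 1 ⊔ zpowers y) := by
  induction i with
  | zero => exact fun _ => ⟨τ, t1, t2, t3, by simp⟩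
  | succ i ih =>
    intro e
    have e' := h.Wne (Nat.le_succ i) e
    obtain ⟨σ, a1, a2, a3, a4⟩ := ih e'
    obtain ⟨n, b1, b2, b3⟩ := ext_ch' h.sat (h.fn e) ((el_of_idx (h.pg.to_le h.tS) le_sup_left h.iT.le).Fr_le le_rfl)
      le_sup_left ((relIndex_le_of_le_left (h.fr i e') relIndex_ne_zero').trans (h.ile i)) h.iT.le (NS_le.trans h.Wn)
      a1 a2 a3
    rw [h.ns] at b1
    have b4 : n⁻¹ * τ ∈ Cn (WW S Q Z 1 ⊔ zpowers y) := by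
      simpa [mul_assoc] using mul_mem (centralizer_le (show WW S Q Z 1 ⊔ zpowers y ≤ _ from sup_le_sup_right
        (monotone_nat_of_le_succ (f := WW S Q Z) (fun _ => h.Ws) (Nat.le_add_left 1 i)) _) b3) a4
    refine ⟨n, b1, ?_, b2, b4⟩
    by_cases c : WW S Q Z (i + 1 + 1) = Q
    · rw [c, h.sup h.yS h.yQ] at b1
      rw [c]; exact h.ch h2 b1
    · obtain ⟨w, w1, w2⟩ := exists_of_prime (h.ieq (h.Wne (Nat.zero_le _) e))
      rw [← h.inf (h.cW _ c) fun d => w2 (h.c0 (h.Wq w1) (bot_of_Cn d w1))]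
      exact norm_inf b1 (norm_Cn (mem_of_inv_mul' t2 (Cn_le_Nm (centralizer_le
        (le_sup_left : WW S Q Z 1 ≤ WW S Q Z 1 ⊔ zpowers y) b4))))

theorem step (h : PL p S Q Z E f g z y) (hl : (p : ℤ) ∣ l * m - 1) (w1 : WtOn τ E Z m) (h1 : A ≤ C) (h2 : C ≤ Q)
    (n1 : S ≤ Nm B) (n2 : τ ∈ Nm B) (n3 : τ ∈ Nm A) (n4 : τ ∈ Nm C) (c1 : ∀ u ∈ A, ∀ s ∈ S, ⁅u, s⁆ ∈ B)
    (c2 : ∀ u ∈ C, ∀ s ∈ S, ⁅u, s⁆ ∈ A) (c3 : ∀ u ∈ C, ⁅u, y⁆ ∈ B → u ∈ A) (hi : A.relIndex C = p) {k : ℤ}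
    (w2 : WtOn τ A B k) : WtOn τ C A (k * l) := by
  have pC := h.pgQ.to_le h2
  have cS := h2.trans h.le
  obtain ⟨j, w3⟩ := exists_wt pC h1 hi n4 n3
  obtain ⟨u, u1, u2⟩ := exists_of_prime hi
  have := wt_dvd (pC.to_le h1) (cS.trans n1) (h.eS.trans n1) n2 h1 h.zE (fun _ a _ b => c1 _ a _ (h.eS b))
    (fun _ a _ b => h.zr b (cS a) ▸ one_mem _) (fun _ a _ b => c2 _ a _ (h.eS b)) (fun _ a _ b => c1 _ a _ (cS b))
    (fun _ a _ b => c1 _ a _ (h.eS b)) w3 w1 w2 u1 h.yE (mt (c3 u u1) u2)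
  exact w3.congr (fun _ => pow_mem_of_prime (norm_of_prime pC h1 hi) hi) (by
    rw [show j - k * l = (j * m - k) * l - j * (l * m - 1) by ring]; exact (this.mul_right l).sub (hl.mul_left j))

theorem wts (h : PL p S Q Z E f g z y) (hl : (p : ℤ) ∣ l * m - 1) (t1 : τ ∈ Nm S) (t2 : τ ∈ Nm Q) (w0 : WtOn τ Z ⊥ l)
    (w1 : WtOn τ E Z m) (i : ℕ) : WW S Q Z i ≠ Q → WtOn τ (WW S Q Z (i + 1)) (WW S Q Z i) (l ^ (i + 2)) := by
  have n := fun i => (h.Wb i).2.2 τ t1 t2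
  induction i with
  | zero =>
    exact fun e => sq l ▸ h.step hl w1 h.Ws h.Wq le_Nm_bot mem_Nm_bot (n 0) (n 1) (fun _ a _ b => h.zl a b)
      (fun _ a _ => h.Wc a) (fun _ a => h.c0 (h.Wq a)) (h.ieq e) w0
  | succ i ih =>
    exact fun e => pow_succ l (i + 2) ▸ h.step hl w1 h.Ws h.Wq h.Wn (n i) (n _) (n _) (fun _ a _ => h.Wc a)
      (fun _ a _ => h.Wc a) (fun _ a b => (h.mem_W h.yS h.yQ).2 ⟨h.Wq a, b⟩) (h.ieq e) (ih (h.Wne (Nat.le_succ i) e))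

theorem pearl (h : PL p S Q Z E f g z y) : Nat.card S = p ^ (p - 1) ∧ (∀ x ∈ S, x ^ p = 1) ∧
    (11 ≤ p ∨ p = 7 ∧ ∃ g, PC p 6 wG g ∧ KK g 6 0 = S ∧ g 5 ∈ Z) := by
  have pp : p.Prime := Fact.out
  obtain ⟨r, r1, r2, r3, r4, r5⟩ := h.exists_r
  obtain ⟨l, m, hl, hl'⟩ := exists_prim' p
  obtain ⟨τ, a1, a2, a3, a4, a5⟩ := h.base (h.Wne (by omega) r3) hl
  obtain ⟨σ, b1, b2, -, b4⟩ := h.tower (h.Wne (by omega) r3) a1 a2 a3 r r3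
  rw [r4] at b1 b2
  rw [h.sup h.yS h.yQ] at b1
  replace a4 := a4.of_eq fun _ a => same_of_Cn b4 (h.eT' (h.zE a))
  replace a5 := a5.of_eq fun _ a => same_of_Cn b4 (h.eT' a)
  have w := h.wts hl b1 b2 a4 a5
  obtain ⟨v, v1, v2⟩ := exists_of_prime (h.ieq (h.Wne (Nat.zero_le _) r3))
  obtain ⟨q, q1, q2⟩ : ∃ q ∈ Q, ⁅v, q⁆ ≠ 1 := by_contra fun c => v2 (h.eq.le ⟨h.Wq v1, mem_Cn_comm.2 fun q a =>
    comm_one_symm (by_contra fun d => c ⟨q, a, d⟩)⟩)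
  have d1 := wt_dvd h.pgZ le_Nm_bot le_Nm_bot mem_Nm_bot (h.Ws (i := 0)) (h.Wq (i := r)) (fun _ a _ b => h.zl a (h.le b))
    (fun _ a _ b => bot_of_Cn (h.cW r r3 b) a) (fun _ a _ b => h.el.1 _ (h.Wq a) _ b)
    (fun _ a _ b => h.zl a (h.le (h.Wq b))) (fun _ a _ b => h.zl a (h.le b)) (w 0 (h.Wne (Nat.zero_le _) r3))
    (r4 ▸ w r r3) a4 v1 q1 q2
  have d2 : p - 1 ∣ r + 3 := hl' _ (by_contra fun c => nd_pow hl c 1 (by convert d1 using 1; ring))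
  have d3 : r + 4 = p := by
    obtain ⟨j, hj⟩ := d2
    obtain ⟨t, rfl⟩ : ∃ t, p = t + 1 := ⟨p - 1, by omega⟩
    have : t ≠ 3 := fun c => absurd (c ▸ pp : Nat.Prime (3 + 1)) (by norm_num)
    rw [Nat.add_sub_cancel] at hj
    rcases j with _ | _ | j
    · omega
    · omega
    · have : t * 2 ≤ t * (j + 1 + 1) := Nat.mul_le_mul_left _ (by omega)
      omega
  have e1 : ∀ i ≤ r + 1, ∀ x ∈ WW S Q Z i, x ^ p = 1 := fun i => by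
    induction i with
    | zero => exact fun _ _ => h.zp
    | succ i ih =>
      exact fun a x hx => Wt.mem h.pgZ (h.el.2 x (h.Wq hx)) (a4 _ (h.el.2 x (h.Wq hx))) (wt_pow h.odd h.cl2 h.Wq
        (ih (by omega)) (h.Wq hx) (w i (h.Wne (by omega) r3) x hx)) (by
          convert nd_pow hl (k := i + 1) (fun c => absurd (Nat.le_of_dvd (by omega) (hl' _ c)) (by omega)) 1 using 2
          ring)
  replace e1 := r4 ▸ e1 _ le_rfl
  have c1 : Nat.card S = p ^ (p - 1) := by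
    rw [card_eq_mul' (h.zq.trans h.le), idx_mul h.zq h.le, h.cz, r5, h.idx, show p - 1 = r + 3 by omega]; ring
  have c2 := (h.sat.maxC h.ess (Or.inl h.card) c1).bot
  have e2 : ∀ x ∈ S, x ^ p = 1 := fun x hx => ((h.sup h.yS h.yQ).ge.trans (sup_le (fun _ a => ⟨h.le a, e1 _ a⟩)
    (zpowers_le.2 ⟨h.yS, h.yp⟩) : _ ≤ CF.Fgs2.powSub pp S ⊥ (fun _ a => e1 _ (commutator_le.2 (fun _ a _ =>
      comm_of_cyc h.nQ (h.sup h.yS h.yQ) (fun _ a _ => h.cq a) a) a)) ((Subgroup.lowerCentralSeries_antitone S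
      (Nat.sub_le _ 1)).trans (by rw [← map_LC, c2, Subgroup.map_bot]))) hx).2
  refine ⟨c1, e2, (em (p = 7)).symm.imp (fun c => by_contra fun d => ?_) fun c => ⟨c, ?_⟩⟩
  · have : 8 ≤ p := by omega
    have : p ≤ 10 := by omega
    interval_cases p <;> exact absurd pp (by norm_num)
  obtain rfl : r = 3 := by omega
  obtain ⟨n, hn⟩ := exists_nat_lin (f ⁅v, y⁆) (mt (h.one (h.Wq v1) q1).2 q2)
  have t1 := mul_mem h.yS (h.le (pow_mem q1 n))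
  have t2 : y * q ^ n ∉ Q := fun c => h.yQ ((Q.mul_mem_cancel_right (pow_mem q1 n)).1 c)
  have z1 := h.el.1 v (h.Wq v1) _ (pow_mem q1 n)
  have t3 := mem_Cn_sup (h.cS t1) (show ⁅v, y * q ^ n⁆ = 1 by
    rw [comm_mul_right' (h.cz' z1 h.yS)]
    exact h.fi _ (mul_mem (h.Wc v1 h.yS) z1) (by rw [h.fm _ (h.Wc v1 h.yS) _ z1, h.pr q1 (h.Wq v1), hn]))
  obtain ⟨x, x1, x2⟩ := exists_of_prime (h.ieq r3)
  exact h.pcG h.odd r5.le e1 t1 t2 (e2 _ t1) (h.Wq x1) (fun c => x2 (h.Wit t1 t2 3 x (h.Wq x1) c))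
    (mem_Cn_comm.1 t3 _ ((sup_zpowers_eq (h.ieq (h.Wne (Nat.zero_le _) r3)) h.Ws v1 v2).ge
      (h.Wc (h.Wc (h.Wc x1 t1) t1) t1)))

end PL

theorem exists_xs (hF : Sat (FT S) p) (hc : (FT S).core = ⊥) (hQ : Q ≤ S) (h1 : Nat.card (CS Q Q) = p)
    (h2 : ⁅Q, Q⁆ ≤ CS Q Q) (hi : Q.relIndex S = p) (h6 : p ^ 6 ≤ Nat.card S) :
    ∃ f, XS p S Q (CS Q Q) f ∧ p ^ 4 ≤ (CS Q Q).relIndex Q := by
  have pp : p.Prime := Fact.out
  obtain ⟨f, f1, f2⟩ := exists_log h1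
  have n := norm_of_prime hF.pg hQ hi
  have z1 := center_le_of_prime hF.pg hQ n h1
  have z2 : CS Q Q ≤ Q := CS_le
  have c := commutator_le.1 h2
  have big : p ^ 4 ≤ (CS Q Q).relIndex Q := Nat.le_of_mul_le_mul_left (Nat.le_of_mul_le_mul_right (by
    rw [card_eq_mul' (z2.trans hQ), idx_mul z2 hQ, h1, hi, ← mul_assoc] at h6
    exact le_of_eq_of_le (by ring) h6) pp.pos) pp.pos
  refine ⟨f, ⟨hF.pg, hQ, hi, h1, rfl, ⟨c, fun x hx => ⟨pow_mem hx p, mem_Cn_comm.2 fun y hy => comm_one_symm ?_⟩⟩,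
    le_antisymm (fun x hx => ?_) z1, f1, f2⟩, big⟩
  · rw [← zpow_natCast, comm_zpow_left (commute_of_Cn (c x hx y hy).2 hx).symm, zpow_natCast]
    exact pow_mem_of_prime le_Nm_bot ((relIndex_bot_left _).trans h1) (c x hx y hy)
  refine ⟨by_contra fun d => ?_, centralizer_le hQ hx.2⟩
  obtain ⟨E, hE⟩ := hF.exists_ess (fun e => d (bot_le (a := Q) (e.le hx.1))) hc
  have s := sup_zpowers_eq hi hQ hx.1 d
  have m := (Cn_symm (z1.trans inf_le_right)).trans Cn_le_Nm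
  have := (big.trans (relIndex_le_of_le_left (H := Q ⊓ CS S S) (fun u hu => ⟨hu.1, centralizer_le hQ hu.2.2⟩)
    relIndex_ne_zero')).trans ((idx_inf_le hQ).trans (hF.sq_of_ess hE h1 z1 (commutator_le.2 fun _ a _ =>
      comm_of_cyc m s (fun u hu v hv => comm_symm (comm_of_sup m s (fun w hw => c w hw u hu)
        (comm_symm (bot_of_Cn hx.2 (hQ hu))) hv)) a) le_rfl (hF.ess_lt hE)))
  exact absurd ((Nat.pow_le_pow_iff_right pp.one_lt).1 this) (by omega)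

theorem xsp_main (hF : Sat (FT S) p) (hp : p ≠ 2) (hc : (FT S).core = ⊥) (hQ : Q ≤ S) (h1 : Nat.card (CS Q Q) = p)
    (h2 : ⁅Q, Q⁆ ≤ CS Q Q) (hi : Q.relIndex S = p) (h6 : p ^ 6 ≤ Nat.card S) :
    (∃ P : Sylow p (Matrix.SpecialLinearGroup (Fin 4) (ZMod p)), Nonempty (S ≃* P)) ∨
      (∃ (K : Type) (_ : Field K) (_ : Fintype K), Fintype.card K = p ^ 2 ∧ ∃ P : Sylow p (SU 4 K p),
        Nonempty (S ≃* P)) ∨ (5 ≤ p ∧ ∃ P : Sylow p (Lie.G2 (ZMod p)), Nonempty (S ≃* P)) ∨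
      (11 ≤ p ∧ Nat.card S = p ^ (p - 1) ∧ (∀ x ∈ S, x ^ p = 1) ∧ ∃ E, (FT S).IsEssential p E ∧ Nat.card E = p ^ 2) := by
  obtain ⟨f, h, hb⟩ := exists_xs hF hc hQ h1 h2 hi h6
  generalize CS Q Q = Z at *
  obtain ⟨E, g, e, g1, g2⟩ := h.exists_ze hF hc hp hb
  by_cases c : ∃ k ∈ Nm E, k ∉ Nm Z ∧ Cj k Z ≤ Q
  · obtain ⟨k, k1, k2, k3⟩ := c
    obtain ⟨a, ⟨_, b⟩ | ⟨d, _, b⟩⟩ := e.caseA k1 k2 k3
    · exact .inl (let ⟨_, m⟩ := sl_model (p := p); h.iso (wB_ok 0 1 0) a b m)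
    · have := (Fact.out : p.Prime).five_le_of_ne_two_of_ne_three hp d
      exact .inr (.inr (.inl ⟨this, let ⟨_, m⟩ := g2_model this; h.iso wG_ok a b m⟩))
  obtain ⟨z, z1, z2⟩ := exists_of_prime h.i0
  have b : ZB p S Q Z E f g z _ := ⟨e, g1, g2, z1, z2, rfl, fun k k1 u u1 u2 u3 => by_contra fun d =>
    c ⟨k, k1, d, e.cj u1 u2 ▸ zpowers_le.2 u3⟩⟩
  by_cases d : ∃ x ∈ Q, x ∉ E ∧ ⁅x, g * z * g⁻¹⁆ ∈ Z
  · obtain ⟨x, x1, x2, x3⟩ := d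
    have q : PL p S Q Z E f g z _ := ⟨b, b.caseBa x1 x2 x3⟩
    obtain ⟨a1, a2, a3 | ⟨rfl, _, a3⟩⟩ := q.pearl
    · exact .inr (.inr (.inr ⟨a3, a1, a2, E, e.ess, q.card⟩))
    · exact .inr (.inr (.inl ⟨by omega, let ⟨_, m⟩ := g2_model (p := 7) (by omega); h.iso wG_ok a1 a3 m⟩))
  · obtain ⟨φ, f1, f2, f3⟩ := b.exists_phi
    obtain ⟨a1, δ, a2, _, a3⟩ := ZC.caseB ⟨b, fun x x1 x2 => by_contra fun x3 => d ⟨x, x1, x3, x2⟩, f1, f2, f3⟩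
    obtain ⟨K, _, _, a4, _, m⟩ := su_model hp a2
    exact .inr (.inl ⟨K, _, _, a4, h.iso (wB_ok 1 0 δ) a1 a3 m⟩)

end CF.FusC
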